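import Groth.Agent.PicSchLib.Repr
import Groth.Agent.FlatStratLib.Proj
import Groth.Agent.GenSeesawLib.PicProjOver
import Groth.Agent.GeomRedDesc.Basic
import Groth.Agent.AVLib.AmpleCrit
import Groth.Agent.GeomIrred.Basic
import Groth.Agent.AbDualLib.Rigid
import Groth.Agent.S0412
import Groth.Agent.S2156
import Groth.Agent.S7775
import Groth.Agent.S12413

/-!
# The geometric input to the Picard scheme of a projective family with integral geometric fibres
-/

set_option autoImplicit false
set_option backward.isDefEq.respectTransparency false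
set_option backward.isDefEq.respectTransparency.types false
set_option linter.style.haveILetI false
set_option maxHeartbeats 1000000

universe u

open CategoryTheory CategoryTheory.Limits AlgebraicGeometry TopologicalSpace Opposite
open Groth.Agent.PicLib

noncomputable section

namespace Groth.Agent.PicSch

variable {X S : Scheme.{u}}

theorem geometricallyIntegral_of_hint (p : X ⟶ S)
    (hint : ∀ (Ω : Type u) [Field Ω] [IsAlgClosed Ω] (s : Spec (CommRingCat.of Ω) ⟶ S), IsIntegral (pullback p s)) :
    GeometricallyIntegral p := by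
  rw [GeometricallyIntegral.eq_geometrically]
  intro K _ y Z fst snd h
  suffices hI : IsIntegral (pullback p y) by
    haveI : Nonempty ↥Z := ⟨h.isoPullback.inv (Classical.arbitrary _)⟩
    exact isIntegral_of_isOpenImmersion h.isoPullback.hom
  let L := AlgebraicClosure K
  let a : Spec (CommRingCat.of L) ⟶ Spec (CommRingCat.of K) := Spec.map (CommRingCat.ofHom (algebraMap K L))
  haveI : Surjective a := GeomIrred.surjective_specMap_field K L
  haveI : Subsingleton ↥(Spec (CommRingCat.of K)) := inferInstanceAs (Subsingleton (PrimeSpectrum K))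
  haveI := hint L (a ≫ y)
  let e := pullbackLeftPullbackSndIso p y a
  haveI : Nonempty ↥(pullback (pullback.snd p y) a) := ⟨e.inv (Classical.arbitrary _)⟩
  haveI : IsIntegral (pullback (pullback.snd p y) a) := isIntegral_of_isOpenImmersion e.hom
  haveI := AVLib.geometricallyIntegral_of_isIntegral (K := L) (pullback.snd (pullback.snd p y) a)
  haveI := GeomRedDesc.geometricallyIntegral_of_surjective (pullback.snd p y) a
  exact GeometricallyIntegral.isIntegral_of_subsingleton (pullback.snd p y)

theorem surjective_of_geometricallyIntegral (p : X ⟶ S) [GeometricallyIntegral p] : Surjective p := ⟨fun s => by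
  haveI : IsIntegral (p.fiber s) := inferInstance
  refine ⟨p.fiberι s (Classical.arbitrary _), ?_⟩
  have : p.fiberι s (Classical.arbitrary _) ∈ p ⁻¹' {s} := by
    rw [← p.range_fiberι s]; exact Set.mem_range_self _
  exact this⟩

/-- Sections exist locally for the étale topology. -/
theorem exists_etale_section (f : X ⟶ S) [Flat f] [LocallyOfFinitePresentation f] [GeometricallyIntegral f] (s : S) :
    ∃ (S' : Scheme.{u}) (g : S' ⟶ S), Etale g ∧ s ∈ Set.range g ∧ ∃ h : S' ⟶ X, h ≫ f = g := by
  let g := f.fiberToSpecResidueField s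
  haveI : IsIntegral (f.fiber s) := inferInstance
  haveI : GeometricallyIntegral g := inferInstanceAs (GeometricallyIntegral (pullback.snd f (S.fromSpecResidueField s)))
  haveI : ∀ t, LocallyOfFinitePresentation (f.fiberToSpecResidueField t) := fun t =>
    inferInstanceAs (LocallyOfFinitePresentation (pullback.snd f (S.fromSpecResidueField t)))
  haveI : IsIntegral (Spec (S.residueField s)) := inferInstance
  haveI : Surjective g := ⟨fun p => ⟨Classical.arbitrary _, Subsingleton.elim _ _⟩⟩
  obtain ⟨z, hz⟩ := (S7775.result (f.fiber s) (Spec (S.residueField s)) g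
    (inferInstanceAs (GeometricallyReduced (pullback.snd g _)))).nonempty
  obtain ⟨x, rfl⟩ : ∃ x, f.fiberι s z = x := ⟨_, rfl⟩
  have key : ∀ (x : X) (s : S) (z : f.fiber s), f.fiberι s z = x → f x = s →
      z ∈ (f.fiberToSpecResidueField s).smoothLocus → x ∈ f.smoothLocus := by
    intro x s z hzx hs hz
    subst hs
    haveI : LocallyOfFinitePresentation (f.fiberToSpecResidueField (f x)) :=
      inferInstanceAs (LocallyOfFinitePresentation (pullback.snd f (S.fromSpecResidueField (f x))))
    obtain rfl : z = f.asFiber x := (f.fiberι (f x)).isEmbedding.injective (hzx.trans (f.fiberι_asFiber x).symm)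
    exact (S2156.result f x).2 ⟨Flat.stalkMap f x, hz⟩
  have hfx : f (f.fiberι s z) = s := by
    have : f.fiberι s z ∈ f ⁻¹' {s} := by rw [← f.range_fiberι s]; exact Set.mem_range_self z
    exact this
  have hx := key _ s z rfl hfx hz
  haveI : Smooth (f.smoothLocus.ι ≫ f) := by
    rw [← Scheme.Hom.smoothLocus_eq_top_iff, ← Scheme.Hom.preimage_smoothLocus_eq, eq_top_iff]
    rintro z -
    exact z.2
  obtain ⟨S', e, s', he, hes, h, hh⟩ := S0412.result (f.smoothLocus.ι ≫ f) s ⟨⟨_, hx⟩, hfx⟩
  exact ⟨S', e, he, ⟨s', hes⟩, h ≫ f.smoothLocus.ι, (Category.assoc _ _ _).trans hh⟩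

variable {n : ℕ} (i : X ⟶ CohB1.ProjSpaceOver n S)

/-- The class of the twisting sheaf. -/
def ampleCls : Pic X := pull i (cls (GenSeesawLib.isInvertible_twistOver n S 1))

theorem isRelVeryAmplePn_twA [IsClosedImmersion i] {f : X ⟶ S} (hi : i ≫ CohB1.ProjSpaceOver.toBase n S = f)
    (T : Over S) : RelAmple.IsRelVeryAmplePn (PicF.XTproj f T) (rep (twA (f := f) (ampleCls i) T)) := by
  let sq := FlatStrat.isPullback_projMap (n := n) T.hom
  let iT : PicF.XT f T ⟶ CohB1.ProjSpaceOver n T.left :=
    sq.lift (pullback.fst f T.hom ≫ i) (PicF.XTproj f T) (by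
      rw [Category.assoc, hi]
      exact pullback.condition)
  have h₁ : iT ≫ FGA.projMap n T.hom = pullback.fst f T.hom ≫ i := sq.lift_fst _ _ _
  have h₂ : iT ≫ CohB1.ProjSpaceOver.toBase n T.left = PicF.XTproj f T := sq.lift_snd _ _ _
  have hsq : IsPullback (pullback.fst f T.hom) iT i (FGA.projMap n T.hom) := by
    refine IsPullback.of_bot ?_ h₁.symm sq
    rw [h₂, hi]
    exact IsPullback.of_hasPullback f T.hom
  haveI : IsClosedImmersion iT := MorphismProperty.of_isPullback (P := @IsClosedImmersion) hsq ‹_›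
  refine ⟨n, iT, inferInstance, h₂, (cls_eq_cls (isInvertible_rep _)
    (AmpleLib.isInvertible_pullback iT (GenSeesawLib.isInvertible_twistOver n T.left 1))).1 ?_⟩
  rw [cls_rep, ← pull_cls iT, twA, ampleCls, ← pull_comp, ← h₁, pull_comp]
  refine congrArg (pull iT) ?_
  rw [pull_cls]
  exact (cls_eq_cls _ (GenSeesawLib.isInvertible_twistOver n T.left 1)).2 ⟨FlatStrat.pullTwist T.hom 1⟩

theorem isRelPicK_of_isRelPic {f : X ⟶ S} {P : Over S} {φ : ∀ T : Over S, PicF.Cl (PicF.XT f T) → (T ⟶ P)}
    (h : PicRel.IsRelPic f P φ) : AbDual.IsRelPicK Scheme.fppfPrecoverage f P φ := by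
  have hmem : ∀ (T : Scheme.{u}) (ι : Type u) (U : ι → T.Etale), EtCoh.Covers U →
      Presieve.ofArrows (fun i => (U i).left) (fun i => (U i).hom) ∈ Scheme.fppfPrecoverage T := by
    intro T ι U hU
    rw [Scheme.fppfPrecoverage, Scheme.ofArrows_mem_precoverage_iff]
    refine ⟨fun x => hU x, fun i => ?_⟩
    haveI : Etale (U i).hom := (U i).prop
    exact ⟨inferInstance, inferInstance⟩
  refine ⟨h.natural, fun T g => ?_, fun T c c' hc hc' he => ?_⟩
  · obtain ⟨ι, U, hU, h'⟩ := h.locallySurjective T g
    exact ⟨_, hmem _ ι U hU, fun W w hw => by obtain ⟨i⟩ := hw; exact h' i⟩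
  · obtain ⟨ι, U, hU, h'⟩ := h.locallyInjective T c c' hc hc' he
    exact ⟨_, hmem _ ι U hU, fun W w hw => by obtain ⟨i⟩ := hw; exact h' i⟩

/-- The Picard scheme of a projective flat family with integral geometric fibres. -/
theorem exists_picard [IsLocallyNoetherian S] [IsClosedImmersion i] (f : X ⟶ S) (hi : i ≫ CohB1.ProjSpaceOver.toBase n S = f)
    [Flat f] (hint : ∀ (Ω : Type u) [Field Ω] [IsAlgClosed Ω] (s : Spec (CommRingCat.of Ω) ⟶ S), IsIntegral (pullback f s)) :
    ∃ (P : Over S) (R : (picFun f).RepresentableBy P), PicRel.IsRelPic f P (phi R) ∧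
      IsSeparated P.hom ∧ LocallyOfFiniteType P.hom := by
  haveI : IsProper (CohB1.ProjSpaceOver.toBase n S) := BCLib.isProper_toBase n S
  haveI : IsProper f := by rw [← hi]; infer_instance
  haveI : LocallyOfFinitePresentation f := S14008.lfp_of_lft f
  haveI := geometricallyIntegral_of_hint f hint
  haveI := surjective_of_geometricallyIntegral f
  haveI : IsProper (Over.mk f).hom := ‹IsProper f›
  haveI : Flat (Over.mk f).hom := ‹Flat f›
  haveI : GeometricallyIntegral (Over.mk f).hom := ‹GeometricallyIntegral f›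
  have ha : InvDescLib.UnivConst f := AbDualLib.univConst (Over.mk f)
  have hA := isRelVeryAmplePn_twA i hi
  obtain ⟨𝒜⟩ := nonempty_atlas ha i hi
  obtain ⟨P, ⟨R⟩⟩ := exists_representableBy (ampleCls i) 𝒜 ha hA
  have hP := isRelPic_phi ha (exists_etale_section f) R
  exact ⟨P, R, hP, S12413.result f P _ (isRelPicK_of_isRelPic hP),
    locallyOfFiniteType_of_atlas (ampleCls i) R ha 𝒜 hA⟩

end Groth.Agent.PicSch
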