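import Groth.Agent.PicSchLib.Local
import Groth.Agent.PicLimLib.Descend
import Groth.Agent.PropPi1.LimBC

/-!
# Classes on a relative scheme come locally from Noetherian bases
-/

set_option autoImplicit false
set_option backward.isDefEq.respectTransparency false
set_option backward.isDefEq.respectTransparency.types false
set_option linter.style.haveILetI false
set_option maxHeartbeats 1000000

universe u

open CategoryTheory CategoryTheory.Limits AlgebraicGeometry TopologicalSpace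
open Groth.Agent.PicLib

noncomputable section

namespace Groth.Agent.PicSch

variable {X S : Scheme.{u}} {f : X ⟶ S}

/-- Locally on the base a class is the inverse image of a class over an affine Noetherian base. -/
theorem exists_model [IsLocallyNoetherian S] [IsProper f] (T : Over S) (z : T.left) (a : Pic (PicF.XT f T)) :
    ∃ (W : T.left.Opens) (_ : z ∈ W) (T₀ : Over S) (_ : IsNoetherian T₀.left) (_ : IsAffine T₀.left)
      (g : AbDual.ovr T W.ι ⟶ T₀) (a₀ : Pic (PicF.XT f T₀)),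
      pull (PicF.XTmap f g) a₀ = pull (PicF.XTmap f (AbDual.ovrHom T W.ι)) a := by
  obtain ⟨V, hV, hzV, -⟩ := exists_isAffineOpen_mem_and_subset (x := T.hom z) (U := ⊤) trivial
  obtain ⟨W, hW, hzW, hWV⟩ := exists_isAffineOpen_mem_and_subset (x := z) (U := T.hom ⁻¹ᵁ V) hzV
  haveI : IsNoetherianRing Γ(S, V) := IsLocallyNoetherian.component_noetherian ⟨V, hV⟩
  letI : Algebra Γ(S, V) Γ(T.left, W) := (T.hom.appLE V W hWV).hom.toAlgebra
  let D := PropPi1.fgSys Γ(S, V) Γ(T.left, W)
  let c := PropPi1.fgCone Γ(S, V) Γ(T.left, W)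
  let t : D ⟶ (Functor.const _).obj S :=
    PropPi1.fgToBase Γ(S, V) Γ(T.left, W) ≫ (Functor.const _).map hV.fromSpec
  let g₀ : c.pt ⟶ S := Spec.map (CommRingCat.ofHom (algebraMap Γ(S, V) Γ(T.left, W))) ≫ hV.fromSpec
  have hg : ∀ j, c.π.app j ≫ t.app j = g₀ := fun j => by
    show c.π.app j ≫ (PropPi1.fgToBase Γ(S, V) Γ(T.left, W)).app j ≫ hV.fromSpec = _
    rw [← Category.assoc, PropPi1.fgCone_toBase]
  obtain ⟨hlim⟩ := PropPi1.nonempty_isLimit_bcCone t f c g₀ hg (PropPi1.isLimitFgCone _ _)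
  let E := PropPi1.bcDiag t f
  haveI : ∀ {i j} (φ : i ⟶ j), IsAffineHom (E.map φ) := fun φ => PropPi1.isAffineHom_bcDiag t f φ
  haveI hD : ∀ j, IsAffine (D.obj j) := fun j => inferInstance
  haveI : ∀ j, CompactSpace (E.obj j) := fun j =>
    QuasiCompact.compactSpace_of_compactSpace (pullback.snd f (t.app j))
  haveI : ∀ j, QuasiSeparatedSpace (E.obj j) := fun j =>
    quasiSeparatedSpace_of_quasiSeparated (pullback.snd f (t.app j))
  let T₁ : Over S := Over.mk g₀
  have hh : hW.isoSpec.hom ≫ g₀ = W.ι ≫ T.hom := by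
    rw [show g₀ = hW.fromSpec ≫ T.hom from IsAffineOpen.SpecMap_appLE_fromSpec T.hom hV hW hWV, ← Category.assoc,
      show hW.isoSpec.hom ≫ hW.fromSpec = W.ι by simp [IsAffineOpen.isoSpec_hom]]
  let e : AbDual.ovr T W.ι ⟶ T₁ := Over.homMk hW.isoSpec.hom hh
  let e' : T₁ ⟶ AbDual.ovr T W.ι := Over.homMk hW.isoSpec.inv (by
    show hW.isoSpec.inv ≫ W.ι ≫ T.hom = g₀
    rw [← hh, Iso.inv_hom_id_assoc])
  let aW := pull (PicF.XTmap f (AbDual.ovrHom T W.ι)) a
  obtain ⟨L, hL, hLa⟩ := exists_cls (pull (PicF.XTmap f e') aW)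
  obtain ⟨j, M, hM, ⟨φ⟩⟩ := PicLimLib.exists_invertible_stage E (PropPi1.bcCone t f c g₀ hg) hlim (L := L) hL
  let T₀ : Over S := Over.mk (t.app j)
  let q : T₁ ⟶ T₀ := Over.homMk (c.π.app j) (hg j)
  haveI : IsNoetherianRing j.unop.1 :=
    haveI : Algebra.FiniteType Γ(S, V) j.unop.1 := Subalgebra.fg_iff_finiteType _ |>.1 j.unop.2
    Algebra.FiniteType.isNoetherianRing Γ(S, V) _
  refine ⟨W, hzW, T₀, inferInstanceAs (IsNoetherian (Spec (CommRingCat.of j.unop.1))), hD j, e ≫ q, cls hM, ?_⟩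
  have h1 : pull (PicF.XTmap f q) (cls hM) = pull (PicF.XTmap f e') aW := by
    refine (pull_cls _ hM).trans (((cls_eq_cls _ hL).2 ⟨?_⟩).trans hLa)
    exact φ
  rw [← pull_pull_XTmap, h1, pull_pull_XTmap,
    show e ≫ e' = 𝟙 _ from Over.OverMorphism.ext hW.isoSpec.hom_inv_id,
    show PicF.XTmap f (𝟙 (AbDual.ovr T W.ι)) = 𝟙 _ by
      apply pullback.hom_ext
      · exact (pullback.lift_fst _ _ _).trans ((Category.comp_id _).trans (Category.id_comp _).symm)
      · exact (pullback.lift_snd _ _ _).trans ((Category.comp_id _).trans (Category.id_comp _).symm), pull_id]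

end Groth.Agent.PicSch
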