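import Groth.Agent.PicSchLib.Local
import Groth.Agent.PicRepLib.SmallPic

/-!
# The sheafified relative Picard functor through compatible classes at the universal point
-/

set_option autoImplicit false
set_option backward.isDefEq.respectTransparency false
set_option backward.isDefEq.respectTransparency.types false
set_option linter.style.haveILetI false
set_option maxHeartbeats 1000000

universe u

open CategoryTheory CategoryTheory.Limits AlgebraicGeometry TopologicalSpace Opposite
open Groth.Agent.PicLib Groth.Agent.SchDesc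

noncomputable section

namespace Groth.Agent.PicSch

variable {X S : Scheme.{u}} {f : X ⟶ S} {T T' T'' : Over S}

/-- The class does not depend on the point, up to classes of the base. -/
def Compat (a : Pic (PicF.XT f (pX f T))) : Prop :=
  ∀ (Y : Over S) (k k' : Y ⟶ pX f T), k ≫ pπ f T = k' ≫ pπ f T →
    BEq (pull (PicF.XTmap f k) a) (pull (PicF.XTmap f k') a)

theorem XTmap_fst' (g : T' ⟶ T) : PicF.XTmap f g ≫ pullback.fst f T.hom = pullback.fst f T'.hom :=
  (pullback.lift_fst _ _ _).trans (Category.comp_id _)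

variable (f) in
/-- Elements of the sheafified functor. -/
def El (T : Over S) : Type (u + 1) :=
  {a : Pic (PicF.XT f (pX f T)) // pull (sec f (pX f T) (pt f T) pt_f) a = 1 ∧ Compat a}

instance small_el (T : Over S) : Small.{u} (El f T) :=
  inferInstanceAs (Small.{u} {a : Pic (PicF.XT f (pX f T)) // _})

theorem sec_congr {y y' : T.left ⟶ X} (h : y = y') (hy : y ≫ f = T.hom) (hy' : y' ≫ f = T.hom) :
    sec f T y hy = sec f T y' hy' := by
  subst h
  rfl

theorem pull_sec_pt (g : T' ⟶ T) (a : Pic (PicF.XT f (pX f T))) :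
    pull (sec f (pX f T') (pt f T') pt_f) (pull (PicF.XTmap f (pXmap f g)) a) =
      pull (pXmap f g).left (pull (sec f (pX f T) (pt f T) pt_f) a) := by
  rw [sec_congr (pXmap_pt g).symm pt_f (by rw [Category.assoc, pt_f, Over.w])]
  exact pull_sec_XTmap (pXmap f g) _ _ a

/-- Functoriality of elements. -/
def mapEl (g : T' ⟶ T) (s : El f T) : El f T' :=
  ⟨pull (PicF.XTmap f (pXmap f g)) s.1, by rw [pull_sec_pt, s.2.1, map_one], fun Y k k' h => by
    rw [pull_pull_XTmap, pull_pull_XTmap]
    exact s.2.2 Y _ _ (by rw [Category.assoc, Category.assoc, pXmap_π, reassoc_of% h])⟩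

theorem mapEl_id (s : El f T) : mapEl (𝟙 T) s = s :=
  Subtype.ext (by
    show pull _ s.1 = s.1
    rw [pXmap_id, show PicF.XTmap f (𝟙 (pX f T)) = 𝟙 _ by apply pullback.hom_ext <;> simp [PicF.XTmap], pull_id])

theorem mapEl_comp (g' : T'' ⟶ T') (g : T' ⟶ T) (s : El f T) : mapEl g' (mapEl g s) = mapEl (g' ≫ g) s :=
  Subtype.ext (by
    show pull _ (pull _ s.1) = pull _ s.1
    rw [pull_pull_XTmap, pXmap_comp])

/-- The element of a class. -/
def cl (b : Pic (PicF.XT f T)) : El f T :=
  ⟨rigAt (pt f T) pt_f (pull (PicF.XTmap f (pπ f T)) b), rigAt_rigid _ _ _, fun Y k k' h => by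
    refine ((beq_rigAt _ _ _).pull k).symm.trans (BEq.trans ?_ ((beq_rigAt _ _ _).pull k'))
    rw [pull_pull_XTmap, pull_pull_XTmap, h]
    exact BEq.refl _⟩

theorem beq_cl (b : Pic (PicF.XT f T)) : BEq (pull (PicF.XTmap f (pπ f T)) b) (cl b).1 := beq_rigAt _ _ _

theorem cl_congr {b b' : Pic (PicF.XT f T)} (h : BEq b b') : cl b = cl b' :=
  Subtype.ext (rigAt_congr _ _ (h.pull _))

/-- Two elements agree if their classes differ by a class of the base. -/
theorem el_ext {s t : El f T} (h : BEq s.1 t.1) : s = t :=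
  Subtype.ext (BEq.eq_of_rigid _ _ h s.2.1 t.2.1)

theorem mapEl_cl (g : T' ⟶ T) (b : Pic (PicF.XT f T)) : mapEl g (cl b) = cl (pull (PicF.XTmap f g) b) := by
  refine el_ext (((beq_cl b).pull (pXmap f g)).symm.trans (BEq.trans ?_ (beq_cl _)))
  rw [pull_pull_XTmap, pull_pull_XTmap, pXmap_π]
  exact BEq.refl _

/-- An element is the class of its value at a point. -/
theorem eq_cl_of_point (s : El f T) (y : T.left ⟶ X) (hy : y ≫ f = T.hom) :
    s = cl (pull (PicF.XTmap f (pLift (𝟙 T) y hy)) s.1) := by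
  refine el_ext (BEq.trans ?_ (beq_cl _))
  rw [pull_pull_XTmap]
  have h := s.2.2 (pX f T) (𝟙 _) (pπ f T ≫ pLift (𝟙 T) y hy) (by simp)
  rwa [show PicF.XTmap f (𝟙 (pX f T)) = 𝟙 _ by apply pullback.hom_ext <;> simp [PicF.XTmap], pull_id] at h

/-- The value of an element at a point of a scheme over `T`. -/
theorem mapEl_eq_cl (s : El f T) (g : T' ⟶ T) (y : T'.left ⟶ X) (hy : y ≫ f = T'.hom) :
    mapEl g s = cl (pull (PicF.XTmap f (pLift g y hy)) s.1) := by
  rw [eq_cl_of_point (mapEl g s) y hy]
  refine congrArg cl ?_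
  show pull _ (pull _ s.1) = _
  rw [pull_pull_XTmap]
  congr 3
  exact pX_hom_ext (by simp) (by simp)

variable (f) in
/-- The functor. -/
def picFun : (Over S)ᵒᵖ ⥤ Type u where
  obj T := Shrink.{u} (El f T.unop)
  map g := TypeCat.ofHom fun x => equivShrink _ (mapEl g.unop ((equivShrink _).symm x))
  map_id T := ConcreteCategory.hom_ext _ _ fun x =>
    ((equivShrink _).symm_apply_eq.1 (mapEl_id _).symm).symm
  map_comp g g' := ConcreteCategory.hom_ext _ _ fun x => by
    refine congrArg (equivShrink _) ?_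
    refine Eq.trans ?_ (congrArg (mapEl g'.unop) ((equivShrink _).symm_apply_apply _)).symm
    exact (mapEl_comp _ _ _).symm

/-- The element of a section. -/
def toEl (x : (picFun f).obj (op T)) : El f T := (equivShrink _).symm x

/-- The section of an element. -/
def ofEl (s : El f T) : (picFun f).obj (op T) := equivShrink _ s

theorem toEl_ofEl (s : El f T) : toEl (ofEl s) = s := (equivShrink _).symm_apply_apply _

theorem ofEl_toEl (x : (picFun f).obj (op T)) : ofEl (toEl x) = x := (equivShrink _).apply_symm_apply _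

theorem toEl_injective : Function.Injective (toEl (f := f) (T := T)) := (equivShrink _).symm.injective

theorem toEl_map (g : T' ⟶ T) (x : (picFun f).obj (op T)) :
    toEl ((picFun f).map g.op x) = mapEl g (toEl x) :=
  (equivShrink _).symm_apply_apply _

variable (ha : InvDescLib.UnivConst f)
include ha

/-- Two classes give the same element exactly when they differ by a class of the base. -/
theorem cl_eq_iff [Flat f] [LocallyOfFinitePresentation f] [Surjective f] {b b' : Pic (PicF.XT f T)} :
    cl b = cl b' ↔ BEq b b' := by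
  refine ⟨fun h => ?_, cl_congr⟩
  haveI := flat_pπ (f := f) (T := T)
  haveI := lfp_pπ (f := f) (T := T)
  haveI := surjective_pπ (f := f) (T := T)
  exact beq_of_hom ha (pπ f T) ((beq_cl b).trans (h ▸ (beq_cl b').symm))

/-- Elements agreeing after a covering agree. -/
theorem el_ext_of_hom (g : T' ⟶ T) [Flat g.left] [LocallyOfFinitePresentation g.left] [Surjective g.left]
    {s t : El f T} (h : mapEl g s = mapEl g t) : s = t := by
  haveI : Flat (pXmap f g).left := MorphismProperty.of_isPullback (P := @Flat) (isPullback_pXmap g).flip ‹_›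
  haveI : LocallyOfFinitePresentation (pXmap f g).left :=
    MorphismProperty.of_isPullback (P := @LocallyOfFinitePresentation) (isPullback_pXmap g).flip ‹_›
  haveI : Surjective (pXmap f g).left :=
    MorphismProperty.of_isPullback (P := @Surjective) (isPullback_pXmap g).flip ‹_›
  refine el_ext (beq_of_hom ha (pXmap f g) ?_)
  rw [show pull (PicF.XTmap f (pXmap f g)) s.1 = (mapEl g s).1 from rfl, h]
  exact BEq.refl _

/-- Elements descend along coverings. -/
theorem exists_el_descend {U : Scheme.{u}} (u : U ⟶ T.left) [Flat u] [LocallyOfFinitePresentation u] [Surjective u]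
    (s : El f (AbDual.ovr T u))
    (hs : mapEl (AbDual.ovrHom (AbDual.ovr T u) (pullback.fst u u)) s =
      mapEl (Over.homMk (pullback.snd u u) (pullback.condition_assoc T.hom).symm :
        AbDual.ovr (AbDual.ovr T u) (pullback.fst u u) ⟶ AbDual.ovr T u) s) :
    ∃ t : El f T, mapEl (AbDual.ovrHom T u) t = s := by
  let TU := AbDual.ovr T u
  let TUU := AbDual.ovr TU (pullback.fst u u)
  let g : TU ⟶ T := AbDual.ovrHom T u
  let k₁ : TUU ⟶ TU := AbDual.ovrHom TU (pullback.fst u u)
  let k₂ : TUU ⟶ TU := Over.homMk (pullback.snd u u) (pullback.condition_assoc T.hom).symm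
  let h := (pXmap f g).left
  haveI : Flat h := MorphismProperty.of_isPullback (P := @Flat) (isPullback_pXmap g).flip ‹_›
  haveI : LocallyOfFinitePresentation h :=
    MorphismProperty.of_isPullback (P := @LocallyOfFinitePresentation) (isPullback_pXmap g).flip ‹_›
  haveI : Surjective h := MorphismProperty.of_isPullback (P := @Surjective) (isPullback_pXmap g).flip ‹_›
  have hsq := InvDescLib.isPullback_map (f := f) (pXmap f g)
  let e := hsq.isoPullback
  let σ := sec f (pX f T) (pt f T) pt_f
  let σU := sec f (pX f TU) (pt f TU) pt_f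
  let a := pull e.inv s.1
  let P := PicF.XTproj f (pX f T)
  let σ' : (pX f TU).left ⟶ pullback P h := σU ≫ e.hom
  have hσ₁ : σ' ≫ pullback.fst P h = h ≫ σ := by
    simp only [σ', σU, σ, Category.assoc]
    rw [show e.hom ≫ pullback.fst P h = PicF.XTmap f (pXmap f g) from hsq.isoPullback_hom_fst]
    rw [sec_congr (pXmap_pt g).symm pt_f (by rw [Category.assoc, pt_f, Over.w])]
    exact sec_XTmap (pXmap f g) _ _
  have hσ₂ : σ' ≫ pullback.snd P h = 𝟙 _ := by
    simp only [σ', σU, Category.assoc]
    rw [show e.hom ≫ pullback.snd P h = PicF.XTproj f (pX f TU) from hsq.isoPullback_hom_snd]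
    exact sec_proj _ _
  have hrig : pull σ' a = 1 := by
    rw [← pull_comp, show σ' ≫ e.inv = σU by simp [σ']]
    exact s.2.1
  let G := pullback (pullback.fst P h) (pullback.fst P h)
  let p₁ : G ⟶ pullback P h := pullback.fst _ _
  let p₂ : G ⟶ pullback P h := pullback.snd _ _
  have hp : p₁ ≫ pullback.fst P h = p₂ ≫ pullback.fst P h := pullback.condition
  let z₁ := p₁ ≫ pullback.snd P h
  let z₂ := p₂ ≫ pullback.snd P h
  have hz : z₁ ≫ h = z₂ ≫ h := by
    simp only [z₁, z₂, Category.assoc, ← pullback.condition (f := P) (g := h), reassoc_of% hp]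
  have hpt : z₂ ≫ pt f TU = z₁ ≫ pt f TU := by
    rw [← pXmap_pt (f := f) g, ← Category.assoc, ← Category.assoc, hz]
  have hπh : h ≫ (pπ f T).left = (pπ f TU).left ≫ u :=
    congrArg CommaMorphism.left (pXmap_π (f := f) g)
  let q : G ⟶ (pX f TUU).left := pullback.lift
    (pullback.lift (z₁ ≫ (pπ f TU).left) (z₂ ≫ (pπ f TU).left) (by
      calc (z₁ ≫ (pπ f TU).left) ≫ u = (z₁ ≫ h) ≫ (pπ f T).left :=
          (Category.assoc _ _ _).trans ((congrArg (z₁ ≫ ·) hπh.symm).trans (Category.assoc _ _ _).symm)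
        _ = (z₂ ≫ h) ≫ (pπ f T).left := congrArg (· ≫ (pπ f T).left) hz
        _ = (z₂ ≫ (pπ f TU).left) ≫ u :=
          (Category.assoc _ _ _).trans ((congrArg (z₂ ≫ ·) hπh).trans (Category.assoc _ _ _).symm)))
    (z₁ ≫ pt f TU) (by
      show pullback.lift _ _ _ ≫ pullback.fst u u ≫ u ≫ T.hom = (z₁ ≫ pt f TU) ≫ f
      rw [pullback.lift_fst_assoc, Category.assoc z₁ (pt f TU) f, pt_f, Category.assoc]
      rfl)
  have hq₁ : q ≫ (pXmap f k₁).left = z₁ := by
    apply pullback.hom_ext
    · show (q ≫ (pXmap f k₁).left) ≫ (pπ f TU).left = z₁ ≫ (pπ f TU).left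
      rw [Category.assoc, show (pXmap f k₁).left ≫ (pπ f TU).left = (pπ f TUU).left ≫ k₁.left from
        congrArg CommaMorphism.left (pXmap_π k₁)]
      simp [q, pπ, k₁]
    · show (q ≫ (pXmap f k₁).left) ≫ pt f TU = z₁ ≫ pt f TU
      rw [Category.assoc, pXmap_pt]
      exact pullback.lift_snd _ _ _
  have hq₂ : q ≫ (pXmap f k₂).left = z₂ := by
    apply pullback.hom_ext
    · show (q ≫ (pXmap f k₂).left) ≫ (pπ f TU).left = z₂ ≫ (pπ f TU).left
      rw [Category.assoc, show (pXmap f k₂).left ≫ (pπ f TU).left = (pπ f TUU).left ≫ k₂.left from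
        congrArg CommaMorphism.left (pXmap_π k₂)]
      simp [q, pπ, k₂]
    · show (q ≫ (pXmap f k₂).left) ≫ pt f TU = z₂ ≫ pt f TU
      rw [Category.assoc, pXmap_pt, hpt]
      exact pullback.lift_snd _ _ _
  let m : G ⟶ PicF.XT f (pX f TUU) := pullback.lift (p₁ ≫ pullback.fst P h ≫ pullback.fst f (pX f T).hom) q (by
    rw [← Over.w (pXmap f k₁), reassoc_of% hq₁, Category.assoc, Category.assoc, pullback.condition,
      show (pX f TU).hom = h ≫ (pX f T).hom from (Over.w (pXmap f g)).symm]
    simp only [z₁, Category.assoc, ← pullback.condition_assoc]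
    rfl)
  have hm : ∀ (k : TUU ⟶ TU) (z : G ⟶ pullback P h), p₁ ≫ pullback.fst P h = z ≫ pullback.fst P h →
      q ≫ (pXmap f k).left = z ≫ pullback.snd P h → z ≫ e.inv = m ≫ PicF.XTmap f (pXmap f k) := by
    intro k z h₁ h₂
    apply pullback.hom_ext
    · rw [Category.assoc, Category.assoc, XTmap_fst', pullback.lift_fst]
      rw [reassoc_of% h₁, ← hsq.isoPullback_inv_fst, Category.assoc, XTmap_fst']
    · show (z ≫ e.inv) ≫ PicF.XTproj f _ = (m ≫ PicF.XTmap f (pXmap f k)) ≫ PicF.XTproj f _
      rw [Category.assoc, Category.assoc, hsq.isoPullback_inv_snd, InvDescLib.XTmap_proj,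
        show m ≫ PicF.XTproj f (pX f TUU) ≫ (pXmap f k).left = q ≫ (pXmap f k).left from
          (Category.assoc _ _ _).symm.trans (congrArg (· ≫ _) (pullback.lift_snd _ _ _)), h₂]
  have hglue : pull p₁ a = pull p₂ a := by
    rw [← pull_comp, ← pull_comp, hm k₁ p₁ rfl hq₁, hm k₂ p₂ hp hq₂, pull_comp, pull_comp]
    exact congrArg (pull m) (congrArg Subtype.val hs)
  obtain ⟨b, ⟨hb₁, hb₂⟩, -⟩ := InvDescLib.existsUnique_pic_descends (InvDescLib.univConst_XTproj ha (pX f T)) σ
    (sec_proj _ _) h σ' hσ₁ hσ₂ a hrig hglue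
  have hb : pull (PicF.XTmap f (pXmap f g)) b = s.1 := by
    rw [show PicF.XTmap f (pXmap f g) = e.hom ≫ pullback.fst P h from hsq.isoPullback_hom_fst.symm, pull_comp, hb₂,
      InvDescLib.pull_pull_of_id e.hom_inv_id]
  have hb_compat : Compat b := fun Y k k' hk => by
    let y : Y.left ⟶ T.left := (k ≫ pπ f T).left
    let v : AbDual.ovr Y (pullback.fst y u) ⟶ Y := AbDual.ovrHom Y (pullback.fst y u)
    let w : AbDual.ovr Y (pullback.fst y u) ⟶ TU := Over.homMk (pullback.snd y u) (by
      show pullback.snd y u ≫ u ≫ T.hom = pullback.fst y u ≫ Y.hom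
      rw [← pullback.condition_assoc, Over.w])
    have hvw : v ≫ k ≫ pπ f T = w ≫ g := Over.OverMorphism.ext pullback.condition
    haveI : Flat v.left := inferInstanceAs (Flat (pullback.fst y u))
    haveI : LocallyOfFinitePresentation v.left :=
      inferInstanceAs (LocallyOfFinitePresentation (pullback.fst y u))
    haveI : Surjective v.left := inferInstanceAs (Surjective (pullback.fst y u))
    refine beq_of_hom ha v ?_
    rw [pull_pull_XTmap, pull_pull_XTmap]
    have hl : ∀ (l : Y ⟶ pX f T), l ≫ pπ f T = k ≫ pπ f T → ∃ j : AbDual.ovr Y (pullback.fst y u) ⟶ pX f TU,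
        j ≫ pπ f TU = w ∧ j ≫ pXmap f g = v ≫ l := fun l hl => by
      refine ⟨pLift w (v.left ≫ l.left ≫ pt f T) (by simp [pt_f]), pLift_π _ _ _, pX_hom_ext ?_ ?_⟩
      · rw [Category.assoc, pXmap_π, pLift_π_assoc, Category.assoc, hl, hvw]
      · rw [Over.comp_left, Category.assoc, pXmap_pt, pLift_pt, Over.comp_left, Category.assoc]
    obtain ⟨j, hj, hj'⟩ := hl k rfl
    obtain ⟨j', hj₂, hj₂'⟩ := hl k' hk.symm
    rw [← hj', ← hj₂', ← pull_pull_XTmap, ← pull_pull_XTmap, hb]
    exact s.2.2 _ j j' (hj.trans hj₂.symm)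
  exact ⟨⟨b, hb₁, hb_compat⟩, Subtype.ext hb⟩

end Groth.Agent.PicSch
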