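import Groth.Agent.PicSchLib.Pt
import Groth.Agent.GenSeesawLib.Scheme
import Groth.Agent.GenSeesawLib.Closed

/-!
# The relation of having the same class
-/

set_option autoImplicit false
set_option backward.isDefEq.respectTransparency false
set_option backward.isDefEq.respectTransparency.types false
set_option linter.style.haveILetI false
set_option maxHeartbeats 1000000

universe u

open CategoryTheory CategoryTheory.Limits AlgebraicGeometry TopologicalSpace Opposite
open Groth.Agent.PicLib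

noncomputable section

namespace Groth.Agent.PicSch

variable {X S : Scheme.{u}} {f : X ⟶ S} [IsProper f] [Flat f] [LocallyOfFinitePresentation f] [GeometricallyIntegral f]

/-- The closed locus where a class comes from the base. -/
theorem exists_base_locus {Y : Over S} (δ : Pic (PicF.XT f Y)) :
    ∃ (R : Scheme.{u}) (ι : R ⟶ Y.left), IsClosedImmersion ι ∧ LocallyOfFinitePresentation ι ∧
      ∀ (T : Over S) (g : T ⟶ Y), (∃ r, r ≫ ι = g.left) ↔ BEq 1 (pull (PicF.XTmap f g) δ) := by
  let π := PicF.XTproj f Y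
  haveI : IsProper π := inferInstanceAs (IsProper (pullback.snd f Y.hom))
  haveI : Flat π := inferInstanceAs (Flat (pullback.snd f Y.hom))
  haveI : LocallyOfFinitePresentation π := inferInstanceAs (LocallyOfFinitePresentation (pullback.snd f Y.hom))
  haveI : GeometricallyIntegral π := inferInstanceAs (GeometricallyIntegral (pullback.snd f Y.hom))
  obtain ⟨L, hL, rfl⟩ := exists_cls δ
  obtain ⟨R, ι, hι, hι', hR⟩ := GenSeesawLib.exists_seesaw_subscheme π hL
  refine ⟨R, ι, hι, hι', fun T g => ?_⟩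
  rw [hR T.left g.left]
  let e := (InvDescLib.isPullback_map (f := f) g).isoPullback
  have e₁ : e.hom ≫ pullback.fst π g.left = PicF.XTmap f g := IsPullback.isoPullback_hom_fst _
  have e₂ : e.hom ≫ pullback.snd π g.left = PicF.XTproj f T := IsPullback.isoPullback_hom_snd _
  have key : ∀ (M : T.left.Modules) (hM : PicF.IsInvertible M),
      Nonempty ((Scheme.Modules.pullback (pullback.snd π g.left)).obj M ≅
        (Scheme.Modules.pullback (pullback.fst π g.left)).obj L) ↔
      pull (PicF.XTproj f T) (cls hM) = pull (PicF.XTmap f g) (cls hL) := fun M hM => by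
    rw [← cls_eq_cls (AmpleLib.isInvertible_pullback _ hM) (AmpleLib.isInvertible_pullback _ hL), ← pull_cls _ hM,
      ← pull_cls _ hL, ← e₁, ← e₂, pull_comp, pull_comp]
    refine ⟨fun h => congrArg _ h, fun h => ?_⟩
    have h' := congrArg (pull e.inv) h
    rwa [InvDescLib.pull_pull_of_id e.inv_hom_id, InvDescLib.pull_pull_of_id e.inv_hom_id] at h'
  constructor
  · rintro ⟨M, hM, h⟩
    exact ⟨cls hM, ((one_mul _).trans ((key M hM).1 h)).symm⟩
  · rintro ⟨N, hN⟩
    obtain ⟨M, hM, rfl⟩ := exists_cls N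
    exact ⟨M, hM, (key M hM).2 (hN.trans (one_mul _)).symm⟩

/-- A relation on a scheme through its classes. -/
structure Rel (Z : Over S) (α : Pic (PicF.XT f Z)) where
  /-- The scheme of the relation. -/
  R : Over S
  /-- The first projection. -/
  r₁ : R ⟶ Z
  /-- The second projection. -/
  r₂ : R ⟶ Z
  closed : IsClosedImmersion (pullback.lift r₁.left r₂.left ((Over.w r₁).trans (Over.w r₂).symm))
  lfp : LocallyOfFinitePresentation (pullback.lift r₁.left r₂.left ((Over.w r₁).trans (Over.w r₂).symm))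
  iff : ∀ (T : Over S) (a b : T ⟶ Z), (∃ r : T ⟶ R, r ≫ r₁ = a ∧ r ≫ r₂ = b) ↔
    BEq (pull (PicF.XTmap f a) α) (pull (PicF.XTmap f b) α)

variable {Z : Over S} {α : Pic (PicF.XT f Z)}

omit [IsProper f] [Flat f] [LocallyOfFinitePresentation f] [GeometricallyIntegral f] in
theorem Rel.hom_ext (E : Rel Z α) {T : Over S} {r r' : T ⟶ E.R} (h₁ : r ≫ E.r₁ = r' ≫ E.r₁)
    (h₂ : r ≫ E.r₂ = r' ≫ E.r₂) : r = r' := by
  haveI := E.closed
  refine Over.OverMorphism.ext ?_
  rw [← cancel_mono (pullback.lift E.r₁.left E.r₂.left ((Over.w E.r₁).trans (Over.w E.r₂).symm))]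
  apply pullback.hom_ext
  · simp only [Category.assoc, pullback.lift_fst, ← Over.comp_left, h₁]
  · simp only [Category.assoc, pullback.lift_snd, ← Over.comp_left, h₂]

omit [IsProper f] [Flat f] [LocallyOfFinitePresentation f] [GeometricallyIntegral f] in
theorem Rel.equivalence (E : Rel Z α) (T : Over S) :
    Equivalence (fun a b : T ⟶ Z => ∃ r : T ⟶ E.R, r ≫ E.r₁ = a ∧ r ≫ E.r₂ = b) where
  refl a := (E.iff T a a).2 (BEq.refl _)
  symm h := (E.iff T _ _).2 ((E.iff T _ _).1 h).symm
  trans h h' := (E.iff T _ _).2 (((E.iff T _ _).1 h).trans ((E.iff T _ _).1 h'))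

theorem nonempty_rel (Z : Over S) (α : Pic (PicF.XT f Z)) : Nonempty (Rel Z α) := by
  let Y : Over S := Over.mk (pullback.fst Z.hom Z.hom ≫ Z.hom)
  let q₁ : Y ⟶ Z := Over.homMk (pullback.fst Z.hom Z.hom) rfl
  let q₂ : Y ⟶ Z := Over.homMk (pullback.snd Z.hom Z.hom) pullback.condition.symm
  obtain ⟨R, ι, hι, hι', hR⟩ :=
    exists_base_locus ((pull (PicF.XTmap f q₁) α)⁻¹ * pull (PicF.XTmap f q₂) α)
  let RR : Over S := AbDual.ovr Y ι
  let j : RR ⟶ Y := AbDual.ovrHom Y ι
  have hj : pullback.lift (j ≫ q₁).left (j ≫ q₂).left ((Over.w (j ≫ q₁)).trans (Over.w (j ≫ q₂)).symm) = ι := by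
    apply pullback.hom_ext <;> simp [j, q₁, q₂] <;> rfl
  refine ⟨{ R := RR, r₁ := j ≫ q₁, r₂ := j ≫ q₂, closed := hj ▸ hι, lfp := hj ▸ hι', iff := fun T a b => ?_ }⟩
  let g : T ⟶ Y := Over.homMk (pullback.lift a.left b.left ((Over.w a).trans (Over.w b).symm)) (by
    show pullback.lift _ _ _ ≫ pullback.fst Z.hom Z.hom ≫ Z.hom = T.hom
    rw [pullback.lift_fst_assoc, Over.w])
  have g₁ : g ≫ q₁ = a := Over.OverMorphism.ext (pullback.lift_fst _ _ _)
  have g₂ : g ≫ q₂ = b := Over.OverMorphism.ext (pullback.lift_snd _ _ _)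
  have e : BEq (pull (PicF.XTmap f a) α) (pull (PicF.XTmap f b) α) ↔
      BEq 1 (pull (PicF.XTmap f g) ((pull (PicF.XTmap f q₁) α)⁻¹ * pull (PicF.XTmap f q₂) α)) := by
    rw [map_mul, map_inv, InvDescLib.pull_XTmap_XTmap q₁ g g₁, InvDescLib.pull_XTmap_XTmap q₂ g g₂, ← beq_one_iff]
  rw [e, ← hR T g]
  constructor
  · rintro ⟨r, rfl, rfl⟩
    refine ⟨r.left, ?_⟩
    apply pullback.hom_ext <;> simp [g, j, q₁, q₂] <;> rfl
  · rintro ⟨r, hr⟩
    let r' : T ⟶ RR := Over.homMk r (by
      show r ≫ ι ≫ Y.hom = T.hom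
      rw [reassoc_of% hr]
      exact Over.w g)
    have h : r' ≫ j = g := Over.OverMorphism.ext hr
    exact ⟨r', by rw [reassoc_of% h, g₁], by rw [reassoc_of% h, g₂]⟩

end Groth.Agent.PicSch
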