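import Groth.Agent.PicSchLib.Rep
import Groth.Agent.PicSchLib.Rel
import Groth.Agent.PicSchLib.Functor

/-!
# Charts of the relation
-/

set_option autoImplicit false
set_option backward.isDefEq.respectTransparency false
set_option backward.isDefEq.respectTransparency.types false
set_option linter.style.haveILetI false
set_option maxHeartbeats 1000000

universe u

open CategoryTheory CategoryTheory.Limits AlgebraicGeometry TopologicalSpace Opposite
open Groth.Agent.PicLib

noncomputable section

namespace Groth.Agent.PicSch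

variable {X S : Scheme.{u}} {f : X ⟶ S} {Z : Over S} {U : Z.left.Opens} {N : ℕ} (hU : IsAffineOpen U) (j : Fin N)

/-- The ring of a chart. -/
abbrev chartRing (U : Z.left.Opens) (j : Fin N) : CommRingCat.{u} :=
  CommRingCat.of (MvPolynomial {i : Fin N // i ≠ j} Γ(Z.left, U))

/-- The structure morphism of a chart. -/
def chartHom : Spec (chartRing U j) ⟶ Z.left := Spec.map (CommRingCat.ofHom MvPolynomial.C) ≫ hU.fromSpec

/-- A chart. -/
def chartObj : Over S := AbDual.ovr Z (chartHom hU j)

/-- A chart over `Z`. -/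
def chartπ : chartObj hU j ⟶ Z := AbDual.ovrHom Z (chartHom hU j)

theorem top_le_chartπ : ⊤ ≤ (chartπ hU j).left ⁻¹ᵁ U := fun x _ => by
  show hU.fromSpec (Spec.map (CommRingCat.ofHom MvPolynomial.C) x) ∈ U
  exact hU.range_fromSpec.subset ⟨_, rfl⟩

instance isAffine_chartObj : IsAffine (chartObj hU j).left := inferInstanceAs (IsAffine (Spec (chartRing U j)))

theorem isLocallyNoetherian_chartObj [IsLocallyNoetherian Z.left] : IsLocallyNoetherian (chartObj hU j).left := by
  haveI : IsNoetherianRing Γ(Z.left, U) := IsLocallyNoetherian.component_noetherian ⟨U, hU⟩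
  exact inferInstanceAs (IsLocallyNoetherian (Spec (chartRing U j)))

theorem flat_chartπ : Flat (chartπ hU j).left := by
  haveI : Flat (Spec.map (CommRingCat.ofHom (MvPolynomial.C : Γ(Z.left, U) →+* _)) :
      Spec (chartRing U j) ⟶ Spec Γ(Z.left, U)) := by
    rw [HasRingHomProperty.Spec_iff (P := @Flat)]
    exact RingHom.flat_algebraMap_iff.2 inferInstance
  exact inferInstanceAs (Flat (Spec.map (CommRingCat.ofHom MvPolynomial.C) ≫ hU.fromSpec))

/-- The coordinates of a chart. -/
def chartCoord (i : Fin N) : Γ((chartObj hU j).left, ⊤) :=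
  (Scheme.ΓSpecIso (chartRing U j)).inv (if h : i = j then 1 else MvPolynomial.X ⟨i, h⟩)

theorem chartCoord_self : chartCoord hU j j = 1 := by
  rw [chartCoord, dif_pos rfl]
  exact map_one _

theorem exists_chart_map {T : Over S} [IsAffine T.left] (g : T ⟶ Z) (hg : ⊤ ≤ g.left ⁻¹ᵁ U)
    (c : Fin N → Γ(T.left, ⊤)) (hc : c j = 1) :
    ∃ k : T ⟶ chartObj hU j, k ≫ chartπ hU j = g ∧ ∀ i, k.left.appTop (chartCoord hU j i) = c i := by
  let φ := g.left.appLE U ⊤ hg
  let ψ : MvPolynomial {i : Fin N // i ≠ j} Γ(Z.left, U) →+* Γ(T.left, ⊤) :=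
    MvPolynomial.eval₂Hom φ.hom fun i => c i.1
  let q : T.left ⟶ Spec (chartRing U j) := T.left.toSpecΓ ≫ Spec.map (CommRingCat.ofHom ψ)
  have hq : q ≫ chartHom hU j = g.left := by
    show (T.left.toSpecΓ ≫ Spec.map (CommRingCat.ofHom ψ)) ≫ Spec.map (CommRingCat.ofHom MvPolynomial.C) ≫
      hU.fromSpec = g.left
    have e : CommRingCat.ofHom (MvPolynomial.C : Γ(Z.left, U) →+* _) ≫ CommRingCat.ofHom ψ = φ := by
      ext x
      exact MvPolynomial.eval₂Hom_C _ _ _
    rw [Category.assoc, ← Spec.map_comp_assoc, e, hU.SpecMap_appLE_fromSpec g.left (isAffineOpen_top _) hg,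
      IsAffineOpen.fromSpec_top, Scheme.toSpecΓ_isoSpec_inv_assoc]
  refine ⟨Over.homMk q (by
    show q ≫ chartHom hU j ≫ Z.hom = T.hom
    rw [reassoc_of% hq, Over.w]), Over.OverMorphism.ext hq, fun i => ?_⟩
  show q.appTop _ = _
  have h : (Scheme.ΓSpecIso (chartRing U j)).inv ≫ q.appTop = CommRingCat.ofHom ψ := by
    simp only [q, Scheme.Hom.comp_appTop, Scheme.toSpecΓ_appTop, Scheme.ΓSpecIso_naturality,
      Iso.inv_hom_id_assoc]
  refine (ConcreteCategory.congr_hom h _).trans ?_
  show ψ _ = _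
  split
  · next hij => rw [map_one, hij, hc]
  · exact MvPolynomial.eval₂Hom_X' _ _ _

theorem chart_hom_ext {T : Over S} {k k' : T ⟶ chartObj hU j} (hπ : k ≫ chartπ hU j = k' ≫ chartπ hU j)
    (hc : ∀ i, k.left.appTop (chartCoord hU j i) = k'.left.appTop (chartCoord hU j i)) : k = k' := by
  have h₁ : k.left ≫ Spec.map (CommRingCat.ofHom MvPolynomial.C) =
      k'.left ≫ Spec.map (CommRingCat.ofHom MvPolynomial.C) := by
    rw [← cancel_mono hU.fromSpec]
    exact (Category.assoc _ _ _).trans ((congrArg CommaMorphism.left hπ).trans (Category.assoc _ _ _).symm)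
  refine Over.OverMorphism.ext (ext_of_isAffine ?_)
  rw [← cancel_epi (Scheme.ΓSpecIso (chartRing U j)).inv]
  refine CommRingCat.hom_ext (MvPolynomial.ringHom_ext (fun r => ?_) fun i => ?_)
  · have h := ConcreteCategory.congr_hom (congrArg Scheme.Hom.appTop h₁) ((Scheme.ΓSpecIso Γ(Z.left, U)).inv r)
    rw [Scheme.Hom.comp_appTop, Scheme.Hom.comp_appTop] at h
    have e := ConcreteCategory.congr_hom (Scheme.ΓSpecIso_inv_naturality
      (CommRingCat.ofHom (MvPolynomial.C : Γ(Z.left, U) →+* MvPolynomial {i : Fin N // i ≠ j} Γ(Z.left, U)))) r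
    refine (congrArg k.left.appTop e).trans (Eq.trans ?_ (congrArg k'.left.appTop e).symm)
    exact h
  · have h := hc i.1
    simp only [chartCoord, dif_neg i.2] at h
    exact h

end Groth.Agent.PicSch
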