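import Groth.Agent.PicSchLib.Dv
import Groth.Agent.GenSeesawLib.Near

/-!
# A good class is the class of a divisor near every point of the base
-/

set_option autoImplicit false
set_option backward.isDefEq.respectTransparency false
set_option backward.isDefEq.respectTransparency.types false
set_option linter.style.haveILetI false
set_option maxHeartbeats 1000000

universe u

open CategoryTheory CategoryTheory.Limits AlgebraicGeometry TopologicalSpace Opposite
open Groth.Agent.PicLib Groth.Agent.ParaFLib Groth.Agent.PullbackMod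

noncomputable section

namespace Groth.Agent.PicSch

/-- A nonzero section of an invertible module on an integral scheme generates somewhere. -/
theorem exists_gen_of_ne_zero {Y : Scheme.{u}} [IsIntegral Y] {L : Y.Modules} (hL : PicF.IsInvertible L) {U : Y.Opens}
    {τ : Γ(L, U)} (hτ : τ ≠ 0) : ∃ (y : Y) (hy : y ∈ U),
      Function.Bijective fun r : Y.presheaf.stalk y => r • L.presheaf.germ U y hy τ := by
  by_contra hc
  refine hτ ?_
  let N : TopCat.Sheaf Ab.{u} Y.carrier := ⟨L.presheaf, L.isSheaf⟩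
  choose W e hxW he using fun y : U => ParaFLib.exists_gen_nhd hL (y : Y)
  refine N.eq_of_locally_eq' (fun y => W y ⊓ U) U (fun y => homOfLE inf_le_right)
    (fun y hy => Opens.mem_iSup.2 ⟨⟨y, hy⟩, hxW ⟨y, hy⟩, hy⟩) τ 0 fun y => ?_
  let O := W y ⊓ U
  have hO := (he y).res (inf_le_left : O ≤ W y)
  obtain ⟨r, hr⟩ := (hO O le_rfl).2 (L.presheaf.map (homOfLE (inf_le_right : O ≤ U)).op τ)
  simp only [ParaFLib.res_res] at hr
  have hr0 : r = 0 := by
    refine (basicOpen_eq_bot_iff r).1 (eq_bot_iff.2 fun z hz => (hc ⟨z, (Y.basicOpen_le r hz).2, ?_⟩).elim)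
    have hzO : z ∈ O := Y.basicOpen_le r hz
    have h := congrArg (L.presheaf.germ O z hzO) hr
    rw [germ_smul', TopCat.Presheaf.germ_res_apply L.presheaf (homOfLE inf_le_right) z hzO τ] at h
    rw [← h]
    exact (AmpleLib.bijective_smul_iff (hO.bijective_germ z hzO) _).2 ((Y.mem_basicOpen r z hzO).1 hz)
  show L.presheaf.map _ τ = L.presheaf.map _ 0
  rw [map_zero, ← hr, hr0, zero_smul]

variable {X S : Scheme.{u}} {f : X ⟶ S} [IsProper f] [Flat f] [LocallyOfFinitePresentation f]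
  [GeometricallyIntegral f] {T : Over S}

/-- Near a point where a class is good, it is the class of a divisor. -/
theorem exists_dv_nhd [IsLocallyNoetherian T.left] (a : Pic (PicF.XT f T)) {t : T.left} (ht : t ∈ goodSet a) :
    ∃ U : T.left.Opens, t ∈ U ∧ ∃ D : Dv f (AbDual.ovr T U.ι),
      dvCls D = pull (PicF.XTmap f (AbDual.ovrHom T U.ι)) a := by
  let π := PicF.XTproj f T
  haveI : GeometricallyIntegral π := inferInstanceAs (GeometricallyIntegral (pullback.snd f T.hom))
  let L := rep a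
  have hL : PicF.IsInvertible L := isInvertible_rep a
  haveI : Coh.IsQCoh L := InvExt.isQCoh_of_isInvertible hL
  let M := (Scheme.Modules.pushforward π).obj L
  haveI : Coh.IsQCoh M := QCohLib.isQCoh_pushforward L π
  let g := T.left.fromSpecResidueField t
  let g' := π.fiberι t
  let f' := π.fiberToSpecResidueField t
  haveI : IsIntegral (π.fiber t) := inferInstanceAs (IsIntegral (π.fiber t))
  haveI := finite_fiberH_rep a 1 t
  haveI := finite_fiberH_rep a 0 t
  haveI := GenSeesawLib.isIso_bc0_fibre π (CurveLib.isFinLocFree_of_isInvertible hL) t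
    ((Module.finrank_eq_zero_iff_of_free _ _).1 ht.1)
  let bc := CohBC.bc0 π g f' g' (π.fiber_fac t) L
  let L' := (Scheme.Modules.pullback g').obj L
  have hL' : PicF.IsInvertible L' := AmpleLib.isInvertible_pullback _ hL
  obtain ⟨τ, hτ⟩ : ∃ τ : Γ(L', f' ⁻¹ᵁ ⊤), τ ≠ 0 := by
    by_contra hc
    push Not at hc
    refine ht.2 ((Module.finrank_eq_zero_iff_of_free _ _).2 ?_)
    letI : (π.fiber t).Over (Spec (CommRingCat.of (T.left.residueField t))) := ⟨π.fiberToSpecResidueField t⟩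
    haveI : Subsingleton Γ(L', ⊤) := ⟨fun x y => (hc x).trans (hc y).symm⟩
    haveI : Subsingleton ((CohIII.globalSectionsA (T.left.residueField t)).obj L') :=
      (inferInstance : Subsingleton Γ(L', ⊤))
    exact (BCLib.gammaH0 (A := T.left.residueField t) L').symm.injective.subsingleton
  obtain ⟨x, hx⟩ := GenBCLib.surjective_top_of_epi bc (show Γ((Scheme.Modules.pushforward f').obj L', ⊤) from τ)
  obtain ⟨V, hV, htV, -⟩ := exists_isAffineOpen_mem_and_subset (U := (⊤ : T.left.Opens)) (show t ∈ ⊤ from trivial)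
  let e := GenBCLib.le_preimage_fromSpecResidueField htV
  obtain ⟨b, u, hb, hu⟩ := GenSeesawLib.exists_smul_eq_pullMap (M := M) hV htV x
  have le : f' ⁻¹ᵁ ⊤ ≤ g' ⁻¹ᵁ (π ⁻¹ᵁ V) := by
    intro z _
    show π (g' z) ∈ V
    rw [← Scheme.Hom.comp_apply, π.fiber_fac t, Scheme.Hom.comp_apply]
    exact e trivial
  have key : pullMap g' L le u = f'.app ⊤ (g.appLE V ⊤ e b) • τ := by
    have h2 := congrArg (bc.app ⊤) hu
    rw [GenBCLib.bc0_pullMap (π.fiber_fac t) L e le u, Scheme.Modules.Hom.app_smul, hx] at h2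
    exact h2.symm
  obtain ⟨z, hz, hzb⟩ := exists_gen_of_ne_zero hL' hτ
  obtain ⟨W, r₀, hxW, hr₀⟩ := ParaFLib.exists_gen_nhd hL (g' z)
  have hxV : g' z ∈ π ⁻¹ᵁ V := le hz
  let O := W ⊓ π ⁻¹ᵁ V
  have hO := hr₀.res (inf_le_left : O ≤ W)
  obtain ⟨r, hr⟩ := (hO O le_rfl).2 (L.presheaf.map (homOfLE (inf_le_right : O ≤ π ⁻¹ᵁ V)).op u)
  simp only [ParaFLib.res_res] at hr
  set e₀ := L.presheaf.germ O (g' z) ⟨hxW, hxV⟩ (L.presheaf.map (homOfLE (inf_le_left : O ≤ W)).op r₀)
  have he₀ := hO.bijective_germ (g' z) ⟨hxW, hxV⟩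
  have hru : g' z ∈ (PicF.XT f T).basicOpen r := by
    rw [(PicF.XT f T).mem_basicOpen r _ ⟨hxW, hxV⟩]
    set c := (PicF.XT f T).presheaf.germ O (g' z) ⟨hxW, hxV⟩ r with hcdef
    refine isUnit_of_map_unit (g'.stalkMap z).hom c ((AmpleLib.bijective_smul_iff (AmpleLib.bijective_pullStalk g' z he₀) _).1 ?_)
    have key' : g'.stalkMap z c • pullStalk g' L z e₀ =
        (π.fiber t).presheaf.germ (f' ⁻¹ᵁ ⊤) z hz (f'.app ⊤ (g.appLE V ⊤ e b)) •
          L'.presheaf.germ (f' ⁻¹ᵁ ⊤) z hz τ := by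
      rw [← pullStalk_smul, hcdef, ← germ_smul', hr, TopCat.Presheaf.germ_res_apply,
        pullStalk_germ' g' L z hxV (W' := f' ⁻¹ᵁ ⊤) hz le, key, germ_smul']
    rw [key']
    exact (AmpleLib.bijective_smul_iff hzb _).2 ((hb.map (f'.app ⊤).hom).map _)
  let B := (PicF.XT f T).basicOpen r
  let U : T.left.Opens := ⟨π '' (B : Set (PicF.XT f T)), π.isOpenMap _ B.isOpen⟩
  have htU : t ∈ U := ⟨g' z, hru, by
    have : g' z ∈ π ⁻¹' {t} := by rw [← π.range_fiberι t]; exact Set.mem_range_self z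
    exact this⟩
  have hUV : U ≤ V := by
    rintro _ ⟨y, hy, rfl⟩
    exact ((PicF.XT f T).basicOpen_le r hy).2
  let j := AbDual.ovrHom T U.ι
  let k := PicF.XTmap f j
  have lek : ⊤ ≤ k ⁻¹ᵁ (π ⁻¹ᵁ V) := fun y _ => by
    show π (k y) ∈ V
    rw [← Scheme.Hom.comp_apply, (InvDescLib.isPullback_map (f := f) j).w, Scheme.Hom.comp_apply]
    exact hUV (PicF.XTproj f _ y).2
  have hs : FibGen (f := f) (AbDual.ovr T U.ι) ((Scheme.Modules.pullback k).obj L) (pullMap k L lek u) := by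
    rintro ⟨t', y₀, hy₀, rfl⟩
    obtain ⟨y, hy, hy'⟩ := Scheme.exists_preimage_of_isPullback (InvDescLib.isPullback_map (f := f) j) y₀
      (⟨π y₀, y₀, hy₀, rfl⟩ : U) rfl
    refine ⟨y, (AmpleLib.mem_genLocus_iff (AmpleLib.isInvertible_pullback k hL)).2 ?_, hy'⟩
    rw [AmpleLib.sec_secHom, ← pullStalk_germ' k L y (show k y ∈ π ⁻¹ᵁ V from lek (Opens.mem_top y)) (Opens.mem_top y) lek]
    refine AmpleLib.bijective_pullStalk k y ?_
    have hkO : k y ∈ O := (PicF.XT f T).basicOpen_le r (show k y ∈ B from hy.symm ▸ hy₀)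
    rw [← TopCat.Presheaf.germ_res_apply L.presheaf (homOfLE (inf_le_right : O ≤ π ⁻¹ᵁ V)) (k y) hkO u, ← hr,
      germ_smul']
    exact (AmpleLib.bijective_smul_iff (hO.bijective_germ _ hkO) _).2
      (((PicF.XT f T).mem_basicOpen r _ hkO).1 (hy.symm ▸ hy₀))
  obtain ⟨D, -, hD⟩ := exists_dv_of_section (AmpleLib.isInvertible_pullback k hL) hs
  exact ⟨U, htU, D, by rw [hD, ← pull_cls k hL, cls_rep]⟩

end Groth.Agent.PicSch
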