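import Groth.Agent.PicSchLib.GoodLocus
import Groth.Agent.PicSchLib.Approx
import Groth.Agent.PicSchLib.Functor

/-!
# Twists and the good locus of an element
-/

set_option autoImplicit false
set_option backward.isDefEq.respectTransparency false
set_option backward.isDefEq.respectTransparency.types false
set_option linter.style.haveILetI false
set_option maxHeartbeats 1000000

universe u

open CategoryTheory CategoryTheory.Limits AlgebraicGeometry TopologicalSpace
open Groth.Agent.PicLib

noncomputable section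

namespace Groth.Agent.PicSch

variable {X S : Scheme.{u}} {f : X ⟶ S} {T T' : Over S}

theorem pull_twA_zpow (A : Pic X) (g : T' ⟶ T) (k : ℤ) :
    pull (PicF.XTmap f g) (twA A T ^ k) = twA (f := f) A T' ^ k := by
  rw [map_zpow, pull_twA]

/-- The twist of an element by a power of a class of `X`. -/
def twEl (A : Pic X) (k : ℤ) (s : El f T) : El f T :=
  ⟨rigAt (pt f T) pt_f (s.1 * twA A (pX f T) ^ k), rigAt_rigid _ _ _, fun Y j j' h => by
    refine ((beq_rigAt _ _ _).pull j).symm.trans (BEq.trans ?_ ((beq_rigAt _ _ _).pull j'))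
    rw [map_mul, map_mul, pull_twA_zpow, pull_twA_zpow]
    exact (s.2.2 Y j j' h).mul (BEq.refl _)⟩

theorem beq_twEl (A : Pic X) (k : ℤ) (s : El f T) : BEq (s.1 * twA A (pX f T) ^ k) (twEl A k s).1 :=
  beq_rigAt _ _ _

theorem mapEl_twEl (A : Pic X) (k : ℤ) (g : T' ⟶ T) (s : El f T) :
    mapEl g (twEl A k s) = twEl A k (mapEl g s) := by
  refine el_ext (((beq_twEl A k s).pull (pXmap f g)).symm.trans (BEq.trans ?_ (beq_twEl A k _)))
  rw [map_mul, pull_twA_zpow]
  exact BEq.refl _

theorem twEl_twEl (A : Pic X) (k l : ℤ) (s : El f T) : twEl A k (twEl A l s) = twEl A (l + k) s := by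
  refine el_ext ((beq_twEl A k _).symm.trans ((BEq.mul (beq_twEl A l s).symm (BEq.refl _)).trans ?_))
  rw [mul_assoc, ← zpow_add]
  exact beq_twEl A _ s

theorem twEl_zero (A : Pic X) (s : El f T) : twEl A 0 s = s :=
  el_ext ((beq_twEl A 0 s).symm.trans (by rw [zpow_zero, mul_one]; exact BEq.refl _))

theorem twEl_cl (A : Pic X) (k : ℤ) (b : Pic (PicF.XT f T)) : twEl A k (cl b) = cl (b * twA A T ^ k) := by
  refine el_ext ((beq_twEl A k _).symm.trans (BEq.trans ?_ (beq_cl _)))
  rw [map_mul, pull_twA_zpow]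
  exact (beq_cl b).symm.mul (BEq.refl _)

theorem twEl_injective (A : Pic X) (k : ℤ) : Function.Injective (twEl (f := f) (T := T) A k) := fun s t h => by
  have := congrArg (twEl A (-k)) h
  rwa [twEl_twEl, twEl_twEl, add_neg_cancel, twEl_zero, twEl_zero] at this

section

variable [IsLocallyNoetherian S] [IsProper f] [Flat f] [LocallyOfFinitePresentation f]

/-- The good locus of a class is open over any base. -/
theorem isOpen_goodSet' (a : Pic (PicF.XT f T)) : IsOpen (goodSet a) := by
  rw [isOpen_iff_forall_mem_open]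
  intro z hz
  obtain ⟨W, hzW, T₀, _, _, g, a₀, ha⟩ := exists_model T z a
  let ι := AbDual.ovrHom T W.ι
  have e : ι.left ⁻¹' goodSet a = g.left ⁻¹' goodSet a₀ := by rw [← goodSet_pull, ← ha, goodSet_pull]
  refine ⟨W.ι '' (g.left ⁻¹' goodSet a₀), ?_, W.ι.isOpenEmbedding.isOpenMap _
    ((isOpen_goodSet a₀).preimage g.left.continuous), ⟨⟨z, hzW⟩, ?_, rfl⟩⟩
  · rintro _ ⟨w, hw, rfl⟩
    exact e.symm.subset hw
  · exact e.subset (show ι.left ⟨z, hzW⟩ ∈ goodSet a from hz)

/-- The good locus of an element. -/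
def elGood (s : El f T) : Set T.left := (pπ f T).left '' goodSet s.1

theorem goodAt_of_elGood {s : El f T} {w : (pX f T).left} (h : (pπ f T).left w ∈ elGood s) : GoodAt s.1 w := by
  obtain ⟨w', hw', he⟩ := h
  let p := (pπ f T).left
  obtain ⟨y, hy, hy'⟩ := Scheme.exists_preimage_of_isPullback (IsPullback.of_hasPullback p p) w' w he
  let Y : Over S := Over.mk (pullback.fst p p ≫ (pX f T).hom)
  let k : Y ⟶ pX f T := Over.homMk (pullback.fst p p) rfl
  let k' : Y ⟶ pX f T := Over.homMk (pullback.snd p p) (by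
    show pullback.snd p p ≫ p ≫ T.hom = pullback.fst p p ≫ p ≫ T.hom
    rw [← pullback.condition_assoc])
  have h := goodAt_congr (s.2.2 Y k k' (Over.OverMorphism.ext pullback.condition)) y
  rw [goodAt_pull, goodAt_pull] at h
  rw [show k.left y = w' from hy, show k'.left y = w from hy'] at h
  exact h.1 hw'

theorem isOpen_elGood (s : El f T) : IsOpen (elGood s) := by
  haveI := flat_pπ (f := f) (T := T)
  haveI := lfp_pπ (f := f) (T := T)
  exact (pπ f T).left.isOpenMap _ (isOpen_goodSet' s.1)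

variable [Surjective f]

theorem elGood_mapEl (g : T' ⟶ T) (s : El f T) : elGood (mapEl g s) = g.left ⁻¹' elGood s := by
  ext z
  constructor
  · rintro ⟨w, hw, rfl⟩
    refine ⟨(pXmap f g).left w, (goodAt_pull _ _ _).1 hw, ?_⟩
    rw [← Scheme.Hom.comp_apply, ← Scheme.Hom.comp_apply, (isPullback_pXmap g).w]
  · intro hz
    haveI := surjective_pπ (f := f) (T := T')
    obtain ⟨w, rfl⟩ := (pπ f T').left.surjective z
    refine ⟨w, (goodAt_pull _ _ _).2 (goodAt_of_elGood ?_), rfl⟩
    rw [← Scheme.Hom.comp_apply, (isPullback_pXmap g).w, Scheme.Hom.comp_apply]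
    exact hz

theorem elGood_cl (b : Pic (PicF.XT f T)) : elGood (cl b) = goodSet b := by
  ext z
  constructor
  · rintro ⟨w, hw, rfl⟩
    exact (goodAt_pull _ _ _).1 ((goodAt_congr (beq_cl b) w).2 hw)
  · intro hz
    haveI := surjective_pπ (f := f) (T := T)
    obtain ⟨w, rfl⟩ := (pπ f T).left.surjective z
    exact ⟨w, (goodAt_congr (beq_cl b) w).1 ((goodAt_pull _ _ _).2 hz), rfl⟩

variable (A : Pic X) (hA : ∀ T : Over S, RelAmple.IsRelVeryAmplePn (PicF.XTproj f T) (rep (twA (f := f) A T)))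
include hA

/-- High twists are good at a given point. -/
theorem exists_twist_good (s : El f T) (z : T.left) :
    ∃ M : ℕ, ∀ m : ℕ, M ≤ m → z ∈ elGood (twEl A (m : ℤ) s) := by
  haveI := surjective_pπ (f := f) (T := T)
  obtain ⟨w, rfl⟩ := (pπ f T).left.surjective z
  obtain ⟨W, hwW, T₀, _, _, g, a₀, ha⟩ := exists_model (pX f T) w s.1
  obtain ⟨M, hM⟩ := exists_good_affine A hA a₀
  refine ⟨M, fun m hm => ⟨w, ?_, rfl⟩⟩
  refine (goodAt_congr (beq_twEl A m s) w).1 ?_
  have h := (goodAt_pull g (a₀ * twA A T₀ ^ m) ⟨w, hwW⟩).2 ((hM m hm).symm.subset trivial)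
  rw [map_mul, ha, map_pow, pull_twA, ← pull_twA (f := f) A (AbDual.ovrHom (pX f T) W.ι), ← map_pow, ← map_mul,
    goodAt_pull] at h
  rw [zpow_natCast]
  exact h

end

end Groth.Agent.PicSch
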