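import Groth.Agent.PicSchLib.Functor
import Mathlib.AlgebraicGeometry.Sites.BigZariski

/-!
# The sheafified Picard functor is a Zariski sheaf
-/

set_option autoImplicit false
set_option backward.isDefEq.respectTransparency false
set_option backward.isDefEq.respectTransparency.types false
set_option linter.style.haveILetI false
set_option maxHeartbeats 1000000

universe u

open CategoryTheory CategoryTheory.Limits AlgebraicGeometry TopologicalSpace Opposite
open Groth.Agent.PicLib Groth.Agent.SchDesc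

noncomputable section

namespace Groth.Agent.PicSch

variable {X S : Scheme.{u}} {f : X ⟶ S} {T : Over S} (ha : InvDescLib.UnivConst f)

include ha

theorem el_ext_of_openCover {ι : Type u} {W : ι → Scheme.{u}} (v : ∀ i, W i ⟶ T.left)
    [∀ i, IsOpenImmersion (v i)] (hv : ∀ z, ∃ i, z ∈ Set.range (v i)) {s t : El f T}
    (h : ∀ i, mapEl (AbDual.ovrHom T (v i)) s = mapEl (AbDual.ovrHom T (v i)) t) : s = t := by
  let v' : ∀ i, (pX f (AbDual.ovr T (v i))).left ⟶ (pX f T).left := fun i => (pXmap f (AbDual.ovrHom T (v i))).left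
  haveI : ∀ i, IsOpenImmersion (v' i) := fun i =>
    MorphismProperty.of_isPullback (P := @IsOpenImmersion) (isPullback_pXmap _).flip (inferInstanceAs (IsOpenImmersion (v i)))
  refine el_ext (beq_of_openCover ha (T := pX f T) v' (fun z => ?_) fun i => ?_)
  · obtain ⟨i, y, hy⟩ := hv ((pπ f T).left z)
    obtain ⟨p, hp, -⟩ := Scheme.exists_preimage_of_isPullback (isPullback_pXmap (AbDual.ovrHom T (v i))) z y hy.symm
    exact ⟨i, p, hp⟩
  · let k : AbDual.ovr (pX f T) (v' i) ⟶ pX f (AbDual.ovr T (v i)) :=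
      Over.homMk (𝟙 _) ((Category.id_comp _).trans (Over.w (pXmap f (AbDual.ovrHom T (v i)))).symm)
    have e : k ≫ pXmap f (AbDual.ovrHom T (v i)) = AbDual.ovrHom (pX f T) (v' i) :=
      Over.OverMorphism.ext (Category.id_comp _)
    rw [← e, ← pull_pull_XTmap, ← pull_pull_XTmap]
    exact BEq.pull k (by
      rw [show pull (PicF.XTmap f (pXmap f (AbDual.ovrHom T (v i)))) s.1 = (mapEl (AbDual.ovrHom T (v i)) s).1 from rfl,
        h i]
      exact BEq.refl _)

theorem exists_el_sigma {ι : Type u} {W : ι → Scheme.{u}} (v : ∀ i, W i ⟶ T.left)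
    (c : ∀ i, El f (AbDual.ovr T (v i))) :
    ∃ s : El f (AbDual.ovr T (Sigma.desc v)), ∀ i, mapEl (InvDescLib.pieceHom v i) s = c i := by
  let U := AbDual.ovr T (Sigma.desc v)
  let j : ∀ i, (pX f (AbDual.ovr T (v i))).left ⟶ (pX f U).left := fun i => (pXmap f (InvDescLib.pieceHom v i)).left
  haveI : ∀ i, IsOpenImmersion (j i) := fun i =>
    MorphismProperty.of_isPullback (P := @IsOpenImmersion) (isPullback_pXmap _).flip
      (inferInstanceAs (IsOpenImmersion (Sigma.ι W i)))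
  have hj : InvDescLib.IsDisjointUnion j :=
    InvDescLib.isDisjointUnion_of_isPullback (pπ f U).left fun i => isPullback_pXmap (InvDescLib.pieceHom v i)
  let J : ∀ i, PicF.XT f (pX f (AbDual.ovr T (v i))) ⟶ PicF.XT f (pX f U) :=
    fun i => PicF.XTmap f (pXmap f (InvDescLib.pieceHom v i))
  haveI : ∀ i, IsOpenImmersion (J i) := fun i =>
    MorphismProperty.of_isPullback (P := @IsOpenImmersion) (InvDescLib.isPullback_map (pXmap f (InvDescLib.pieceHom v i))).flip
      (inferInstanceAs (IsOpenImmersion (j i)))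
  have hJ : InvDescLib.IsDisjointUnion J :=
    InvDescLib.isDisjointUnion_of_isPullback (PicF.XTproj f (pX f U) ≫ (pπ f U).left) fun i =>
      (InvDescLib.isPullback_map _).paste_vert (isPullback_pXmap (InvDescLib.pieceHom v i))
  obtain ⟨A, hA⟩ := hJ.exists_pic fun i => (c i).1
  refine ⟨⟨A, hj.eq_one fun i => ?_, fun Y k k' hk => ?_⟩, fun i => Subtype.ext (hA i)⟩
  · rw [← pull_sec_pt]
    show pull _ (pull (J i) A) = 1
    rw [hA i]
    exact (c i).2.1
  · let y : Y.left ⟶ ∐ W := (k ≫ pπ f U).left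
    let Z : ι → Scheme.{u} := fun i => pullback y (Sigma.ι W i)
    let z : ∀ i, Z i ⟶ Y.left := fun i => pullback.fst _ _
    refine beq_of_openCover ha z (fun p => ?_) fun i => ?_
    · obtain ⟨i, a, ha'⟩ := (InvDescLib.isDisjointUnion_sigma W).cover (y p)
      obtain ⟨q, hq, -⟩ := Scheme.exists_preimage_of_isPullback (IsPullback.of_hasPullback y (Sigma.ι W i)) p a ha'.symm
      exact ⟨i, q, hq⟩
    let w : AbDual.ovr Y (z i) ⟶ AbDual.ovr T (v i) := Over.homMk (pullback.snd _ _) (by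
      show pullback.snd y (Sigma.ι W i) ≫ v i ≫ T.hom = pullback.fst _ _ ≫ Y.hom
      rw [← Over.w (k ≫ pπ f U)]
      show _ = pullback.fst _ _ ≫ y ≫ Sigma.desc v ≫ T.hom
      rw [pullback.condition_assoc, Sigma.ι_desc_assoc])
    have hw : AbDual.ovrHom Y (z i) ≫ k ≫ pπ f U = w ≫ InvDescLib.pieceHom v i := Over.OverMorphism.ext pullback.condition
    have hl : ∀ (l : Y ⟶ pX f U), l ≫ pπ f U = k ≫ pπ f U → ∃ j' : AbDual.ovr Y (z i) ⟶ pX f (AbDual.ovr T (v i)),
        j' ≫ pπ f _ = w ∧ j' ≫ pXmap f (InvDescLib.pieceHom v i) = AbDual.ovrHom Y (z i) ≫ l := fun l hl => by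
      refine ⟨pLift w ((AbDual.ovrHom Y (z i)).left ≫ l.left ≫ pt f U) (by simp [pt_f]), pLift_π _ _ _,
        pX_hom_ext ?_ ?_⟩
      · rw [Category.assoc, pXmap_π, pLift_π_assoc, Category.assoc, hl, hw]
      · rw [Over.comp_left, Category.assoc, pXmap_pt, pLift_pt, Over.comp_left, Category.assoc]
    rw [pull_pull_XTmap, pull_pull_XTmap]
    obtain ⟨j₁, h₁, h₁'⟩ := hl k rfl
    obtain ⟨j₂, h₂, h₂'⟩ := hl k' hk.symm
    rw [← h₁', ← h₂', ← pull_pull_XTmap, ← pull_pull_XTmap, hA]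
    exact (c i).2.2 _ j₁ j₂ (h₁.trans h₂.symm)

theorem isSheaf_picFun : Presheaf.IsSheaf (Scheme.zariskiTopology.over S) (picFun f) := by
  rw [isSheaf_iff_isSheaf_of_type]
  intro T R hR x hx
  rw [GrothendieckTopology.mem_over_iff] at hR
  obtain ⟨𝒰, h𝒰⟩ := Scheme.exists_cover_of_mem_grothendieckTopology hR
  let 𝒱 := 𝒰.ulift
  have h𝒱 : ∀ i, (Sieve.overEquiv T R).arrows (𝒱.f i) := fun i => h𝒰 _ _ (Presieve.ofArrows.mk _)
  have hR' : ∀ i, R (AbDual.ovrHom T (𝒱.f i)) := fun i => (Sieve.overEquiv_iff R (𝒱.f i)).mp (h𝒱 i)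
  let W : 𝒱.I₀ → Scheme.{u} := 𝒱.X
  let v : ∀ i, W i ⟶ T.left := 𝒱.f
  haveI : ∀ i, IsOpenImmersion (v i) := fun i => 𝒱.map_prop i
  have hcv : ∀ z : T.left, ∃ i, z ∈ Set.range (v i) := fun z => ⟨𝒱.idx z, 𝒱.covers z⟩
  let c : ∀ i, El f (AbDual.ovr T (v i)) := fun i => toEl (x _ (hR' i))
  obtain ⟨A, hA⟩ := exists_el_sigma ha v c
  obtain ⟨_, _, _⟩ := sigma_cover v hcv
  let u := Sigma.desc v
  let U := AbDual.ovr T u
  let k₁ := AbDual.ovrHom U (pullback.fst u u)
  let k₂ : AbDual.ovr U (pullback.fst u u) ⟶ U :=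
    Over.homMk (pullback.snd u u) (pullback.condition_assoc T.hom).symm
  have hglue : mapEl k₁ A = mapEl k₂ A := by
    let P : 𝒱.I₀ × 𝒱.I₀ → Scheme.{u} := fun p => pullback (v p.1) (v p.2)
    let m : ∀ p, P p ⟶ pullback u u := fun p =>
      pullback.map (v p.1) (v p.2) u u (Sigma.ι W p.1) (Sigma.ι W p.2) (𝟙 _)
        (by simp [u]) (by simp [u])
    have hcm : ∀ z : (pullback u u : Scheme.{u}), ∃ p, z ∈ Set.range (m p) := by
      intro z
      obtain ⟨i, a, ha'⟩ := (InvDescLib.isDisjointUnion_sigma W).cover (pullback.fst u u z)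
      obtain ⟨j, b, hb'⟩ := (InvDescLib.isDisjointUnion_sigma W).cover (pullback.snd u u z)
      refine ⟨(i, j), ?_⟩
      have hr := Scheme.Pullback.range_map (v i) (v j) u u (Sigma.ι W i) (Sigma.ι W j) (𝟙 _)
        (by simp [u]) (by simp [u])
      rw [show Set.range (m (i, j)) = _ from hr]
      exact ⟨⟨a, ha'⟩, ⟨b, hb'⟩⟩
    refine el_ext_of_openCover ha (W := P) m hcm fun p => ?_
    let Q := AbDual.ovr (AbDual.ovr U (pullback.fst u u)) (m p)
    let q₁ : Q ⟶ AbDual.ovr T (v p.1) := Over.homMk (pullback.fst (v p.1) (v p.2)) (by simp [Q, U, m, u])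
    let q₂ : Q ⟶ AbDual.ovr T (v p.2) := Over.homMk (pullback.snd (v p.1) (v p.2)) (by
      simp [Q, U, m, u]
      rw [← pullback.condition_assoc])
    have e₁ : AbDual.ovrHom _ (m p) ≫ k₁ = q₁ ≫ InvDescLib.pieceHom v p.1 :=
      Over.OverMorphism.ext (by simp [k₁, q₁, m])
    have e₂ : AbDual.ovrHom _ (m p) ≫ k₂ = q₂ ≫ InvDescLib.pieceHom v p.2 :=
      Over.OverMorphism.ext (by simp [k₂, q₂, m])
    rw [mapEl_comp, mapEl_comp, e₁, e₂, ← mapEl_comp, ← mapEl_comp, hA, hA, ← toEl_map, ← toEl_map]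
    exact congrArg toEl (hx q₁ q₂ (hR' p.1) (hR' p.2) (Over.OverMorphism.ext pullback.condition))
  obtain ⟨b, hb⟩ := exists_el_descend ha u A hglue
  have hbi : ∀ i, mapEl (AbDual.ovrHom T (v i)) b = c i := fun i => by
    rw [← InvDescLib.pieceHom_comp v i, ← mapEl_comp, hb, hA i]
  refine ⟨ofEl b, fun Y g hg => toEl_injective ?_, fun z hz => toEl_injective ?_⟩
  · rw [toEl_map, toEl_ofEl]
    let r : ∀ i, pullback g.left (v i) ⟶ Y.left := fun i => pullback.fst g.left (v i)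
    refine el_ext_of_openCover ha r (fun y => ?_) fun i => ?_
    · obtain ⟨i, z, hz⟩ := hcv (g.left y)
      obtain ⟨p, hp, -⟩ := Scheme.exists_preimage_of_isPullback (IsPullback.of_hasPullback g.left (v i)) y z hz.symm
      exact ⟨i, p, hp⟩
    · let w : AbDual.ovr Y (r i) ⟶ AbDual.ovr T (v i) := Over.homMk (pullback.snd g.left (v i)) (by
        show _ ≫ v i ≫ T.hom = r i ≫ Y.hom
        rw [← pullback.condition_assoc, Over.w g])
      have hsq : AbDual.ovrHom Y (r i) ≫ g = w ≫ AbDual.ovrHom T (v i) := Over.OverMorphism.ext pullback.condition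
      rw [mapEl_comp, hsq, ← mapEl_comp, hbi i, ← toEl_map, ← toEl_map]
      exact (congrArg toEl (hx (AbDual.ovrHom Y (r i)) w hg (hR' i) hsq)).symm
  · rw [toEl_ofEl]
    refine el_ext_of_openCover ha v hcv fun i => ?_
    rw [hbi i, ← toEl_map]
    exact congrArg toEl (hz (AbDual.ovrHom T (v i)) (hR' i))

end Groth.Agent.PicSch
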