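import Groth.Agent.PicSchLib.Piece
import Groth.Agent.PicSchLib.GoodEl
import Groth.Agent.PicSchLib.DvNear
import Groth.Agent.PicSchLib.Sheaf

/-!
# The pieces cover the functor by open subfunctors
-/

set_option autoImplicit false
set_option backward.isDefEq.respectTransparency false
set_option backward.isDefEq.respectTransparency.types false
set_option linter.style.haveILetI false
set_option maxHeartbeats 1000000

universe u

open CategoryTheory CategoryTheory.Limits AlgebraicGeometry TopologicalSpace Opposite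
open Groth.Agent.PicLib

noncomputable section

namespace Groth.Agent.PicSch

variable {X S : Scheme.{u}} {f : X ⟶ S} {V : S.Opens} [IsLocallyNoetherian S] [IsProper f] [Flat f]
  [LocallyOfFinitePresentation f] [GeometricallyIntegral f] [Surjective f] {M : DivMod f V}

theorem elGood_u {a : M.ι} (P : Piece M a) : elGood P.u = Set.univ := by
  have h : P.q.left ⁻¹' elGood P.u = Set.univ := by
    rw [← elGood_mapEl, P.u_eq, elGood_cl, goodSet_pull, M.good, Set.preimage_univ]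
  haveI := P.surj
  refine Set.eq_univ_of_forall fun z => ?_
  obtain ⟨w, rfl⟩ := P.q.left.surjective z
  exact h.symm.subset (Set.mem_univ w)

/-- Near a good point an element comes from a divisor, flat locally. -/
theorem exists_div_nhd (M : DivMod f V) {T : Over S} (s : El f T) (p : T.left) (hp : p ∈ elGood s)
    (hpV : T.hom p ∈ V) :
    ∃ (T' : Over S) (g : T' ⟶ T) (y : T' ⟶ M.Z), Flat g.left ∧ LocallyOfFinitePresentation g.left ∧
      p ∈ Set.range g.left ∧ mapEl g s = mapEl y (cl (dvCls M.D)) := by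
  haveI := surjective_pπ (f := f) (T := T)
  haveI := flat_pπ (f := f) (T := T)
  haveI := lfp_pπ (f := f) (T := T)
  obtain ⟨w, rfl⟩ := (pπ f T).left.surjective p
  have hw : GoodAt s.1 w := goodAt_of_elGood hp
  obtain ⟨W, hwW, T₀, hN, _, g₀, a₀, ha₀⟩ := exists_model (pX f T) w s.1
  haveI := hN
  let ιW := AbDual.ovrHom (pX f T) W.ι
  let w' : (AbDual.ovr (pX f T) W.ι).left := ⟨w, hwW⟩
  have hw₀ : GoodAt a₀ (g₀.left w') := by
    rw [← goodAt_pull, ha₀, goodAt_pull]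
    exact hw
  have hV₀ : T₀.hom (g₀.left w') ∈ V := by
    rw [← Scheme.Hom.comp_apply, Over.w g₀]
    show (pX f T).hom w ∈ V
    rw [← Over.w (pπ f T)]
    exact hpV
  let U₁ : T₀.left.Opens := ⟨goodSet a₀, isOpen_goodSet a₀⟩ ⊓ T₀.hom ⁻¹ᵁ V
  let T₁ := AbDual.ovr T₀ U₁.ι
  haveI : IsLocallyNoetherian T₁.left := inferInstanceAs (IsLocallyNoetherian (U₁ : Scheme.{u}))
  let a₁ := pull (PicF.XTmap f (AbDual.ovrHom T₀ U₁.ι)) a₀
  have hgood : goodSet a₁ = Set.univ := by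
    rw [goodSet_pull]
    exact Set.eq_univ_of_forall fun z => z.2.1
  let t₁ : T₁.left := ⟨g₀.left w', hw₀, hV₀⟩
  obtain ⟨U₂, ht₂, D, hD⟩ := exists_dv_nhd a₁ (t := t₁) (hgood.symm.subset (Set.mem_univ _))
  let T₂ := AbDual.ovr T₁ U₂.ι
  haveI : IsLocallyNoetherian T₂.left := inferInstanceAs (IsLocallyNoetherian (U₂ : Scheme.{u}))
  obtain ⟨y₂, hy₂, -⟩ := M.univ T₂ (by
    rintro _ ⟨z, rfl⟩
    exact z.1.2.2) D (by rw [hD, goodSet_pull, hgood, Set.preimage_univ])
  let O : (AbDual.ovr (pX f T) W.ι).left.Opens := g₀.left ⁻¹ᵁ (U₁.ι ''ᵁ U₂)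
  let T' := AbDual.ovr (AbDual.ovr (pX f T) W.ι) O.ι
  let j : T' ⟶ pX f T := AbDual.ovrHom _ O.ι ≫ ιW
  have hl : Set.range (O.ι ≫ g₀.left) ⊆ Set.range (U₂.ι ≫ U₁.ι) := by
    rintro _ ⟨z, rfl⟩
    obtain ⟨v, hv, hv'⟩ := z.2
    exact ⟨⟨v, hv⟩, hv'⟩
  let l := IsOpenImmersion.lift (U₂.ι ≫ U₁.ι) (O.ι ≫ g₀.left) hl
  have hl' : l ≫ U₂.ι ≫ U₁.ι = O.ι ≫ g₀.left := IsOpenImmersion.lift_fac _ _ _
  let k : T' ⟶ T₂ := Over.homMk l (by
    show l ≫ U₂.ι ≫ U₁.ι ≫ T₀.hom = T'.hom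
    rw [reassoc_of% hl', Over.w g₀]
    rfl)
  have hk : k ≫ AbDual.ovrHom T₁ U₂.ι ≫ AbDual.ovrHom T₀ U₁.ι = AbDual.ovrHom _ O.ι ≫ g₀ :=
    Over.OverMorphism.ext hl'
  haveI : IsOpenImmersion j.left := inferInstanceAs (IsOpenImmersion (O.ι ≫ W.ι))
  refine ⟨T', j ≫ pπ f T, k ≫ y₂, inferInstanceAs (Flat (j.left ≫ (pπ f T).left)),
    inferInstanceAs (LocallyOfFinitePresentation (j.left ≫ (pπ f T).left)),
    ⟨⟨w', ⟨t₁, ht₂, rfl⟩⟩, rfl⟩, ?_⟩
  rw [mapEl_eq_cl s (j ≫ pπ f T) (j.left ≫ pt f T) (by rw [Category.assoc, pt_f, Over.w]), mapEl_cl]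
  refine congrArg cl ?_
  have e : pLift (j ≫ pπ f T) (j.left ≫ pt f T) (by rw [Category.assoc, pt_f, Over.w]) = j :=
    pX_hom_ext (by simp) (by simp)
  rw [e, ← pull_pull_XTmap ιW, ← ha₀, pull_pull_XTmap, ← hk,
    ← pull_pull_XTmap (AbDual.ovrHom T₁ U₂.ι ≫ AbDual.ovrHom T₀ U₁.ι) k,
    ← pull_pull_XTmap (AbDual.ovrHom T₀ U₁.ι) (AbDual.ovrHom T₁ U₂.ι)]
  show pull (PicF.XTmap f k) (pull (PicF.XTmap f (AbDual.ovrHom T₁ U₂.ι)) a₁) = _
  rw [← hD, ← hy₂, ← pull_dvCls, pull_pull_XTmap]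

variable (ha : InvDescLib.UnivConst f)
include ha

omit [IsLocallyNoetherian S] in
/-- The points where an element comes flat locally from a piece: the element is then a point of the piece. -/
theorem exists_point {a : M.ι} (P : Piece M a) {T : Over S} (s : El f T)
    (h : ∀ p : T.left, ∃ (T' : Over S) (g : T' ⟶ T) (y : T' ⟶ M.Wo a), Flat g.left ∧
      LocallyOfFinitePresentation g.left ∧ p ∈ Set.range g.left ∧
      mapEl g s = mapEl y (cl (pull (PicF.XTmap f (M.inc a)) (dvCls M.D)))) :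
    ∃ x : T ⟶ P.Q, mapEl x P.u = s := by
  choose T' g y hflat hlfp hmem heq using h
  let W : T.left → Scheme.{u} := fun p => (T' p).left
  let v : ∀ p, W p ⟶ T.left := fun p => (g p).left
  let u := Sigma.desc v
  haveI : Flat u := IsZariskiLocalAtSource.sigmaDesc hflat
  haveI : LocallyOfFinitePresentation u := IsZariskiLocalAtSource.sigmaDesc hlfp
  haveI : Surjective u := ⟨fun p => by
    obtain ⟨z, hz⟩ := hmem p
    exact ⟨Sigma.ι W p z, by rw [← Scheme.Hom.comp_apply, Sigma.ι_desc]; exact hz⟩⟩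
  let U := AbDual.ovr T u
  let y' : ∀ p, AbDual.ovr T (v p) ⟶ M.Wo a := fun p => Over.homMk (y p).left ((Over.w (y p)).trans (Over.w (g p)).symm)
  let Y : U ⟶ M.Wo a := Over.homMk (Sigma.desc fun p => (y p).left) (Sigma.hom_ext _ _ fun p => by
    rw [Sigma.ι_desc_assoc]
    show _ = Sigma.ι W p ≫ u ≫ T.hom
    rw [Sigma.ι_desc_assoc, Over.w, Over.w])
  have hY : ∀ p, InvDescLib.pieceHom v p ≫ Y = y' p := fun p => Over.OverMorphism.ext (Sigma.ι_desc _ _)
  let αW := cl (pull (PicF.XTmap f (M.inc a)) (dvCls M.D))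
  have hU : mapEl (AbDual.ovrHom T u) s = mapEl Y αW := by
    refine el_ext_of_openCover ha (T := U) (W := W) (fun p => Sigma.ι W p)
      (fun z => (InvDescLib.isDisjointUnion_sigma W).cover z) fun p => ?_
    let c : AbDual.ovr U (Sigma.ι W p) ⟶ AbDual.ovr T (v p) := Over.homMk (𝟙 _) (by
      show 𝟙 _ ≫ v p ≫ T.hom = Sigma.ι W p ≫ u ≫ T.hom
      rw [Category.id_comp, Sigma.ι_desc_assoc])
    let d : AbDual.ovr T (v p) ⟶ T' p := Over.homMk (𝟙 _) ((Category.id_comp _).trans (Over.w (g p)).symm)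
    have e : AbDual.ovrHom U (Sigma.ι W p) = c ≫ InvDescLib.pieceHom v p :=
      Over.OverMorphism.ext (Category.id_comp _).symm
    rw [e, ← mapEl_comp, ← mapEl_comp, mapEl_comp (InvDescLib.pieceHom v p), InvDescLib.pieceHom_comp,
      mapEl_comp (InvDescLib.pieceHom v p), hY,
      show AbDual.ovrHom T (v p) = d ≫ g p from Over.OverMorphism.ext (Category.id_comp _).symm,
      show y' p = d ≫ y p from Over.OverMorphism.ext (Category.id_comp _).symm, ← mapEl_comp, heq]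
    simp only [αW, mapEl_comp, Category.assoc]
  let b : U ⟶ P.Q := Y ≫ P.q
  have hb : mapEl b P.u = mapEl (AbDual.ovrHom T u) s := by
    rw [hU, ← mapEl_comp, P.u_eq]
  let UU := AbDual.ovr U (pullback.fst u u)
  let k₁ : UU ⟶ U := AbDual.ovrHom U (pullback.fst u u)
  let k₂ : UU ⟶ U := Over.homMk (pullback.snd u u) (pullback.condition_assoc T.hom).symm
  have hk : k₁ ≫ b = k₂ ≫ b := P.mono UU _ _ (by
    rw [← mapEl_comp k₁ b, ← mapEl_comp k₂ b, hb, mapEl_comp, mapEl_comp,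
      show k₁ ≫ AbDual.ovrHom T u = k₂ ≫ AbDual.ovrHom T u from Over.OverMorphism.ext pullback.condition])
  haveI := SchDesc.IsFpqc.of_locallyOfFinitePresentation u
  let x₀ : T.left ⟶ P.Q.left := EffectiveEpi.desc u b.left fun {R} t t' htt => by
    have h := congrArg (fun k => pullback.lift t t' htt ≫ CommaMorphism.left k) hk
    simpa [k₁, k₂] using h
  have hx₀ : u ≫ x₀ = b.left := EffectiveEpi.fac _ _ _
  let x : T ⟶ P.Q := Over.homMk x₀ (by
    rw [← cancel_epi u, reassoc_of% hx₀]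
    exact Over.w b)
  haveI : Flat (AbDual.ovrHom T u).left := ‹Flat u›
  haveI : LocallyOfFinitePresentation (AbDual.ovrHom T u).left := ‹LocallyOfFinitePresentation u›
  haveI : Surjective (AbDual.ovrHom T u).left := ‹Surjective u›
  refine ⟨x, el_ext_of_hom ha (AbDual.ovrHom T u) ?_⟩
  rw [mapEl_comp, show AbDual.ovrHom T u ≫ x = b from Over.OverMorphism.ext hx₀, hb]

/-- The subfunctor of a piece is open. -/
theorem exists_open_piece (E : Rel M.Z (dvCls M.D)) {a : M.ι} (P : Piece M a) {T : Over S} (s : El f T) :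
    ∃ O : T.left.Opens, ∀ (T' : Over S) (t : T' ⟶ T),
      (∃ x : T' ⟶ P.Q, mapEl x P.u = mapEl t s) ↔ Set.range t.left ⊆ O := by
  let α := cl (pull (PicF.XTmap f (M.inc a)) (dvCls M.D))
  let O : Set T.left := {p | ∃ (T' : Over S) (g : T' ⟶ T) (y : T' ⟶ M.Wo a), Flat g.left ∧
    LocallyOfFinitePresentation g.left ∧ p ∈ Set.range g.left ∧ mapEl g s = mapEl y α}
  have hO : IsOpen O := by
    rw [isOpen_iff_forall_mem_open]
    rintro p ⟨T', g, y, hg₁, hg₂, hp, hgy⟩
    haveI := hg₁; haveI := hg₂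
    exact ⟨Set.range g.left, fun q hq => ⟨T', g, y, hg₁, hg₂, hq, hgy⟩, g.left.isOpenMap.isOpen_range, hp⟩
  refine ⟨⟨O, hO⟩, fun T' t => ⟨?_, fun hr => exists_point ha P (mapEl t s) fun p => ?_⟩⟩
  · rintro ⟨x, hx⟩ _ ⟨p, rfl⟩
    have hgood : t.left p ∈ elGood s := by
      show p ∈ t.left ⁻¹' elGood s
      rw [← elGood_mapEl, ← hx, elGood_mapEl, elGood_u, Set.preimage_univ]
      trivial
    have hpV : T.hom (t.left p) ∈ V := by
      obtain ⟨N, j, -, hj⟩ := P.embed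
      rw [← Scheme.Hom.comp_apply, Over.w, ← Over.w x, Scheme.Hom.comp_apply, ← hj]
      exact (CohB1.ProjSpaceOver.toBase N (V : Scheme.{u}) (j (x.left p))).2
    obtain ⟨T₁, g, y₁, hg₁, hg₂, ⟨w, hw⟩, hgy⟩ := exists_div_nhd M s _ hgood hpV
    haveI := hg₁; haveI := hg₂; haveI := P.flat; haveI := P.surj; haveI := M.lN
    -- the open part of the relation with second point in the piece
    haveI := flat_r₁ E ha
    haveI := lfp_r₁ E
    let G : E.R.left.Opens := E.r₂.left ⁻¹ᵁ M.W a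
    let r₀ : AbDual.ovr E.R G.ι ⟶ M.Z := AbDual.ovrHom E.R G.ι ≫ E.r₁
    haveI : Flat r₀.left := inferInstanceAs (Flat (G.ι ≫ E.r₁.left))
    haveI : LocallyOfFinitePresentation r₀.left :=
      inferInstanceAs (LocallyOfFinitePresentation (G.ι ≫ E.r₁.left))
    let T₃ : Over S := AbDual.ovr T₁ (pullback.fst y₁.left r₀.left)
    let g₃ : T₃ ⟶ T₁ := AbDual.ovrHom T₁ (pullback.fst y₁.left r₀.left)
    let ρ : T₃ ⟶ AbDual.ovr E.R G.ι := Over.homMk (pullback.snd y₁.left r₀.left) (by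
      show _ = pullback.fst _ _ ≫ T₁.hom
      rw [← Over.w r₀, ← pullback.condition_assoc, Over.w])
    have hρ : g₃ ≫ y₁ = ρ ≫ r₀ := Over.OverMorphism.ext pullback.condition
    have hl : Set.range (G.ι ≫ E.r₂.left) ⊆ Set.range (M.W a).ι := by
      rw [Scheme.Opens.range_ι]; rintro _ ⟨z, rfl⟩; exact z.2
    let y₃ : AbDual.ovr E.R G.ι ⟶ M.Wo a := Over.homMk (IsOpenImmersion.lift (M.W a).ι (G.ι ≫ E.r₂.left) hl) (by
      show _ ≫ (M.W a).ι ≫ M.Z.hom = G.ι ≫ E.R.hom
      rw [IsOpenImmersion.lift_fac_assoc, Category.assoc, Over.w])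
    have hy₃ : y₃ ≫ M.inc a = AbDual.ovrHom E.R G.ι ≫ E.r₂ := Over.OverMorphism.ext (IsOpenImmersion.lift_fac _ _ _)
    refine ⟨T₃, g₃ ≫ g, ρ ≫ y₃, inferInstanceAs (Flat (pullback.fst y₁.left r₀.left ≫ g.left)),
      inferInstanceAs (LocallyOfFinitePresentation (pullback.fst y₁.left r₀.left ≫ g.left)), ?_, ?_⟩
    · -- a point over the given one
      obtain ⟨c, hc⟩ := P.q.left.surjective (x.left p)
      obtain ⟨v, hv, -⟩ :=
        Scheme.exists_preimage_of_isPullback (IsPullback.of_hasPullback x.left P.q.left) p c hc.symm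
      let t' := pullback.fst x.left P.q.left ≫ t.left
      obtain ⟨z, hz₁, hz₂⟩ := Scheme.exists_preimage_of_isPullback (IsPullback.of_hasPullback t' g.left) v w (by
        show (pullback.fst x.left P.q.left ≫ t.left) v = g.left w
        rw [Scheme.Hom.comp_apply, hv, hw])
      let F : Over S := AbDual.ovr T (pullback.snd t' g.left ≫ g.left)
      let yA : F ⟶ M.Wo a := Over.homMk (pullback.fst t' g.left ≫ pullback.snd x.left P.q.left) (by
        show _ = (pullback.snd t' g.left ≫ g.left) ≫ T.hom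
        rw [← pullback.condition, ← Over.w P.q, Category.assoc, ← pullback.condition_assoc, Over.w]
        simp only [t', Category.assoc, Over.w])
      let yB : F ⟶ T₁ := Over.homMk (pullback.snd t' g.left) (by
        show _ = (pullback.snd t' g.left ≫ g.left) ≫ T.hom
        rw [Category.assoc, Over.w])
      let yT : F ⟶ T' := Over.homMk (pullback.fst t' g.left ≫ pullback.fst x.left P.q.left) (by
        show _ = (pullback.snd t' g.left ≫ g.left) ≫ T.hom
        rw [← pullback.condition]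
        simp only [t', Category.assoc, Over.w])
      have e₁ : yB ≫ g = yT ≫ t := Over.OverMorphism.ext (by
        show pullback.snd t' g.left ≫ g.left = (pullback.fst t' g.left ≫ pullback.fst x.left P.q.left) ≫ t.left
        rw [← pullback.condition, Category.assoc])
      have e₂ : yA ≫ P.q = yT ≫ x := Over.OverMorphism.ext (by
        show (_ ≫ pullback.snd x.left P.q.left) ≫ P.q.left = (_ ≫ pullback.fst x.left P.q.left) ≫ x.left
        rw [Category.assoc, Category.assoc, pullback.condition])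
      have hcl : mapEl (yB ≫ y₁) (cl (dvCls M.D)) = mapEl (yA ≫ M.inc a) (cl (dvCls M.D)) := by
        rw [← mapEl_comp, ← hgy, mapEl_comp, e₁, ← mapEl_comp, ← hx, mapEl_comp, ← e₂, ← mapEl_comp, P.u_eq,
          ← mapEl_comp yA (M.inc a), mapEl_cl (M.inc a)]
      rw [mapEl_cl, mapEl_cl, cl_eq_iff ha, ← E.iff] at hcl
      obtain ⟨r, hr₁, hr₂⟩ := hcl
      have hrG : r.left z ∈ G := by
        show E.r₂.left (r.left z) ∈ M.W a
        rw [← Scheme.Hom.comp_apply, show r.left ≫ E.r₂.left = yA.left ≫ (M.W a).ι from congrArg CommaMorphism.left hr₂]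
        exact (yA.left z).2
      obtain ⟨z₃, hz₃, -⟩ := Scheme.exists_preimage_of_isPullback (IsPullback.of_hasPullback y₁.left r₀.left) w
        ⟨r.left z, hrG⟩ (by
          show y₁.left w = E.r₁.left (r.left z)
          rw [← Scheme.Hom.comp_apply r.left, show r.left ≫ E.r₁.left = pullback.snd t' g.left ≫ y₁.left from
            congrArg CommaMorphism.left hr₁, Scheme.Hom.comp_apply]
          exact congrArg y₁.left hz₂.symm)
      exact ⟨z₃, by
        show g.left (pullback.fst y₁.left r₀.left z₃) = t.left p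
        rw [hz₃, hw]⟩
    · rw [← mapEl_comp, hgy, mapEl_comp, hρ, mapEl_cl, mapEl_cl]
      refine cl_congr ?_
      rw [InvDescLib.pull_XTmap_XTmap (M.inc a) (ρ ≫ y₃) rfl, Category.assoc, hy₃, ← E.iff]
      exact ⟨ρ ≫ AbDual.ovrHom E.R G.ι, Category.assoc _ _ _, Category.assoc _ _ _⟩
  · obtain ⟨T₁, g, y, hg₁, hg₂, ⟨w, hw⟩, hgy⟩ := hr ⟨p, rfl⟩
    haveI := hg₁; haveI := hg₂
    let T₂ : Over S := AbDual.ovr T' (pullback.fst t.left g.left)
    let k : T₂ ⟶ T₁ := Over.homMk (pullback.snd t.left g.left) (by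
      show _ = pullback.fst t.left g.left ≫ T'.hom
      rw [← Over.w g, ← pullback.condition_assoc, Over.w])
    obtain ⟨z, hz, -⟩ := Scheme.exists_preimage_of_isPullback (IsPullback.of_hasPullback t.left g.left) p w hw.symm
    refine ⟨T₂, AbDual.ovrHom T' (pullback.fst t.left g.left), k ≫ y, inferInstanceAs (Flat (pullback.fst t.left g.left)),
      inferInstanceAs (LocallyOfFinitePresentation (pullback.fst t.left g.left)), ⟨z, hz⟩, ?_⟩
    rw [mapEl_comp, ← mapEl_comp k y, ← hgy, mapEl_comp,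
      show k ≫ g = AbDual.ovrHom T' (pullback.fst t.left g.left) ≫ t from
        Over.OverMorphism.ext pullback.condition.symm]

/-- An element good at a point lying over the open is near it a point of some piece. -/
theorem exists_piece_nhd (E : Rel M.Z (dvCls M.D)) (P : ∀ a, Piece M a) {T : Over S} (s : El f T) (p : T.left)
    (hp : p ∈ elGood s) (hpV : T.hom p ∈ V) :
    ∃ (a : M.ι) (T' : Over S) (t : T' ⟶ T) (x : T' ⟶ (P a).Q),
      IsOpenImmersion t.left ∧ p ∈ Set.range t.left ∧ mapEl x (P a).u = mapEl t s := by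
  obtain ⟨T₁, g, y, hg₁, hg₂, ⟨w, hw⟩, hgy⟩ := exists_div_nhd M s p hp hpV
  haveI := hg₁; haveI := hg₂
  obtain ⟨a, hwa⟩ := M.cover (y.left w)
  let O : T₁.left.Opens := y.left ⁻¹ᵁ M.W a
  let T₂ := AbDual.ovr T₁ O.ι
  let j : T₂ ⟶ T₁ := AbDual.ovrHom T₁ O.ι
  have hl : Set.range (O.ι ≫ y.left) ⊆ Set.range (M.W a).ι := by
    rw [Scheme.Opens.range_ι]; rintro _ ⟨z, rfl⟩; exact z.2
  let y₂ : T₂ ⟶ M.Wo a := Over.homMk (IsOpenImmersion.lift (M.W a).ι (O.ι ≫ y.left) hl) (by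
    show _ ≫ (M.W a).ι ≫ M.Z.hom = O.ι ≫ T₁.hom
    rw [IsOpenImmersion.lift_fac_assoc, Category.assoc, Over.w])
  have hy₂ : y₂ ≫ M.inc a = j ≫ y := Over.OverMorphism.ext (IsOpenImmersion.lift_fac _ _ _)
  haveI : Flat (j ≫ g).left := inferInstanceAs (Flat (O.ι ≫ g.left))
  haveI : LocallyOfFinitePresentation (j ≫ g).left := inferInstanceAs (LocallyOfFinitePresentation (O.ι ≫ g.left))
  obtain ⟨Op, hOp⟩ := exists_open_piece ha E (P a) s
  have hr : Set.range (j ≫ g).left ⊆ Op := (hOp T₂ (j ≫ g)).1 ⟨y₂ ≫ (P a).q, by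
    rw [← mapEl_comp y₂, (P a).u_eq, mapEl_cl, InvDescLib.pull_XTmap_XTmap (M.inc a) y₂ rfl, hy₂, ← mapEl_cl,
      ← mapEl_comp, ← hgy, mapEl_comp]⟩
  obtain ⟨x, hx⟩ := (hOp (AbDual.ovr T Op.ι) (AbDual.ovrHom T Op.ι)).2
    (by show Set.range Op.ι ⊆ _; rw [Scheme.Opens.range_ι])
  exact ⟨a, _, AbDual.ovrHom T Op.ι, x, inferInstanceAs (IsOpenImmersion Op.ι),
    ⟨⟨p, hr ⟨⟨w, hwa⟩, hw⟩⟩, rfl⟩, hx⟩

end Groth.Agent.PicSch
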