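import Groth.Agent.Boot.Helpers

/-!
# Disjoint unions of separated schemes over a base
-/

set_option autoImplicit false
set_option backward.isDefEq.respectTransparency false
set_option backward.isDefEq.respectTransparency.types false

universe u

open CategoryTheory CategoryTheory.Limits AlgebraicGeometry Opposite

namespace Groth.Agent.PicSch

/-- A coproduct of schemes separated over the base is separated over it. -/
theorem isSeparated_of_sigma {S : Scheme.{u}} {ι : Type u} (X : ι → Scheme.{u}) (g : (∐ X) ⟶ S)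
    (hg : ∀ i, IsSeparated (Sigma.ι X i ≫ g)) : IsSeparated g := by
  let ι' := fun i => Sigma.ι X i
  let f := g
  let Δ := pullback.diagonal f
  suffices h : IsClosed (Set.range Δ) by
    haveI : IsClosedImmersion Δ := IsClosedImmersion.of_isPreimmersion Δ h
    exact ⟨‹IsClosedImmersion Δ›⟩
  rw [← isOpen_compl_iff, isOpen_iff_forall_mem_open]
  intro z hz
  obtain ⟨i, a, ha⟩ := (sigmaOpenCover X).exists_eq (pullback.fst f f z)
  obtain ⟨j, b, hb⟩ := (sigmaOpenCover X).exists_eq (pullback.snd f f z)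
  have ha' : Sigma.ι X i a = pullback.fst f f z := ha
  have hb' : Sigma.ι X j b = pullback.snd f f z := hb
  haveI hio : ∀ k, IsOpenImmersion (Sigma.ι X k) := fun k => (sigmaOpenCover X).map_prop k
  by_cases hij : i = j
  · subst hij
    let m := pullback.map (Sigma.ι X i ≫ g) (Sigma.ι X i ≫ g) f f (Sigma.ι X i) (Sigma.ι X i) (𝟙 _)
      (Category.comp_id _) (Category.comp_id _)
    haveI := hg i
    haveI : IsClosedImmersion (pullback.diagonal (Sigma.ι X i ≫ g)) := inferInstance
    refine ⟨m '' (Set.range (pullback.diagonal (Sigma.ι X i ≫ g)))ᶜ, ?_, ?_, ?_⟩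
    · rintro _ ⟨w, hw, rfl⟩ ⟨v, hv⟩
      have h1 : pullback.fst f f (m w) = v := by
        rw [← hv, ← Scheme.Hom.comp_apply, pullback.diagonal_fst]; rfl
      have h2 : (pullback.fst (Sigma.ι X i ≫ g) (Sigma.ι X i ≫ g) ≫ Sigma.ι X i) w = v := by
        rw [← h1, ← Scheme.Hom.comp_apply]
        simp [m, pullback.map]
      rw [Scheme.Hom.comp_apply] at h2
      refine hw ⟨pullback.fst (Sigma.ι X i ≫ g) (Sigma.ι X i ≫ g) w, m.isOpenEmbedding.injective ?_⟩
      have h3 : pullback.diagonal (Sigma.ι X i ≫ g) ≫ m = Sigma.ι X i ≫ Δ := by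
        apply pullback.hom_ext
        · simp [m, Δ, pullback.map]
        · simp [m, Δ, pullback.map]
      rw [← Scheme.Hom.comp_apply, h3, Scheme.Hom.comp_apply, h2, hv]
    · exact m.isOpenMap _ (pullback.diagonal (Sigma.ι X i ≫ g)).isClosedEmbedding.isClosed_range.isOpen_compl
    · have hm : z ∈ Set.range m := by
        rw [Scheme.Pullback.range_map]
        exact ⟨⟨a, ha'⟩, ⟨b, hb'⟩⟩
      obtain ⟨w, rfl⟩ := hm
      refine ⟨w, fun ⟨v, hv⟩ => hz ⟨Sigma.ι X i v, ?_⟩, rfl⟩
      have h3 : pullback.diagonal (Sigma.ι X i ≫ g) ≫ m = Sigma.ι X i ≫ Δ := by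
        apply pullback.hom_ext
        · simp [m, Δ, pullback.map]
        · simp [m, Δ, pullback.map]
      rw [← hv, ← Scheme.Hom.comp_apply, ← Scheme.Hom.comp_apply, h3]
  · refine ⟨(pullback.fst f f) ⁻¹' Set.range (Sigma.ι X i) ∩ (pullback.snd f f) ⁻¹' Set.range (Sigma.ι X j),
      ?_, ?_, ⟨⟨a, ha'⟩, ⟨b, hb'⟩⟩⟩
    · rintro _ ⟨⟨c, hc⟩, ⟨e, he⟩⟩ ⟨v, rfl⟩
      rw [← Scheme.Hom.comp_apply, pullback.diagonal_fst] at hc
      rw [← Scheme.Hom.comp_apply, pullback.diagonal_snd] at he
      exact Set.disjoint_iff.1 ((TopologicalSpace.Opens.coe_disjoint).2 (disjoint_opensRange_sigmaι X i j hij))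
        ⟨⟨c, rfl⟩, ⟨e, he.trans hc.symm⟩⟩
    · exact (((Sigma.ι X i).isOpenEmbedding.isOpen_range).preimage (pullback.fst f f).continuous).inter
        (((Sigma.ι X j).isOpenEmbedding.isOpen_range).preimage (pullback.snd f f).continuous)

end Groth.Agent.PicSch
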