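import Groth.Agent.PicSchLib.Dv
import Groth.Agent.PicSchLib.SepSigma
import Groth.Agent.PicSchLib.Functor
import Groth.Agent.QuotRepLib.HilbQuot
import Groth.Agent.FlatStratLib.Proj
import Groth.Agent.S3218
import Groth.Agent.Boot.Helpers

/-!
# The moduli of good divisors over a Noetherian open of the base
-/

set_option autoImplicit false
set_option backward.isDefEq.respectTransparency false
set_option backward.isDefEq.respectTransparency.types false
set_option linter.style.haveILetI false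
set_option maxHeartbeats 1000000

universe u

open CategoryTheory CategoryTheory.Limits AlgebraicGeometry TopologicalSpace Opposite
open Groth.Agent.PicLib

noncomputable section

namespace Groth.Agent.PicSch

/-- Closed subschemes proper and flat over the base along a cartesian square. -/
theorem proper_flat_comap_of_isPullback {P' P H T : Scheme.{u}} {φ : P ⟶ H} {g : T ⟶ H} {k : P' ⟶ P} {φ' : P' ⟶ T}
    (h : IsPullback k φ' φ g) (I : P.IdealSheafData)
    (hI : IsProper (I.subschemeι ≫ φ) ∧ Flat (I.subschemeι ≫ φ)) :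
    IsProper ((I.comap k).subschemeι ≫ φ') ∧ Flat ((I.comap k).subschemeι ≫ φ') := by
  have sq : IsPullback (pullback.snd k I.subschemeι) (pullback.fst k I.subschemeι ≫ φ') (I.subschemeι ≫ φ) g :=
    IsPullback.paste_vert (IsPullback.of_hasPullback k I.subschemeι).flip h
  rw [← Scheme.IdealSheafData.comapIso_hom_fst, Category.assoc]
  exact ⟨(MorphismProperty.cancel_left_of_respectsIso @IsProper _ _).2 (MorphismProperty.of_isPullback sq hI.1),
    (MorphismProperty.cancel_left_of_respectsIso @Flat _ _).2 (MorphismProperty.of_isPullback sq hI.2)⟩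

variable {X S : Scheme.{u}} (f : X ⟶ S) (V : S.Opens)

/-- The restriction of the morphism over an open of the base. -/
def fOn : (f ⁻¹ᵁ V : Scheme.{u}) ⟶ (V : Scheme.{u}) := f ∣_ V

/-- A scheme over `V` as a scheme over `S`. -/
def toS (T : Over (V : Scheme.{u})) : Over S := Over.mk (T.hom ≫ V.ι)

/-- A morphism over `V` as a morphism over `S`. -/
def toSMap {T T' : Over (V : Scheme.{u})} (g : T' ⟶ T) : toS V T' ⟶ toS V T :=
  Over.homMk g.left (by
    show g.left ≫ T.hom ≫ V.ι = T'.hom ≫ V.ι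
    rw [← Category.assoc, Over.w])

theorem isPullback_fOn (T : Over (V : Scheme.{u})) :
    IsPullback (pullback.fst (fOn f V) T.hom ≫ (f ⁻¹ᵁ V).ι) (PicF.XTproj (fOn f V) T) f (T.hom ≫ V.ι) :=
  (IsPullback.of_hasPullback (fOn f V) T.hom).paste_horiz (isPullback_morphismRestrict f V).flip

/-- The family over `V` as a family over `S`. -/
def onIso (T : Over (V : Scheme.{u})) : PicF.XT (fOn f V) T ≅ PicF.XT f (toS V T) := (isPullback_fOn f V T).isoPullback

theorem onIso_proj (T : Over (V : Scheme.{u})) :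
    (onIso f V T).hom ≫ PicF.XTproj f (toS V T) = PicF.XTproj (fOn f V) T :=
  (isPullback_fOn f V T).isoPullback_hom_snd

theorem onIso_natural {T T' : Over (V : Scheme.{u})} (g : T' ⟶ T) :
    PicF.XTmap (fOn f V) g ≫ (onIso f V T).hom = (onIso f V T').hom ≫ PicF.XTmap f (toSMap V g) := by
  apply pullback.hom_ext
  · rw [Category.assoc, Category.assoc, XTmap_fst',
      show (onIso f V T).hom ≫ pullback.fst f (toS V T).hom = _ from (isPullback_fOn f V T).isoPullback_hom_fst,
      show (onIso f V T').hom ≫ pullback.fst f (toS V T').hom = _ from (isPullback_fOn f V T').isoPullback_hom_fst,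
      ← Category.assoc, XTmap_fst']
  · show (PicF.XTmap (fOn f V) g ≫ (onIso f V T).hom) ≫ PicF.XTproj f (toS V T) =
      ((onIso f V T').hom ≫ PicF.XTmap f (toSMap V g)) ≫ PicF.XTproj f (toS V T)
    rw [Category.assoc, Category.assoc, onIso_proj, InvDescLib.XTmap_proj, InvDescLib.XTmap_proj]
    exact congrArg (· ≫ g.left) (onIso_proj f V T').symm

theorem isPullback_onIso (T : Over (V : Scheme.{u})) :
    IsPullback (onIso f V T).hom (PicF.XTproj (fOn f V) T) (PicF.XTproj f (toS V T)) (𝟙 T.left) :=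
  haveI : IsIso (𝟙 T.left : T.left ⟶ (toS V T).left) := IsIso.id T.left
  IsPullback.of_horiz_isIso ⟨(onIso_proj f V T).trans (Category.comp_id _).symm⟩

theorem isPullback_onIso_inv (T : Over (V : Scheme.{u})) :
    IsPullback (onIso f V T).inv (PicF.XTproj f (toS V T)) (PicF.XTproj (fOn f V) T) (𝟙 T.left) :=
  haveI : IsIso (𝟙 T.left : (toS V T).left ⟶ T.left) := IsIso.id T.left
  IsPullback.of_horiz_isIso ⟨((Iso.inv_comp_eq _).2 (onIso_proj f V T).symm).trans (Category.comp_id _).symm⟩

/-- A Hilbert scheme for the part of the family over a Noetherian open of the base. -/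
theorem exists_hilb_on [IsNoetherian (V : Scheme.{u})] {n : ℕ} (i : X ⟶ CohB1.ProjSpaceOver n S) [IsClosedImmersion i]
    (hi : i ≫ CohB1.ProjSpaceOver.toBase n S = f) :
    ∃ (H : Over S) (_ : Set.range H.hom ⊆ (V : Set S)) (I : FGA.HilbSet f H), IsLocallyNoetherian H.left ∧
      (∀ (T : Over S) [IsLocallyNoetherian T.left] (Y : FGA.HilbSet f T), Set.range T.hom ⊆ (V : Set S) →
        ∃! g : T ⟶ H, I.1.comap (PicF.XTmap f g) = Y.1) ∧
      IsSeparated H.hom ∧ LocallyOfFiniteType H.hom ∧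
      ∃ (ι : Type u) (P : ι → Scheme.{u}) (p : ∀ a, P a ⟶ H.left), (∀ a, IsOpenImmersion (p a)) ∧
        InvDescLib.IsDisjointUnion p ∧ ∀ a, ∃ (N : ℕ) (c : P a ⟶ CohB1.ProjSpaceOver N (V : Scheme.{u})),
          IsClosedImmersion c ∧ c ≫ CohB1.ProjSpaceOver.toBase N _ ≫ V.ι = p a ≫ H.hom := by
  let w : (f ⁻¹ᵁ V).ι ≫ i ≫ CohB1.ProjSpaceOver.toBase n S = fOn f V ≫ V.ι := by
    rw [hi]; exact (morphismRestrict_ι f V).symm
  let iV : (f ⁻¹ᵁ V : Scheme.{u}) ⟶ CohB1.ProjSpaceOver n (V : Scheme.{u}) :=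
    (FlatStrat.isPullback_projMap V.ι).lift ((f ⁻¹ᵁ V).ι ≫ i) (fOn f V) (by rw [Category.assoc]; exact w)
  have hiV : iV ≫ CohB1.ProjSpaceOver.toBase n _ = fOn f V := IsPullback.lift_snd _ _ _ _
  have hsq : IsPullback (f ⁻¹ᵁ V).ι iV i (FGA.projMap n V.ι) := by
    refine IsPullback.of_bot ?_ (IsPullback.lift_fst _ _ _ _).symm (FlatStrat.isPullback_projMap V.ι)
    rw [hiV, hi]
    exact (isPullback_morphismRestrict f V).flip
  haveI : IsClosedImmersion iV := MorphismProperty.of_isPullback (P := @IsClosedImmersion) hsq ‹_›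
  have hS := S3218.result (V : Scheme.{u}) n (f ⁻¹ᵁ V : Scheme.{u}) iV
  rw [hiV] at hS
  obtain ⟨H₀, I₀, ⟨hlN, huniv⟩, ι, P, e, r, c, hc⟩ := hS
  let H : Over S := toS V H₀
  have hrange : Set.range H.hom ⊆ (V : Set S) := by
    rintro _ ⟨z, rfl⟩
    exact (H₀.hom z).2
  let I : FGA.HilbSet f H := ⟨I₀.1.comap (onIso f V H₀).inv,
    proper_flat_comap_of_isPullback (isPullback_onIso_inv f V H₀) I₀.1 I₀.2⟩
  refine ⟨H, hrange, I, hlN, fun T _ Y hT => ?_, ?_, ?_, ι, P, fun a => Sigma.ι P a ≫ e.hom, fun a => inferInstance, ?_,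
    fun a => ⟨r a, c a, (hc a).1, by
      rw [← Category.assoc (c a), (hc a).2, Category.assoc, Category.assoc, Category.assoc]
      rfl⟩⟩
  · obtain ⟨T₀, ⟨⟩, hom⟩ := T
    obtain ⟨t, rfl⟩ : ∃ t : T₀ ⟶ (V : Scheme.{u}), t ≫ V.ι = hom :=
      ⟨IsOpenImmersion.lift V.ι hom (by rw [Scheme.Opens.range_ι]; exact hT), IsOpenImmersion.lift_fac _ _ _⟩
    let TV : Over (V : Scheme.{u}) := Over.mk t
    haveI : IsLocallyNoetherian TV.left := inferInstanceAs (IsLocallyNoetherian T₀)
    let YV : FGA.HilbSet (fOn f V) TV := ⟨Y.1.comap (onIso f V TV).hom,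
      proper_flat_comap_of_isPullback (isPullback_onIso f V TV) Y.1 Y.2⟩
    obtain ⟨g, hg, hu⟩ := huniv TV YV
    have key : ∀ g : TV ⟶ H₀, I.1.comap (PicF.XTmap f (toSMap V g)) = Y.1 ↔ FGA.hilbPull (fOn f V) g I₀.1 = YV.1 := by
      intro g
      rw [QuotRep.hilbPull_eq_comap]
      show (I₀.1.comap _).comap _ = _ ↔ I₀.1.comap _ = Y.1.comap _
      have h1 : PicF.XTmap f (toSMap V g) ≫ (onIso f V H₀).inv = (onIso f V TV).inv ≫ PicF.XTmap (fOn f V) g := by
        rw [Iso.comp_inv_eq, Category.assoc, onIso_natural, Iso.inv_hom_id_assoc]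
      rw [← Scheme.IdealSheafData.comap_comp, h1, Scheme.IdealSheafData.comap_comp]
      constructor
      · intro h
        rw [← h, ← Scheme.IdealSheafData.comap_comp, Iso.hom_inv_id, Scheme.IdealSheafData.comap_id]
      · intro h
        rw [h, ← Scheme.IdealSheafData.comap_comp, Iso.inv_hom_id, Scheme.IdealSheafData.comap_id]
    refine ⟨toSMap V g, (key g).2 hg, fun g' hg' => ?_⟩
    let g₀ : TV ⟶ H₀ := Over.homMk g'.left (by
      rw [← cancel_mono V.ι, Category.assoc]
      exact Over.w g')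
    have he : toSMap V g₀ = g' := Over.OverMorphism.ext rfl
    rw [← he] at hg'
    rw [← he, hu g₀ ((key g₀).1 hg')]
  · show IsSeparated (H₀.hom ≫ V.ι)
    haveI : IsSeparated (e.hom ≫ H₀.hom) := isSeparated_of_sigma P _ fun a => by
      haveI := (hc a).1
      haveI : IsProper (CohB1.ProjSpaceOver.toBase (r a) (V : Scheme.{u})) := BCLib.isProper_toBase _ _
      rw [← (hc a).2]
      infer_instance
    haveI : IsSeparated H₀.hom := by
      rw [← e.inv_hom_id_assoc H₀.hom]
      infer_instance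
    infer_instance
  · haveI := fun a => (hc a).1
    show LocallyOfFiniteType (H₀.hom ≫ V.ι)
    haveI : ∀ a, LocallyOfFiniteType (CohB1.ProjSpaceOver.toBase (r a) (V : Scheme.{u})) := fun a =>
      haveI : IsProper (CohB1.ProjSpaceOver.toBase (r a) (V : Scheme.{u})) := BCLib.isProper_toBase _ _
      inferInstance
    have h : e.hom ≫ H₀.hom = Sigma.desc fun a => c a ≫ CohB1.ProjSpaceOver.toBase (r a) (V : Scheme.{u}) :=
      Sigma.hom_ext _ _ fun a => by rw [Sigma.ι_desc, (hc a).2]
    haveI : LocallyOfFiniteType (e.hom ≫ H₀.hom) := by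
      rw [h]
      exact IsZariskiLocalAtSource.sigmaDesc fun a => inferInstance
    haveI : LocallyOfFiniteType H₀.hom := by
      rw [← e.inv_hom_id_assoc H₀.hom]
      infer_instance
    infer_instance
  · refine ⟨fun a b x y h => ?_, fun z => ?_⟩
    · refine (InvDescLib.isDisjointUnion_sigma P).disj a b x y (e.hom.isOpenEmbedding.injective ?_)
      rw [← Scheme.Hom.comp_apply, ← Scheme.Hom.comp_apply]
      exact h
    · obtain ⟨a, x, hx⟩ := (InvDescLib.isDisjointUnion_sigma P).cover (e.inv z)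
      refine ⟨a, x, ?_⟩
      rw [Scheme.Hom.comp_apply, hx, ← Scheme.Hom.comp_apply, Iso.inv_hom_id]
      rfl

end Groth.Agent.PicSch
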