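import Groth.Agent.PicSchLib.DivMod
import Groth.Agent.QuotRepLib.DivOpen

/-!
# The scheme of good relative divisors over a Noetherian open of the base
-/

set_option autoImplicit false
set_option backward.isDefEq.respectTransparency false
set_option backward.isDefEq.respectTransparency.types false
set_option linter.style.haveILetI false
set_option maxHeartbeats 1000000

universe u

open CategoryTheory CategoryTheory.Limits AlgebraicGeometry TopologicalSpace Opposite
open Groth.Agent.PicLib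

noncomputable section

namespace Groth.Agent.PicSch

variable {X S : Scheme.{u}}

theorem XTmap_comp' {f : X ⟶ S} {T T' T'' : Over S} (g : T' ⟶ T) (h : T'' ⟶ T') :
    PicF.XTmap f h ≫ PicF.XTmap f g = PicF.XTmap f (h ≫ g) :=
  AbDualLib.XTmap_comp (X := Over.mk f) f g h

/-- The scheme of good divisors over an open of the base. -/
structure DivMod (f : X ⟶ S) (V : S.Opens) where
  /-- The scheme. -/
  Z : Over S
  lN : IsLocallyNoetherian Z.left
  range : Set.range Z.hom ⊆ (V : Set S)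
  /-- The universal divisor. -/
  D : Dv f Z
  good : goodSet (dvCls D) = Set.univ
  univ : ∀ (T : Over S) [IsLocallyNoetherian T.left], Set.range T.hom ⊆ (V : Set S) → ∀ Y : Dv f T,
    goodSet (dvCls Y) = Set.univ → ∃! g : T ⟶ Z, pullDv g D = Y
  sep : IsSeparated Z.hom
  lft : LocallyOfFiniteType Z.hom
  /-- The index of the pieces. -/
  ι : Type u
  /-- The pieces. -/
  W : ι → Z.left.Opens
  disj : Pairwise fun a b => Disjoint (W a) (W b)
  cover : ∀ z : Z.left, ∃ a, z ∈ W a
  embed : ∀ a, ∃ (N : ℕ) (c : (W a : Scheme.{u}) ⟶ CohB1.ProjSpaceOver N (V : Scheme.{u})),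
    IsImmersion c ∧ c ≫ CohB1.ProjSpaceOver.toBase N _ ≫ V.ι = (W a).ι ≫ Z.hom

variable {f : X ⟶ S} [IsProper f] [Flat f] [LocallyOfFinitePresentation f] [IsLocallyNoetherian S]

theorem nonempty_divMod (V : S.Opens) [IsNoetherian (V : Scheme.{u})] {n : ℕ} (i : X ⟶ CohB1.ProjSpaceOver n S)
    [IsClosedImmersion i] (hi : i ≫ CohB1.ProjSpaceOver.toBase n S = f) : Nonempty (DivMod f V) := by
  obtain ⟨H, hH, I, hlN, huniv, hsep, hlft, ι, P, p, hp, hpd, hc⟩ := exists_hilb_on f V i hi
  haveI := hlN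
  let φ := PicF.XTproj f H
  haveI : IsProper φ := inferInstanceAs (IsProper (pullback.snd f H.hom))
  haveI : Flat φ := inferInstanceAs (Flat (pullback.snd f H.hom))
  haveI := I.2.2
  obtain ⟨U, hU⟩ := QuotRep.exists_cartier_open φ I.1
  let H₁ := AbDual.ovr H U.ι
  let D₁ : Dv f H₁ := ⟨I.1.comap (PicF.XTmap f (AbDual.ovrHom H U.ι)),
    (hU U.ι _ _ (InvDescLib.isPullback_map (f := f) (AbDual.ovrHom H U.ι))).2 (by rw [Scheme.Opens.range_ι]),
    QuotRep.flat_comap_subschemeι (InvDescLib.isPullback_map (f := f) (AbDual.ovrHom H U.ι)) I.1⟩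
  haveI : IsLocallyNoetherian H₁.left := inferInstanceAs (IsLocallyNoetherian (U : Scheme.{u}))
  let G : H₁.left.Opens := ⟨goodSet (dvCls D₁), isOpen_goodSet _⟩
  let Z := AbDual.ovr H₁ G.ι
  let j : Z ⟶ H₁ := AbDual.ovrHom H₁ G.ι
  let e : Z ⟶ H := j ≫ AbDual.ovrHom H U.ι
  haveI : IsOpenImmersion e.left := inferInstanceAs (IsOpenImmersion (G.ι ≫ U.ι))
  have hgood : goodSet (dvCls (pullDv j D₁)) = Set.univ := by
    rw [← pull_dvCls, goodSet_pull]
    exact Set.eq_univ_of_forall fun z => (z : G).2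
  have hD : (pullDv j D₁).1 = I.1.comap (PicF.XTmap f e) := by
    show (I.1.comap _).comap _ = _
    rw [← Scheme.IdealSheafData.comap_comp]
    congr 1
    exact XTmap_comp' _ _
  have hrange : Set.range Z.hom ⊆ (V : Set S) := by
    rintro _ ⟨z, rfl⟩
    exact hH ⟨e.left z, by rw [← Scheme.Hom.comp_apply, Over.w e]⟩
  let W : ι → Z.left.Opens := fun a => haveI := hp a; e.left ⁻¹ᵁ (p a).opensRange
  refine ⟨{
    Z := Z
    lN := inferInstanceAs (IsLocallyNoetherian (G : Scheme.{u}))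
    range := hrange
    D := pullDv j D₁
    good := hgood
    univ := fun T _ hT Y hY => ?_
    sep := ?_
    lft := ?_
    ι := ι
    W := W
    disj := ?_
    cover := ?_
    embed := fun a => ?_ }⟩
  · haveI := Y.2.2
    haveI : IsProper (PicF.XTproj f T) := inferInstanceAs (IsProper (pullback.snd f T.hom))
    obtain ⟨g, hg, hu⟩ := huniv T ⟨Y.1, inferInstanceAs (IsProper (Y.1.subschemeι ≫ PicF.XTproj f T)), Y.2.2⟩ hT
    have hgU : Set.range g.left ⊆ (U : Set H.left) :=
      (hU g.left _ _ (InvDescLib.isPullback_map (f := f) g)).1 (by rw [hg]; exact Y.2.1)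
    let g₁ : T ⟶ H₁ := Over.homMk (IsOpenImmersion.lift U.ι g.left (hgU.trans (Scheme.Opens.range_ι U).ge)) (by
      show _ ≫ U.ι ≫ H.hom = T.hom
      rw [IsOpenImmersion.lift_fac_assoc, Over.w])
    have e₁ : g₁ ≫ AbDual.ovrHom H U.ι = g := Over.OverMorphism.ext (IsOpenImmersion.lift_fac _ _ _)
    have hg₁ : pullDv g₁ D₁ = Y := Subtype.ext (by
      show (I.1.comap _).comap _ = Y.1
      rw [← Scheme.IdealSheafData.comap_comp, XTmap_comp' (AbDual.ovrHom H U.ι) g₁, e₁]
      exact hg)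
    have hgG : Set.range g₁.left ⊆ Set.range G.ι := by
      rw [Scheme.Opens.range_ι]
      rintro _ ⟨t, rfl⟩
      show t ∈ g₁.left ⁻¹' goodSet (dvCls D₁)
      rw [← goodSet_pull, pull_dvCls, hg₁, hY]
      trivial
    let g₂ : T ⟶ Z := Over.homMk (IsOpenImmersion.lift G.ι g₁.left hgG) (by
      show _ ≫ G.ι ≫ H₁.hom = T.hom
      rw [IsOpenImmersion.lift_fac_assoc, Over.w])
    have e₂ : g₂ ≫ j = g₁ := Over.OverMorphism.ext (IsOpenImmersion.lift_fac _ _ _)
    have hval : ∀ g' : T ⟶ Z, (pullDv g' (pullDv j D₁)).1 = I.1.comap (PicF.XTmap f (g' ≫ e)) := fun g' => by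
      show (pullDv j D₁).1.comap _ = _
      rw [hD, ← Scheme.IdealSheafData.comap_comp]
      congr 1
      exact XTmap_comp' _ _
    have e₃ : g₂ ≫ e = g := by
      show g₂ ≫ j ≫ _ = g
      rw [reassoc_of% e₂, e₁]
    refine ⟨g₂, Subtype.ext ((hval g₂).trans (by rw [e₃]; exact hg)), fun g' hg' => ?_⟩
    have h := hu (g' ≫ e) ((hval g').symm.trans (congrArg Subtype.val hg'))
    refine Over.OverMorphism.ext ?_
    rw [← cancel_mono e.left]
    exact congrArg CommaMorphism.left (h.trans e₃.symm)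
  · haveI := hsep
    rw [← Over.w e]
    infer_instance
  · rw [← Over.w e]
    infer_instance
  · intro a b hab
    refine disjoint_iff_inf_le.2 fun z hz => ?_
    obtain ⟨x, hx⟩ := hz.1
    obtain ⟨y, hy⟩ := hz.2
    exact (hab (hpd.disj a b x y (hx.trans hy.symm))).elim
  · intro z
    obtain ⟨a, x, hx⟩ := hpd.cover (e.left z)
    exact ⟨a, x, hx⟩
  · haveI := hp a
    obtain ⟨N, c, hc₁, hc₂⟩ := hc a
    haveI := hc₁
    have hle : Set.range ((W a).ι ≫ e.left) ⊆ Set.range (p a) := by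
      rintro _ ⟨z, rfl⟩
      exact z.2
    let l := IsOpenImmersion.lift (p a) ((W a).ι ≫ e.left) hle
    have hl : l ≫ p a = (W a).ι ≫ e.left := IsOpenImmersion.lift_fac _ _ _
    haveI : IsOpenImmersion l := by
      haveI : IsOpenImmersion (l ≫ p a) := by rw [hl]; infer_instance
      exact IsOpenImmersion.of_comp l (p a)
    exact ⟨N, l ≫ c, inferInstance, by rw [Category.assoc, hc₂, reassoc_of% hl, Over.w]⟩

end Groth.Agent.PicSch
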