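import Groth.Agent.PicSchLib.GoodLocus
import Groth.Agent.JacLib.IdealPull
import Groth.Agent.JacLib.InverseIdeal
import Groth.Agent.QuotRepLib.DivOpen
import Groth.Agent.RelDivLib.Fibrewise
import Groth.Agent.BlowCompLib.Compose

/-!
# Relative divisors and their sections
-/

set_option autoImplicit false
set_option backward.isDefEq.respectTransparency false
set_option backward.isDefEq.respectTransparency.types false
set_option linter.style.haveILetI false
set_option maxHeartbeats 1000000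

universe u

open CategoryTheory CategoryTheory.Limits AlgebraicGeometry TopologicalSpace Opposite
open Groth.Agent.PicLib Groth.Agent.ParaFLib Groth.Agent.PullbackMod

noncomputable section

namespace Groth.Agent.PicSch

variable {X S : Scheme.{u}} {f : X ⟶ S} {T T' : Over S}

variable (f) in
/-- Relative effective divisors. -/
def Dv (T : Over S) : Type u :=
  {D : (PicF.XT f T).IdealSheafData // BlowUp.IsEffCartierIdeal D ∧ Flat (D.subschemeι ≫ PicF.XTproj f T)}

theorem isEffCartier_comap_XTmap (g : T' ⟶ T) (D : Dv f T) :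
    BlowUp.IsEffCartierIdeal (D.1.comap (PicF.XTmap f g)) := by
  haveI := D.2.2
  have h := InvDescLib.isPullback_map (f := f) g
  rw [← h.isoPullback_hom_fst, Scheme.IdealSheafData.comap_comp]
  exact BlowCompLib.isEffCartier_comap_openImmersion (RelDivLib.isEffCartier_baseChange _ _ D.2.1 g.left)
    h.isoPullback.hom

/-- The inverse image of a divisor. -/
def pullDv (g : T' ⟶ T) (D : Dv f T) : Dv f T' :=
  ⟨D.1.comap (PicF.XTmap f g), isEffCartier_comap_XTmap g D,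
    haveI := D.2.2
    QuotRep.flat_comap_subschemeι (InvDescLib.isPullback_map g) D.1⟩

theorem isInvertible_idealMod_dv (D : Dv f T) : PicF.IsInvertible (ClSub.idealMod D.1) :=
  (Groth.Agent.S8914.result _).2 D.2.1

/-- The class of a divisor. -/
def dvCls (D : Dv f T) : Pic (PicF.XT f T) := (cls (isInvertible_idealMod_dv D))⁻¹

theorem pull_dvCls (g : T' ⟶ T) (D : Dv f T) : pull (PicF.XTmap f g) (dvCls D) = dvCls (pullDv g D) := by
  obtain ⟨e⟩ := JacLib.nonempty_iso_pullback_idealMod (PicF.XTmap f g) _ D.2.1 (pullDv g D).2.1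
  rw [dvCls, dvCls, map_inv, pull_cls]
  exact congrArg _ ((cls_eq_cls _ _).2 ⟨e⟩)

/-- A section generating at some point of every fibre. -/
def FibGen (T : Over S) (L : (PicF.XT f T).Modules) (s : Γ(L, ⊤)) : Prop :=
  ∀ t : T.left, ∃ x ∈ CohB1.genLocus L (DCohLib.secHom L s), PicF.XTproj f T x = t

theorem isUnit_germ_coeff {Y : Scheme.{u}} {L : Y.Modules} (hL : PicF.IsInvertible L) {s : Γ(L, ⊤)} {x : Y}
    (hx : x ∈ CohB1.genLocus L (DCohLib.secHom L s)) {W : Y.Opens} (hxW : x ∈ W) {l : Γ(L, W)} (hl : Gen W l)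
    {b : Γ(Y, W)} (hb : L.presheaf.map (homOfLE le_top).op s = b • l) : IsUnit (Y.presheaf.germ W x hxW b) := by
  have h := (AmpleLib.mem_genLocus_iff hL).1 hx
  rw [AmpleLib.sec_secHom, ← TopCat.Presheaf.germ_res_apply L.presheaf (homOfLE (le_top : W ≤ ⊤)) x hxW s, hb,
    germ_smul'] at h
  exact (AmpleLib.bijective_smul_iff (hl.bijective_germ x hxW) _).1 h

variable [IsProper f] [Flat f] [LocallyOfFinitePresentation f] [GeometricallyIntegral f]

/-- The zero scheme of a section generating somewhere on every fibre is a divisor of its class. -/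
theorem exists_dv_of_section {L : (PicF.XT f T).Modules} (hL : PicF.IsInvertible L) {s : Γ(L, ⊤)}
    (hs : FibGen T L s) : ∃ D : Dv f T, AbelMapLib.IsCanSect D.1 L s ∧ dvCls D = cls hL := by
  let π := PicF.XTproj f T
  let K := PicF2.zeroScheme L (DCohLib.secHom L s)
  have hK := JacLib.isCanSect_zeroScheme hL s
  haveI : GeometricallyIntegral π := inferInstanceAs (GeometricallyIntegral (pullback.snd f T.hom))
  have hfib : ∀ y : T.left, BlowUp.IsEffCartierIdeal (K.comap (π.fiberι y)) := by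
    intro y z
    let F := π.fiber y
    haveI : IsIntegral F := inferInstanceAs (IsIntegral (π.fiber y))
    obtain ⟨W, hzW, l, b, hl, hI, hsb⟩ := hK (π.fiberι y z)
    obtain ⟨W', hW', hzW', hle'⟩ := exists_isAffineOpen_mem_and_subset
      (U := π.fiberι y ⁻¹ᵁ W.1) (show π.fiberι y z ∈ W.1 from hzW)
    have hle : W' ≤ π.fiberι y ⁻¹ᵁ W.1 := hle'
    refine ⟨⟨W', hW'⟩, hzW', (π.fiberι y).appLE W.1 W' hle b, ?_, ?_⟩
    · haveI : Nonempty W' := ⟨⟨z, hzW'⟩⟩
      refine mem_nonZeroDivisors_of_ne_zero fun hc => ?_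
      obtain ⟨x₀, hx₀, hx₀y⟩ := hs y
      obtain ⟨z₀, rfl⟩ : x₀ ∈ Set.range (π.fiberι y) := by rw [π.range_fiberι y]; exact hx₀y
      let G := CohB1.genLocus L (DCohLib.secHom L s)
      obtain ⟨η, hηW', hηG⟩ := nonempty_preirreducible_inter W'.2 ((π.fiberι y ⁻¹ᵁ G).2) ⟨z, hzW'⟩ ⟨z₀, hx₀⟩
      have hu := (isUnit_germ_coeff hL hηG (hle hηW') hl hsb).map ((π.fiberι y).stalkMap η).hom
      rw [Scheme.Hom.germ_stalkMap_apply, ← TopCat.Presheaf.germ_res_apply F.presheaf (homOfLE hle) η hηW'] at hu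
      rw [show F.presheaf.map (homOfLE hle).op ((π.fiberι y).app W.1 b) = (π.fiberι y).appLE W.1 W' hle b from rfl,
        hc, map_zero] at hu
      exact not_isUnit_zero hu
    · rw [IdealStalkLib.comap_ideal K (π.fiberι y) W.2 hW' hle, hI, Ideal.map_span, Set.image_singleton]
  have hchart : ∀ x, x ∈ K.support → _ := fun x hx => RelDivLib.exists_chart_of_fibre π K hx (by
    obtain ⟨W, hxW, l, b, hl, hI, hsb⟩ := hK x
    exact ⟨W, hxW, b, hI⟩) (hfib (π x))
  have hC : BlowUp.IsEffCartierIdeal K := by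
    intro x
    by_cases hx : x ∈ K.support
    · obtain ⟨W, V, e, hxV, ⟨c, hc, hI⟩, -⟩ := hchart x hx
      exact ⟨V, hxV, c, hc, hI⟩
    · obtain ⟨U, hxU, hU⟩ := IdealStalkLib.exists_unit_nhd K hx
      exact ⟨U, hxU, 1, one_mem _, by rw [hU, Ideal.span_singleton_one]⟩
  have hfl : Flat (K.subschemeι ≫ π) := RelDivLib.flat_of_charts π K fun x hx => by
    obtain ⟨W, V, e, hxV, -, hfl⟩ := hchart x hx
    exact ⟨W, V, hxV, e, hfl⟩
  refine ⟨⟨K, hC, hfl⟩, hK, ?_⟩
  refine (eq_inv_of_mul_eq_one_left ?_).symm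
  rw [← cls_tensor hL (isInvertible_idealMod_dv ⟨K, hC, hfl⟩), cls_eq_one]
  exact JacLib.nonempty_tensor_idealMod_iso hC hK

omit [IsProper f] [Flat f] [LocallyOfFinitePresentation f] [GeometricallyIntegral f] in
theorem eq_zero_of_mul_res {Y : Scheme.{u}} (W : Y.affineOpens) {a : Γ(Y, W.1)} (ha : a ∈ nonZeroDivisors Γ(Y, W.1))
    {O : Y.Opens} (hO : O ≤ W.1) (r : Γ(Y, O)) (h : r * Y.presheaf.map (homOfLE hO).op a = 0) : r = 0 := by
  choose t htle hxt using fun x : O => W.2.exists_basicOpen_le (V := O) x (hO x.2)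
  refine Y.sheaf.eq_of_locally_eq' (fun x : O => Y.basicOpen (t x)) O (fun x => homOfLE (htle x))
    (fun x hx => Opens.mem_iSup.2 ⟨⟨x, hx⟩, hxt ⟨x, hx⟩⟩) r 0 fun x => ?_
  letI := (Y.presheaf.map (homOfLE (Y.basicOpen_le (t x))).op).hom.toAlgebra
  haveI : IsLocalization.Away (t x) Γ(Y, Y.basicOpen (t x)) := W.2.isLocalization_basicOpen (t x)
  have hnz : Y.presheaf.map (homOfLE (Y.basicOpen_le (t x))).op a ∈ nonZeroDivisors Γ(Y, Y.basicOpen (t x)) :=
    IsLocalization.map_nonZeroDivisors_le (Submonoid.powers (t x)) _ ⟨a, ha, rfl⟩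
  have h' := congrArg (Y.presheaf.map (homOfLE (htle x)).op) h
  rw [map_mul, map_zero, show Y.presheaf.map (homOfLE (htle x)).op (Y.presheaf.map (homOfLE hO).op a) =
    Y.presheaf.map (homOfLE (Y.basicOpen_le (t x))).op a by
      rw [← ConcreteCategory.comp_apply, ← Y.presheaf.map_comp]; rfl] at h'
  show Y.presheaf.map _ r = Y.presheaf.map _ 0
  rw [map_zero]
  exact (mul_right_mem_nonZeroDivisors_eq_zero_iff hnz).1 h'

omit [IsProper f] [Flat f] [LocallyOfFinitePresentation f] [GeometricallyIntegral f] in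
/-- Two sections cutting out the same Cartier ideal differ by a unit. -/
theorem exists_unit_of_isCanSect {Y : Scheme.{u}} {K : Y.IdealSheafData} (hK : BlowUp.IsEffCartierIdeal K)
    {L : Y.Modules} {s s' : Γ(L, ⊤)} (hs : AbelMapLib.IsCanSect K L s) (hs' : AbelMapLib.IsCanSect K L s') :
    ∃ v : Γ(Y, ⊤), IsUnit v ∧ v • s = s' := by
  have hloc : ∀ y : Y, ∃ (W : Y.affineOpens) (_ : y ∈ W.1) (l : Γ(L, W.1)) (a : Γ(Y, W.1)) (c : Γ(Y, W.1)),
      Gen W.1 l ∧ a ∈ nonZeroDivisors Γ(Y, W.1) ∧ IsUnit c ∧ L.presheaf.map (homOfLE le_top).op s = a • l ∧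
      L.presheaf.map (homOfLE le_top).op s' = (c * a) • l := by
    intro y
    obtain ⟨W₁, hy₁, l₁, a₁, hl₁, hI₁, hs₁⟩ := hs y
    obtain ⟨W₂, hy₂, l₂, a₂, hl₂, hI₂, hs₂⟩ := hs' y
    obtain ⟨U, hyU, a₀, ha₀, hI₀⟩ := hK y
    obtain ⟨W, hW, hyW, hle⟩ := exists_isAffineOpen_mem_and_subset (U := U.1 ⊓ W₁.1 ⊓ W₂.1) ⟨⟨hyU, hy₁⟩, hy₂⟩
    have h₁ : W ≤ W₁.1 := fun z hz => (hle hz).1.2
    have h₂ : W ≤ W₂.1 := fun z hz => (hle hz).2
    have hres : ∀ (V : Y.affineOpens) (h : W ≤ V.1) (a : Γ(Y, V.1)), K.ideal V = Ideal.span {a} →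
        K.ideal ⟨W, hW⟩ = Ideal.span {Y.presheaf.map (homOfLE h).op a} := fun V h a e => by
      rw [← K.map_ideal (U := ⟨W, hW⟩) (V := V) h, e, Ideal.map_span, Set.image_singleton]
      rfl
    obtain ⟨a, ha, hIa⟩ : ∃ a ∈ nonZeroDivisors Γ(Y, W), K.ideal ⟨W, hW⟩ = Ideal.span {a} := by
      refine ⟨Y.presheaf.map (homOfLE (show W ≤ U.1 from fun z hz => (hle hz).1.1)).op a₀,
        mem_nonZeroDivisors_iff_right.2 fun r hr => eq_zero_of_mul_res U ha₀ _ r hr, hres U _ _ hI₀⟩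
    obtain ⟨r₁, hr₁⟩ := Ideal.mem_span_singleton'.1 (((hres W₁ h₁ a₁ hI₁).ge.trans hIa.le) (Ideal.mem_span_singleton_self _))
    obtain ⟨q₁, hq₁⟩ := Ideal.mem_span_singleton'.1 (((hIa.ge.trans (hres W₁ h₁ a₁ hI₁).le)) (Ideal.mem_span_singleton_self _))
    obtain ⟨r₂, hr₂⟩ := Ideal.mem_span_singleton'.1 (((hres W₂ h₂ a₂ hI₂).ge.trans hIa.le) (Ideal.mem_span_singleton_self _))
    obtain ⟨q₂, hq₂⟩ := Ideal.mem_span_singleton'.1 (((hIa.ge.trans (hres W₂ h₂ a₂ hI₂).le)) (Ideal.mem_span_singleton_self _))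
    have hu : ∀ (r q x : Γ(Y, W)), r * a = x → q * x = a → IsUnit r := fun r q x h h' => by
      refine IsUnit.of_mul_eq_one q ((mul_cancel_right_mem_nonZeroDivisors ha).1 ?_)
      rw [mul_comm r q, mul_assoc, h, h', one_mul]
    have hu₁ := hu r₁ q₁ _ hr₁ hq₁
    have hu₂ := hu r₂ q₂ _ hr₂ hq₂
    let l := L.presheaf.map (homOfLE h₁).op l₁
    have hl : Gen W l := hl₁.res h₁
    obtain ⟨p, hp⟩ := (hl W le_rfl).2 (L.presheaf.map (homOfLE h₂).op l₂)
    simp only [ParaFLib.res_self] at hp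
    have hpu : IsUnit p := by
      obtain ⟨p', hp'⟩ := ((hl₂.res h₂) W le_rfl).2 l
      simp only [ParaFLib.res_self] at hp'
      refine IsUnit.of_mul_eq_one p' (((hl₂.res h₂) W le_rfl).1 ?_)
      simp only [ParaFLib.res_self, one_smul]
      rw [mul_smul, hp', hp]
    obtain ⟨u₁, rfl⟩ := hu₁
    refine ⟨⟨W, hW⟩, hyW, l, (u₁ : Γ(Y, W)) * a, r₂ * p * ↑u₁⁻¹, hl,
      mul_mem u₁.isUnit.mem_nonZeroDivisors ha, (hu₂.mul hpu).mul u₁⁻¹.isUnit, ?_, ?_⟩
    · rw [hr₁]
      have h := congrArg (L.presheaf.map (homOfLE h₁).op) hs₁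
      rw [ParaFLib.res_res, L.map_smul] at h
      exact h
    · have h := congrArg (L.presheaf.map (homOfLE h₂).op) hs₂
      rw [ParaFLib.res_res, L.map_smul] at h
      refine h.trans ?_
      rw [← hp, smul_smul]
      show (Y.presheaf.map (homOfLE h₂).op a₂ * p) • l = _
      congr 1
      rw [← hr₂, show r₂ * p * ↑u₁⁻¹ * (↑u₁ * a) = r₂ * p * a * (↑u₁⁻¹ * ↑u₁) by ring, Units.inv_mul]
      ring
  choose W hW l a c hl ha hc hs₁ hs₂ using hloc
  have hinj : ∀ (y : Y) (O : Y.Opens) (hO : O ≤ (W y).1) (r r' : Γ(Y, O)),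
      r • L.presheaf.map (homOfLE le_top).op s = r' • L.presheaf.map (homOfLE (le_top : O ≤ ⊤)).op s → r = r' := by
    intro y O hO r r' h
    rw [← ParaFLib.res_res (le_top : (W y).1 ≤ ⊤) hO s, hs₁ y, L.map_smul, smul_smul, smul_smul] at h
    have h2 := (hl y O hO).1 h
    exact sub_eq_zero.1 (eq_zero_of_mul_res (W y) (ha y) hO _ (by rw [sub_mul]; exact sub_eq_zero.2 h2))
  have hcomp : ∀ y (O : Y.Opens) (hO : O ≤ (W y).1),
      Y.presheaf.map (homOfLE hO).op (c y) • L.presheaf.map (homOfLE le_top).op s =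
        L.presheaf.map (homOfLE (le_top : O ≤ ⊤)).op s' := fun y O hO => by
    rw [← ParaFLib.res_res (le_top : (W y).1 ≤ ⊤) hO s, ← ParaFLib.res_res (le_top : (W y).1 ≤ ⊤) hO s', hs₁ y, hs₂ y,
      ← L.map_smul, smul_smul]
  obtain ⟨v', hv, -⟩ := Y.sheaf.existsUnique_gluing' (fun y => (W y).1) ⊤ (fun y => homOfLE le_top)
    (fun y _ => Opens.mem_iSup.2 ⟨y, hW y⟩) c fun y y' => hinj y _ inf_le_left _ _ (by
      exact (hcomp y _ inf_le_left).trans (hcomp y' _ inf_le_right).symm)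
  let v : Γ(Y, ⊤) := v'
  refine ⟨v, ?_, ?_⟩
  · refine Y.toRingedSpace.isUnit_of_isUnit_germ ⊤ v fun y _ => ?_
    rw [← TopCat.Presheaf.germ_res_apply Y.presheaf (homOfLE (le_top : (W y).1 ≤ ⊤)) y (hW y) v]
    exact (congrArg (Y.presheaf.germ (W y).1 y (hW y)) (hv y)).symm ▸ (hc y).map _
  · let N : TopCat.Sheaf Ab.{u} Y.carrier := ⟨L.presheaf, L.isSheaf⟩
    refine N.eq_of_locally_eq' (fun y => (W y).1) ⊤ (fun y => homOfLE le_top)
      (fun y _ => Opens.mem_iSup.2 ⟨y, hW y⟩) _ _ fun y => ?_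
    show L.presheaf.map (homOfLE le_top).op (v • s) = L.presheaf.map (homOfLE le_top).op s'
    rw [L.map_smul, ← hcomp y _ le_rfl]
    refine congrArg (· • _) ((hv y).trans ?_)
    simp

end Groth.Agent.PicSch
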