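import Groth.Agent.PicSchLib.GoodLocus
import Groth.Agent.FlatStratLib.BC
import Groth.Agent.GenBCLib.RankGoal
import Groth.Agent.KVbLib.Rank

/-!
# Frames of sections of good classes
-/

set_option autoImplicit false
set_option backward.isDefEq.respectTransparency false
set_option backward.isDefEq.respectTransparency.types false
set_option linter.style.haveILetI false
set_option maxHeartbeats 1000000

universe u

open CategoryTheory CategoryTheory.Limits AlgebraicGeometry TopologicalSpace Opposite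
open Groth.Agent.PicLib Groth.Agent.ParaFLib Groth.Agent.PullbackMod
open scoped TensorProduct

noncomputable section

namespace Groth.Agent.PicSch

variable {X S : Scheme.{u}} (f : X ⟶ S) {T T' : Over S}

theorem le_preimage_XTmap (g : T' ⟶ T) {U : T.left.Opens} (h : ⊤ ≤ g.left ⁻¹ᵁ U) :
    PicF.XTproj f T' ⁻¹ᵁ ⊤ ≤ PicF.XTmap f g ⁻¹ᵁ (PicF.XTproj f T ⁻¹ᵁ U) := fun x _ => by
  show PicF.XTproj f T (PicF.XTmap f g x) ∈ U
  rw [← Scheme.Hom.comp_apply, (InvDescLib.isPullback_map (f := f) g).w, Scheme.Hom.comp_apply]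
  exact h trivial

variable [IsProper f] [Flat f] [LocallyOfFinitePresentation f]

/-- Locally on the base, sections of a good class restrict to a basis after any affine base change. -/
theorem exists_frame [IsLocallyNoetherian T.left] (a : Pic (PicF.XT f T)) (hgood : goodSet a = Set.univ) (z : T.left) :
    ∃ U : T.left.Opens, IsAffineOpen U ∧ z ∈ U ∧ ∃ (N : ℕ) (s : Fin N → Γ(rep a, PicF.XTproj f T ⁻¹ᵁ U)),
      ∀ (T' : Over S) (g : T' ⟶ T) [IsAffine T'.left] (hU : ⊤ ≤ g.left ⁻¹ᵁ U),
        Function.Bijective fun c : Fin N → Γ(T'.left, ⊤) =>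
          ∑ i, (PicF.XTproj f T').app ⊤ (c i) • pullMap (PicF.XTmap f g) (rep a) (le_preimage_XTmap f g hU) (s i) := by
  let π := PicF.XTproj f T
  let L := rep a
  have hlf := CurveLib.isFinLocFree_of_isInvertible (isInvertible_rep a)
  obtain ⟨hq, hfp⟩ := PullbackMod.isQCoh_and_isFP_of_isFinLocFree L hlf
  haveI := hq
  have hv : ∀ t : T.left, Subsingleton (CohIII.fiberH π L t 1) := fun t => by
    haveI := finite_fiberH_rep a 1 t
    exact (Module.finrank_eq_zero_iff_of_free _ _).1 (hgood.symm.subset (Set.mem_univ t)).1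
  let M := (Scheme.Modules.pushforward π).obj L
  haveI : Coh.IsQCoh M := QCohLib.isQCoh_pushforward L π
  have hM : FlatMod.IsFinLocFree M := GenBCLib.isFinLocFree_of_nhds _ fun t => by
    obtain ⟨V, D, htV⟩ := GenBCLib.exists_dat_at hfp (TildePerf.isFlatOver_of_isFinLocFree π hlf) t
    obtain ⟨r, hr, -, hsp, -⟩ := D.exists_vanish htV (hv t)
    exact ⟨T.left.basicOpen r, hr, D.isFinLocFree_restrict_of_good hsp⟩
  obtain ⟨U, hU, hzU, ⟨e⟩⟩ := KVb.exists_free_sections hM z
  let b : Module.Basis _ Γ(T.left, U) Γ(M, U) := Module.Basis.ofEquivFun e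
  refine ⟨U, hU, hzU, _, fun i => b i, fun T' g _ hUg => ?_⟩
  let k := PicF.XTmap f g
  let π' := PicF.XTproj f T'
  haveI hiso : IsIso (CohBC.bc0 π g.left π' k (InvDescLib.isPullback_map g).w L) :=
    FlatStrat.isIso_bc0_of_vanish (InvDescLib.isPullback_map g) hfp (TildePerf.isFlatOver_of_isFinLocFree π hlf) hv
  let bc := CohBC.bc0 π g.left π' k (InvDescLib.isPullback_map g).w L
  let B := Γ(T'.left, ⊤)
  letI : Algebra Γ(T.left, U) B := (g.left.appLE U ⊤ hUg).hom.toAlgebra
  letI := Module.compHom Γ((Scheme.Modules.pullback g.left).obj M, ⊤) (g.left.appLE U ⊤ hUg).hom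
  haveI : IsScalarTower Γ(T.left, U) B Γ((Scheme.Modules.pullback g.left).obj M, ⊤) :=
    .of_algebraMap_smul fun _ _ => rfl
  have hb := isBaseChange_pullMapL g.left M hU (isAffineOpen_top _) hUg
  let b' : Module.Basis _ B Γ((Scheme.Modules.pullback g.left).obj M, ⊤) := (b.baseChange B).map hb.equiv
  have key : ∀ c, (∑ i, π'.app ⊤ (c i) • pullMap k L (le_preimage_XTmap f g hUg) (b i)) =
      bc.app ⊤ (b'.equivFun.symm c) := fun c => by
    rw [Module.Basis.equivFun_symm_apply, map_sum]
    refine Finset.sum_congr rfl fun i _ => ?_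
    rw [Scheme.Modules.Hom.app_smul, show b' i = pullMap g.left M hUg (b i) by
      simp only [b', Module.Basis.map_apply, Module.Basis.baseChange_apply]
      exact (hb.equiv_tmul 1 _).trans (one_smul _ _), GenBCLib.bc0_pullMap (InvDescLib.isPullback_map g).w L hUg (le_preimage_XTmap f g hUg) (b i)]
    rfl
  rw [show (fun c => ∑ i, π'.app ⊤ (c i) • pullMap k L (le_preimage_XTmap f g hUg) (b i)) =
    (fun x => bc.app ⊤ x) ∘ fun c => b'.equivFun.symm c from funext key]
  exact (GenBCLib.bijective_app_of_isIso bc ⊤).comp b'.equivFun.symm.bijective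

end Groth.Agent.PicSch
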