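import Groth.Agent.PicSchLib.Local
import Groth.Agent.GenSeesawLib.Closed
import Groth.Agent.BCLib.Local
import Groth.Agent.AmpleEmb.RelAmple
import Groth.Agent.AmpleEmb.RelVanish
import Groth.Agent.S2390
import Groth.Agent.S15287

/-!
# The classes without first cohomology and with a section
-/

set_option autoImplicit false
set_option backward.isDefEq.respectTransparency false
set_option backward.isDefEq.respectTransparency.types false
set_option linter.style.haveILetI false
set_option maxHeartbeats 1000000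

universe u

open CategoryTheory CategoryTheory.Limits AlgebraicGeometry TopologicalSpace
open Groth.Agent.PicLib

noncomputable section

namespace Groth.Agent.PicSch

variable {X S : Scheme.{u}} {f : X ⟶ S} {T T' : Over S}

/-- A module of a class. -/
def rep {Y : Scheme.{u}} (a : Pic Y) : Y.Modules := (exists_cls a).choose

theorem isInvertible_rep {Y : Scheme.{u}} (a : Pic Y) : PicF.IsInvertible (rep a) :=
  (exists_cls a).choose_spec.choose

theorem cls_rep {Y : Scheme.{u}} (a : Pic Y) : cls (isInvertible_rep a) = a :=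
  (exists_cls a).choose_spec.choose_spec

/-- The dimensions of the cohomology of the fibres of a class. -/
def rk (a : Pic (PicF.XT f T)) (p : ℕ) (t : T.left) : ℕ := CohIII.fiberRank (PicF.XTproj f T) (rep a) p t

theorem rk_cls {L : (PicF.XT f T).Modules} (hL : PicF.IsInvertible L) (p : ℕ) (t : T.left) :
    rk (cls hL) p t = CohIII.fiberRank (PicF.XTproj f T) L p t :=
  BCLib.fiberRank_congr _ ((cls_eq_cls _ hL).1 (cls_rep _)).some p t

theorem rk_congr {a b : Pic (PicF.XT f T)} {t : T.left}
    (h : pull ((PicF.XTproj f T).fiberι t) a = pull ((PicF.XTproj f T).fiberι t) b) (p : ℕ) : rk a p t = rk b p t := by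
  let π := PicF.XTproj f T
  letI : (π.fiber t).Over (Spec (CommRingCat.of (T.left.residueField t))) := ⟨π.fiberToSpecResidueField t⟩
  have h' : cls (AmpleLib.isInvertible_pullback (π.fiberι t) (isInvertible_rep a)) =
      cls (AmpleLib.isInvertible_pullback (π.fiberι t) (isInvertible_rep b)) := by
    rw [← pull_cls (π.fiberι t) (isInvertible_rep a), ← pull_cls (π.fiberι t) (isInvertible_rep b), cls_rep, cls_rep]
    exact h
  exact (BCLib.hhEquivL (A := T.left.residueField t) ((cls_eq_cls _ _).1 h').some p).finrank_eq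

theorem rk_mul_base (a : Pic (PicF.XT f T)) (N : Pic T.left) (p : ℕ) (t : T.left) :
    rk (a * pull (PicF.XTproj f T) N) p t = rk a p t := by
  refine rk_congr ?_ p
  rw [map_mul, ← pull_comp, (PicF.XTproj f T).fiber_fac t, pull_comp, eq_one_of_local (pull _ N), map_one, mul_one]

theorem rk_pull [IsProper f] (g : T' ⟶ T) (a : Pic (PicF.XT f T)) (p : ℕ) (t : T'.left) :
    rk (pull (PicF.XTmap f g) a) p t = rk a p (g.left t) := by
  haveI := (PullbackMod.isQCoh_and_isFP_of_isFinLocFree (rep a)
    (CurveLib.isFinLocFree_of_isInvertible (isInvertible_rep a))).1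
  conv_lhs => rw [← cls_rep a, pull_cls, rk_cls]
  exact BCLib.fiberRank_baseChange (InvDescLib.isPullback_map g) _ p t

/-- The inverse image of a class of `X`. -/
def twA (A : Pic X) (T : Over S) : Pic (PicF.XT f T) := pull (pullback.fst f T.hom) A

theorem pull_twA (A : Pic X) (g : T' ⟶ T) : pull (PicF.XTmap f g) (twA A T) = twA (f := f) A T' := by
  rw [twA, twA, ← pull_comp]
  congr 2
  exact (pullback.lift_fst _ _ _).trans (Category.comp_id _)

/-- No first cohomology and a section on the fibre. -/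
def GoodAt (a : Pic (PicF.XT f T)) (t : T.left) : Prop := rk a 1 t = 0 ∧ rk a 0 t ≠ 0

/-- The good locus. -/
def goodSet (a : Pic (PicF.XT f T)) : Set T.left := {t | GoodAt a t}

theorem goodAt_congr {a b : Pic (PicF.XT f T)} (h : BEq a b) (t : T.left) : GoodAt a t ↔ GoodAt b t := by
  obtain ⟨N, rfl⟩ := h
  rw [GoodAt, GoodAt, rk_mul_base, rk_mul_base]

variable [IsProper f]

theorem goodAt_pull (g : T' ⟶ T) (a : Pic (PicF.XT f T)) (t : T'.left) :
    GoodAt (pull (PicF.XTmap f g) a) t ↔ GoodAt a (g.left t) := by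
  rw [GoodAt, GoodAt, rk_pull, rk_pull]

theorem goodSet_pull (g : T' ⟶ T) (a : Pic (PicF.XT f T)) :
    goodSet (pull (PicF.XTmap f g) a) = g.left ⁻¹' goodSet a :=
  Set.ext fun t => goodAt_pull g a t

variable [Flat f] [IsLocallyNoetherian T.left]

theorem isCoh_rep (a : Pic (PicF.XT f T)) : Coh.IsCoh (rep a) :=
  haveI : IsLocallyNoetherian (PicF.XT f T) := LocallyOfFiniteType.isLocallyNoetherian (PicF.XTproj f T)
  CurveLib.isCoh_of_isInvertible (isInvertible_rep a)

theorem isFlatOver_rep (a : Pic (PicF.XT f T)) : FlatMod.IsFlatOver (PicF.XTproj f T) (rep a) :=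
  TildePerf.isFlatOver_of_isFinLocFree _ (CurveLib.isFinLocFree_of_isInvertible (isInvertible_rep a))

theorem finite_fiberH_rep (a : Pic (PicF.XT f T)) (p : ℕ) (t : T.left) :
    Module.Finite (T.left.residueField t) (CohIII.fiberH (PicF.XTproj f T) (rep a) t p) :=
  BCLib.finite_fiberH _ (isCoh_rep a) (isFlatOver_rep a) p t

theorem isOpen_goodSet [LocallyOfFinitePresentation f] (a : Pic (PicF.XT f T)) : IsOpen (goodSet a) := by
  let π := PicF.XTproj f T
  have hlf := CurveLib.isFinLocFree_of_isInvertible (isInvertible_rep a)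
  obtain ⟨hq, hfp⟩ := PullbackMod.isQCoh_and_isFP_of_isFinLocFree (rep a) hlf
  haveI := hq
  rw [isOpen_iff_mem_nhds]
  rintro t ⟨ht1, ht0⟩
  obtain ⟨V, D, htV⟩ := GenBCLib.exists_dat_at hfp (TildePerf.isFlatOver_of_isFinLocFree π hlf) t
  haveI := finite_fiberH_rep a 1 t
  have h1 : Subsingleton (CohIII.fiberH π (rep a) t 1) := (Module.finrank_eq_zero_iff_of_free _ _).1 ht1
  obtain ⟨r, hr, hg, hsp, hk⟩ := D.exists_vanish htV h1
  filter_upwards [(T.left.basicOpen r).2.mem_nhds hr, D.eventually_fiberRank (n := 0) hr hsp (D.L.split_zero r)]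
    with v hv hv'
  haveI := D.subsingleton_fiberH hv hg hk
  exact ⟨Module.finrank_zero_of_subsingleton, fun h => ht0 (hv'.symm.trans h)⟩

end Groth.Agent.PicSch

namespace Groth.Agent.PicSch

variable {X S : Scheme.{u}} {f : X ⟶ S} [IsProper f] [Flat f] {T : Over S}

theorem rk_zero_ne_zero_of_mem_genLocus [IsLocallyNoetherian T.left] {a : Pic (PicF.XT f T)} {t : T.left}
    {M : ((PicF.XTproj f T).fiber t).Modules} (e : M ≅ CohIII.fiberMod (PicF.XTproj f T) (rep a) t)
    (hM : PicF.IsInvertible M) (s : Coh.structureModule _ ⟶ M) {y : (PicF.XTproj f T).fiber t}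
    (hy : y ∈ CohB1.genLocus M s) : rk a 0 t ≠ 0 := by
  let π := PicF.XTproj f T
  let κ := T.left.residueField t
  letI : (π.fiber t).Over (Spec (CommRingCat.of κ)) := ⟨π.fiberToSpecResidueField t⟩
  haveI := finite_fiberH_rep a 0 t
  intro h0
  have hsub : Subsingleton (CohIII.fiberH π (rep a) t 0) := (Module.finrank_eq_zero_iff_of_free _ _).1 h0
  let g := BCLib.gammaH0 (A := κ) M
  let i := BCLib.hhEquivL (A := κ) e 0
  haveI : Subsingleton (Coh.HH (π.fiber t) M 0) := i.injective.subsingleton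
  haveI : Subsingleton Γ(M, ⊤) := g.injective.subsingleton
  have hs : AmpleLib.sec s = 0 := Subsingleton.elim _ _
  have hgen := AmpleEmb.gen_genLocus hM s
  rw [hs] at hgen
  let U := CohB1.genLocus M s
  have hz : ((M.presheaf.map (homOfLE (le_top : U ≤ ⊤)).op) (0 : Γ(M, ⊤))) = 0 := map_zero _
  have h1 : (1 : Γ(π.fiber t, U)) = 0 := (hgen U le_rfl).1 (by
    show (1 : Γ(π.fiber t, U)) • _ = (0 : Γ(π.fiber t, U)) • _
    rw [one_smul, zero_smul]
    simp only [AmpleLib.resT, map_zero])
  have h2 := congrArg ((π.fiber t).presheaf.germ U y hy) h1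
  rw [map_one, map_zero] at h2
  exact one_ne_zero h2

variable (A : Pic X) (hA : ∀ T : Over S, RelAmple.IsRelVeryAmplePn (PicF.XTproj f T) (rep (twA (f := f) A T)))
include hA

/-- Over an affine Noetherian base all high twists of a class are good. -/
theorem exists_good_affine [IsAffine T.left] [IsNoetherian T.left] [LocallyOfFinitePresentation f] [Surjective f]
    (a : Pic (PicF.XT f T)) : ∃ M : ℕ, ∀ m, M ≤ m → goodSet (a * twA A T ^ m) = Set.univ := by
  let π := PicF.XTproj f T
  let L := rep (twA (f := f) A T)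
  have hL : PicF.IsInvertible L := isInvertible_rep _
  haveI : IsLocallyNoetherian (PicF.XT f T) := LocallyOfFiniteType.isLocallyNoetherian π
  haveI : Surjective π := inferInstanceAs (Surjective (pullback.snd f T.hom))
  have hamp : ∀ W : T.left.Opens, IsAffineOpen W → CohB1.IsAmple (L.restrict (π ⁻¹ᵁ W).ι) := fun W hW =>
    AmpleEmb.ampleOn_of_isRelVeryAmplePn π (hA T) hW
  have hcls : ∀ m : ℕ, cls (AmpleLib.isInvertible_tensor (isInvertible_rep a)
      (AmpleLib.isInvertible_tensorPow hL m)) = a * twA A T ^ m := fun m => by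
    rw [cls_tensor (isInvertible_rep a) (AmpleLib.isInvertible_tensorPow hL m), cls_tensorPow hL, cls_rep a,
      show cls hL = twA A T from cls_rep _]
  let M := fun m : ℕ => CohB1.tensorMod (rep a) (CohB1.tensorPow L m)
  have hM : ∀ m, PicF.IsInvertible (M m) := fun m =>
    AmpleLib.isInvertible_tensor (isInvertible_rep a) (AmpleLib.isInvertible_tensorPow hL m)
  obtain ⟨N₁, hN₁⟩ := AmpleEmb.exists_isZero_rpush_tensorPow π hL hamp (isCoh_rep a)
  have h1 : ∀ m, N₁ ≤ m → ∀ t, rk (a * twA A T ^ m) 1 t = 0 := fun m hm t => by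
    have hc : Coh.IsCoh (M m) := CurveLib.isCoh_of_isInvertible (hM m)
    haveI := ((S2390.result π (M m) hc
      (TildePerf.isFlatOver_of_isFinLocFree π (CurveLib.isFinLocFree_of_isInvertible (hM m)))
      fun p hp => hN₁ m hm p hp).1 t 1 one_pos)
    rw [← hcls m, rk_cls]
    exact Module.finrank_zero_of_subsingleton
  have hO : ∀ m, N₁ ≤ m → IsClosed {t | rk (a * twA A T ^ m) 0 t ≠ 0} := fun m hm => by
    have := GenSeesawLib.isClosed_fiberRank_pos π (CurveLib.isFinLocFree_of_isInvertible
      (isInvertible_rep (a * twA A T ^ m)))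
    simpa only [rk, Nat.pos_iff_ne_zero] using this
  have hfib : ∀ t : T.left, ∃ N : ℕ, ∀ m, N ≤ m → rk (a * twA A T ^ m) 0 t ≠ 0 := fun t => by
    haveI : IsAffineHom (T.left.fromSpecResidueField t) := isAffineHom_of_isAffine _
    haveI : IsAffineHom (π.fiberι t) :=
      MorphismProperty.pullback_fst (P := @IsAffineHom) π (T.left.fromSpecResidueField t) inferInstance
    haveI : IsProper (π.fiberToSpecResidueField t) :=
      inferInstanceAs (IsProper (pullback.snd π (T.left.fromSpecResidueField t)))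
    obtain ⟨x, hx⟩ := π.surjective t
    have hfa : CohB1.IsAmple ((Scheme.Modules.pullback (π.fiberι t)).obj L) := by
      have hI : IsOpenImmersion (π ⁻¹ᵁ ⊤).ι := inferInstance
      have h := hamp ⊤ (isAffineOpen_top T.left)
      let e := (π ⁻¹ᵁ (⊤ : T.left.Opens)).ι
      haveI : IsIso e := by
        refine (isIso_iff_isOpenImmersion_and_surjective _).2 ⟨hI, ⟨fun z => ⟨⟨z, trivial⟩, rfl⟩⟩⟩
      have h' := AmpleLib.isAmple_pullback (π.fiberι t ≫ inv e)
        (AmpleLib.isAmple_of_iso ((Scheme.Modules.restrictFunctorIsoPullback e).app L) h)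
      exact AmpleLib.isAmple_of_iso ((Scheme.Modules.pullbackComp _ _).app L ≪≫
        (Scheme.Modules.pullbackCongr (by simp)).app L) h'
    let La := (Scheme.Modules.pullback (π.fiberι t)).obj (rep a)
    obtain ⟨N, hN⟩ := S15287.result (T.left.residueField t) (π.fiber t) (π.fiberToSpecResidueField t) _ hfa La
      (AmpleLib.isInvertible_pullback _ (isInvertible_rep a)) PUnit (fun _ => (hx ▸ π.asFiber x : π.fiber t))
    refine ⟨N, fun m hm => ?_⟩
    obtain ⟨s, hs⟩ := hN m hm
    have hiso : Nonempty (M m ≅ rep (a * twA A T ^ m)) :=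
      (cls_eq_cls (hM m) (isInvertible_rep _)).1 ((hcls m).trans (cls_rep _).symm)
    exact rk_zero_ne_zero_of_mem_genLocus
      (AmpleLib.tIso (Iso.refl _) (AmpleLib.pullPow (π.fiberι t) L m).symm ≪≫ (AmpleLib.pullTensor _ _ _).symm ≪≫
        (Scheme.Modules.pullback (π.fiberι t)).mapIso hiso.some)
      (AmpleLib.isInvertible_tensor (AmpleLib.isInvertible_pullback _ (isInvertible_rep a))
        (AmpleLib.isInvertible_tensorPow hfa.1 m)) s (hs ⟨⟩)
  choose N hN using hfib
  have hfin := TopologicalSpace.NoetherianSpace.finite_irreducibleComponents (α := T.left)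
  obtain ⟨M₀, hM₀⟩ : ∃ M₀, ∀ Z ∈ irreducibleComponents T.left, ∃ z ∈ Z, closure {z} = Z ∧ N z ≤ M₀ := by
    classical
    have hz : ∀ Z ∈ irreducibleComponents T.left, ∃ z ∈ Z, closure {z} = Z := fun Z hZ => by
      obtain ⟨z, hz⟩ := QuasiSober.sober hZ.1 (isClosed_of_mem_irreducibleComponents Z hZ)
      exact ⟨z, hz.mem, hz.def⟩
    choose z hz hz' using hz
    exact ⟨hfin.toFinset.attach.sup fun Z => N (z Z.1 (hfin.mem_toFinset.1 Z.2)), fun Z hZ => ⟨z Z hZ, hz Z hZ, hz' Z hZ,
      Finset.le_sup (f := fun Z : {x // x ∈ hfin.toFinset} => N (z Z.1 (hfin.mem_toFinset.1 Z.2)))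
        (Finset.mem_attach _ ⟨Z, hfin.mem_toFinset.2 hZ⟩)⟩⟩
  refine ⟨N₁ + M₀, fun m hm => Set.eq_univ_of_forall fun t => ⟨h1 m (by omega) t, ?_⟩⟩
  obtain ⟨Z, hZ, htZ⟩ := exists_mem_irreducibleComponents_subset_of_isIrreducible ({t} : Set T.left) isIrreducible_singleton
  obtain ⟨z, -, hzZ, hzM⟩ := hM₀ Z hZ
  exact (hO m (by omega)).closure_subset_iff.2 (Set.singleton_subset_iff.2 (hN z m (by omega)))
    (hzZ.symm ▸ htZ rfl)

end Groth.Agent.PicSch
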