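import Groth.Agent.PicSchLib.Pt

/-!
# Locality of being a class of the base, and the universal point
-/

set_option autoImplicit false
set_option backward.isDefEq.respectTransparency false
set_option backward.isDefEq.respectTransparency.types false
set_option linter.style.haveILetI false
set_option maxHeartbeats 1000000

universe u

open CategoryTheory CategoryTheory.Limits AlgebraicGeometry TopologicalSpace
open Groth.Agent.PicLib Groth.Agent.SchDesc

noncomputable section

namespace Groth.Agent.PicSch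

variable {X S : Scheme.{u}} {f : X ⟶ S} {T T' : Over S}

theorem pull_pull_XTmap {T'' : Over S} (g : T' ⟶ T) (k : T'' ⟶ T') (a : Pic (PicF.XT f T)) :
    pull (PicF.XTmap f k) (pull (PicF.XTmap f g) a) = pull (PicF.XTmap f (k ≫ g)) a :=
  InvDescLib.pull_XTmap_XTmap g k rfl a

/-- Being a class of the base is local on the base along a covering morphism. -/
theorem beq_of_hom (ha : InvDescLib.UnivConst f) (g : T' ⟶ T) [Flat g.left]
    [LocallyOfFinitePresentation g.left] [Surjective g.left] {a b : Pic (PicF.XT f T)}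
    (h : BEq (pull (PicF.XTmap f g) a) (pull (PicF.XTmap f g) b)) : BEq a b := by
  let k : AbDual.ovr T g.left ⟶ T' := Over.homMk (𝟙 T'.left) ((Category.id_comp _).trans (Over.w g).symm)
  have e : k ≫ g = AbDual.ovrHom T g.left := Over.OverMorphism.ext (Category.id_comp g.left)
  refine beq_of_cover ha g.left ?_
  have h' := h.pull k
  rwa [pull_pull_XTmap, pull_pull_XTmap, e] at h'

/-- The pieces of the sum of a family of open subschemes. -/
theorem sigma_cover {Y : Scheme.{u}} {ι : Type u} {W : ι → Scheme.{u}} (v : ∀ i, W i ⟶ Y)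
    [∀ i, IsOpenImmersion (v i)] (hv : ∀ z, ∃ i, z ∈ Set.range (v i)) :
    Flat (Sigma.desc v) ∧ LocallyOfFinitePresentation (Sigma.desc v) ∧ Surjective (Sigma.desc v) :=
  ⟨IsZariskiLocalAtSource.sigmaDesc fun i => inferInstance,
    IsZariskiLocalAtSource.sigmaDesc fun i => inferInstance, ⟨fun z => by
      obtain ⟨i, y, hy⟩ := hv z
      exact ⟨Sigma.ι W i y, by rw [← Scheme.Hom.comp_apply, Sigma.ι_desc]; exact hy⟩⟩⟩

/-- Being a class of the base is local on the base for the Zariski topology. -/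
theorem beq_of_openCover (ha : InvDescLib.UnivConst f) {ι : Type u} {W : ι → Scheme.{u}} (v : ∀ i, W i ⟶ T.left)
    [∀ i, IsOpenImmersion (v i)] (hv : ∀ z, ∃ i, z ∈ Set.range (v i)) {a b : Pic (PicF.XT f T)}
    (h : ∀ i, BEq (pull (PicF.XTmap f (AbDual.ovrHom T (v i))) a) (pull (PicF.XTmap f (AbDual.ovrHom T (v i))) b)) :
    BEq a b := by
  obtain ⟨_, _, _⟩ := sigma_cover v hv
  refine beq_of_cover ha (Sigma.desc v) ?_
  choose N hN using h
  obtain ⟨M, hM⟩ := (InvDescLib.isDisjointUnion_sigma W).exists_pic N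
  haveI := fun i => InvDescLib.isOpenImmersion_piece (f := f) v i
  refine ⟨M, div_eq_one.1 ((InvDescLib.isDisjointUnion_pieces v).eq_one fun i => ?_)⟩
  rw [map_div, map_mul, InvDescLib.pull_XTmap_XTmap _ _ (InvDescLib.pieceHom_comp v i),
    InvDescLib.pull_XTmap_XTmap _ _ (InvDescLib.pieceHom_comp v i),
    InvDescLib.pull_pull_of_eq (InvDescLib.isPullback_map (InvDescLib.pieceHom v i)).w, hN i]
  exact div_eq_one.2 (congrArg (fun m => _ * pull (PicF.XTproj f _) m) (hM i).symm)

variable (f) in
/-- The scheme of a point of `X` over `T`. -/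
def pX (T : Over S) : Over S := Over.mk (pullback.fst T.hom f ≫ T.hom)

variable (f) in
/-- The projection to `T`. -/
def pπ (T : Over S) : pX f T ⟶ T := Over.homMk (pullback.fst T.hom f) rfl

variable (f) in
/-- The universal point. -/
def pt (T : Over S) : (pX f T).left ⟶ X := pullback.snd T.hom f

theorem pt_f : pt f T ≫ f = (pX f T).hom := pullback.condition.symm

variable (f) in
/-- Functoriality. -/
def pXmap (g : T' ⟶ T) : pX f T' ⟶ pX f T :=
  Over.homMk (pullback.map _ _ _ _ g.left (𝟙 X) (𝟙 S) (by rw [Category.comp_id, Over.w]) (by simp)) (by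
    show pullback.map _ _ _ _ _ _ _ _ _ ≫ pullback.fst T.hom f ≫ T.hom = _
    rw [pullback.lift_fst_assoc, Category.assoc, Over.w]
    rfl)

@[reassoc (attr := simp)]
theorem pXmap_π (g : T' ⟶ T) : pXmap f g ≫ pπ f T = pπ f T' ≫ g :=
  Over.OverMorphism.ext (pullback.lift_fst _ _ _)

@[reassoc (attr := simp)]
theorem pXmap_pt (g : T' ⟶ T) : (pXmap f g).left ≫ pt f T = pt f T' :=
  (pullback.lift_snd _ _ _).trans (Category.comp_id _)

theorem pX_hom_ext {Y : Over S} {k k' : Y ⟶ pX f T} (h : k ≫ pπ f T = k' ≫ pπ f T)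
    (h' : k.left ≫ pt f T = k'.left ≫ pt f T) : k = k' :=
  Over.OverMorphism.ext (pullback.hom_ext (congrArg CommaMorphism.left h) h')

theorem pXmap_id : pXmap f (𝟙 T) = 𝟙 _ :=
  pX_hom_ext (by simp) (by rw [pXmap_pt]; exact (Category.id_comp _).symm)

theorem pXmap_comp {T'' : Over S} (g' : T'' ⟶ T') (g : T' ⟶ T) : pXmap f g' ≫ pXmap f g = pXmap f (g' ≫ g) :=
  pX_hom_ext (by simp) (by rw [Over.comp_left, Category.assoc, pXmap_pt, pXmap_pt, pXmap_pt])

/-- The point of `pX` of a morphism and a point. -/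
def pLift {Y : Over S} (g : Y ⟶ T) (y : Y.left ⟶ X) (hy : y ≫ f = Y.hom) : Y ⟶ pX f T :=
  Over.homMk (pullback.lift g.left y (by rw [hy, Over.w])) (by
    show pullback.lift _ _ _ ≫ pullback.fst T.hom f ≫ T.hom = _
    rw [pullback.lift_fst_assoc, Over.w])

@[reassoc (attr := simp)]
theorem pLift_π {Y : Over S} (g : Y ⟶ T) (y : Y.left ⟶ X) (hy : y ≫ f = Y.hom) : pLift g y hy ≫ pπ f T = g :=
  Over.OverMorphism.ext (pullback.lift_fst _ _ _)

@[reassoc (attr := simp)]
theorem pLift_pt {Y : Over S} (g : Y ⟶ T) (y : Y.left ⟶ X) (hy : y ≫ f = Y.hom) :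
    (pLift g y hy).left ≫ pt f T = y :=
  pullback.lift_snd _ _ _

theorem isPullback_pXmap (g : T' ⟶ T) :
    IsPullback (pXmap f g).left (pπ f T').left (pπ f T).left g.left := by
  refine IsPullback.of_right (t := IsPullback.of_hasPullback T.hom f |>.flip) ?_
    (congrArg CommaMorphism.left (pXmap_π g))
  have e₁ : (pXmap f g).left ≫ pullback.snd T.hom f = pullback.snd T'.hom f := pXmap_pt g
  rw [e₁, Over.w g]
  exact (IsPullback.of_hasPullback T'.hom f).flip

theorem flat_pπ [Flat f] : Flat (pπ f T).left := inferInstanceAs (Flat (pullback.fst T.hom f))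

theorem lfp_pπ [LocallyOfFinitePresentation f] : LocallyOfFinitePresentation (pπ f T).left :=
  inferInstanceAs (LocallyOfFinitePresentation (pullback.fst T.hom f))

theorem surjective_pπ [Surjective f] : Surjective (pπ f T).left :=
  inferInstanceAs (Surjective (pullback.fst T.hom f))

end Groth.Agent.PicSch
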