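import Groth.Agent.PicSchLib.RelGeom
import Groth.Agent.QuotRepLib.EquivRel
import Groth.Agent.GenSeesawLib.PicProjOver
import Groth.Agent.ChowLib.General
import Groth.Agent.SchDesc.FamilyProp
import Groth.Agent.S3218
import Mathlib.AlgebraicGeometry.Morphisms.FlatDescent

/-!
# The quotient of a piece of the scheme of divisors by the relation
-/

set_option autoImplicit false
set_option backward.isDefEq.respectTransparency false
set_option backward.isDefEq.respectTransparency.types false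
set_option linter.style.haveILetI false
set_option maxHeartbeats 1000000

universe u

open CategoryTheory CategoryTheory.Limits AlgebraicGeometry TopologicalSpace Opposite
open Groth.Agent.PicLib

noncomputable section

namespace Groth.Agent.PicSch

variable {X S : Scheme.{u}}

/-- A compact scheme mapped by an immersion into a disjoint union of projective schemes is quasi-projective. -/
theorem exists_immersion_of_union {S' Q H : Scheme.{u}} [CompactSpace Q] (g : Q ⟶ H) [IsImmersion g] (h : H ⟶ S')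
    {ι : Type u} (P : ι → Scheme.{u}) (e : (∐ P) ≅ H) (r : ι → ℕ) (c : ∀ a, P a ⟶ CohB1.ProjSpaceOver (r a) S')
    (hc : ∀ a, IsClosedImmersion (c a) ∧ c a ≫ CohB1.ProjSpaceOver.toBase (r a) S' = Sigma.ι P a ≫ e.hom ≫ h) :
    ∃ (N : ℕ) (j : Q ⟶ CohB1.ProjSpaceOver N S'), IsImmersion j ∧ j ≫ CohB1.ProjSpaceOver.toBase N S' = g ≫ h := by
  classical
  let g' := g ≫ e.inv
  let O : ι → Q.Opens := fun a => g' ⁻¹ᵁ (Sigma.ι P a).opensRange
  have hcov : ∀ z, ∃ a, z ∈ O a := fun z => by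
    obtain ⟨a, y, hy⟩ := (InvDescLib.isDisjointUnion_sigma P).cover (g' z)
    exact ⟨a, y, hy⟩
  have hdisj : ∀ {a b : ι} {z : Q}, z ∈ O a → z ∈ O b → a = b := fun {a b z} ha hb => by
    obtain ⟨x, hx⟩ := ha
    obtain ⟨y, hy⟩ := hb
    exact (InvDescLib.isDisjointUnion_sigma P).disj a b x y (hx.trans hy.symm)
  obtain ⟨s, hs⟩ := isCompact_univ.elim_finite_subcover (fun a => ((O a : Q.Opens) : Set Q)) (fun a => (O a).2)
    (fun z _ => Set.mem_iUnion.2 (hcov z))
  let σ : Fin s.card → ι := fun k => (s.equivFin.symm k).1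
  have hσ : Function.Injective σ := Subtype.val_injective.comp s.equivFin.symm.injective
  let X' : Fin s.card → Scheme.{u} := fun k => (O (σ k) : Scheme.{u})
  have hl : ∀ k, Set.range ((O (σ k)).ι ≫ g') ⊆ Set.range (Sigma.ι P (σ k)) := fun k => by
    rintro _ ⟨z, rfl⟩
    exact z.2
  let l : ∀ k, X' k ⟶ P (σ k) := fun k => IsOpenImmersion.lift (Sigma.ι P (σ k)) ((O (σ k)).ι ≫ g') (hl k)
  have hl' : ∀ k, l k ≫ Sigma.ι P (σ k) = (O (σ k)).ι ≫ g' := fun k => IsOpenImmersion.lift_fac _ _ _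
  have himm : ∀ k, IsImmersion (l k) := fun k => by
    haveI : IsImmersion (l k ≫ Sigma.ι P (σ k)) := by rw [hl']; infer_instance
    exact IsImmersion.of_comp (l k) (Sigma.ι P (σ k))
  haveI := fun a => (hc a).1
  haveI := himm
  obtain ⟨N, J, hJ, hJ'⟩ := ChowLib.exists_immersion_sigma s.card X' (fun k => (O (σ k)).ι ≫ g ≫ h) (fun k => r (σ k))
    (fun k => l k ≫ c (σ k)) (fun k => inferInstance) (fun k => by
      rw [Category.assoc, (hc (σ k)).2, reassoc_of% hl' k]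
      simp only [g', Category.assoc, Iso.inv_hom_id_assoc])
  haveI := hJ
  haveI : IsIso (Sigma.desc fun k => (O (σ k)).ι) := by
    refine SchDesc.isIso_sigmaDesc_opens _ (fun k k' hkk' => ?_) (top_le_iff.1 fun z _ => ?_)
    · exact disjoint_iff_inf_le.2 fun z hz => hkk' (hσ (hdisj hz.1 hz.2))
    · obtain ⟨a, ha, hz⟩ := Set.mem_iUnion₂.1 (hs (Set.mem_univ z))
      exact Opens.mem_iSup.2 ⟨s.equivFin ⟨a, ha⟩, by simp only [σ, Equiv.symm_apply_apply]; exact hz⟩
  refine ⟨N, inv (Sigma.desc fun k => (O (σ k)).ι) ≫ J, inferInstance, ?_⟩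
  rw [Category.assoc, hJ', IsIso.inv_comp_eq]
  exact Sigma.hom_ext _ _ fun k => by simp [X']

variable {f : X ⟶ S} {V : S.Opens}

/-- The piece of the scheme of divisors. -/
abbrev DivMod.Wo (M : DivMod f V) (a : M.ι) : Over S := AbDual.ovr M.Z (M.W a).ι

/-- The inclusion of a piece. -/
abbrev DivMod.inc (M : DivMod f V) (a : M.ι) : M.Wo a ⟶ M.Z := AbDual.ovrHom M.Z (M.W a).ι

/-- A quotient of a piece. -/
structure Piece (M : DivMod f V) (a : M.ι) where
  /-- The quotient. -/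
  Q : Over S
  /-- The projection. -/
  q : M.Wo a ⟶ Q
  flat : Flat q.left
  lfp : LocallyOfFinitePresentation q.left
  surj : Surjective q.left
  /-- The universal element. -/
  u : El f Q
  u_eq : mapEl q u = cl (pull (PicF.XTmap f (M.inc a)) (dvCls M.D))
  mono : ∀ (T : Over S) (x y : T ⟶ Q), mapEl x u = mapEl y u → x = y
  embed : ∃ (N : ℕ) (j : Q.left ⟶ CohB1.ProjSpaceOver N (V : Scheme.{u})),
    IsImmersion j ∧ j ≫ CohB1.ProjSpaceOver.toBase N _ ≫ V.ι = Q.hom

variable [IsProper f] [Flat f] [LocallyOfFinitePresentation f] [GeometricallyIntegral f] [Surjective f]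

theorem nonempty_piece [IsNoetherian (V : Scheme.{u})] (ha : InvDescLib.UnivConst f) {M : DivMod f V}
    (E : Rel M.Z (dvCls M.D)) (a : M.ι) : Nonempty (Piece M a) := by
  haveI := M.lN
  haveI := M.lft
  haveI : IsProper E.r₁.left := isProper_r₁ E
  haveI : Flat E.r₁.left := flat_r₁ E ha
  obtain ⟨N, c, hc, hcπ⟩ := M.embed a
  haveI := hc
  let W := M.W a
  let G : E.R.left.Opens := E.r₁.left ⁻¹ᵁ W ⊓ E.r₂.left ⁻¹ᵁ W
  let ρ : AbDual.ovr E.R G.ι ⟶ E.R := AbDual.ovrHom E.R G.ι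
  have h₁ : Set.range (G.ι ≫ E.r₁.left) ⊆ Set.range W.ι := by
    rw [Scheme.Opens.range_ι]; rintro _ ⟨z, rfl⟩; exact z.2.1
  have h₂ : Set.range (G.ι ≫ E.r₂.left) ⊆ Set.range W.ι := by
    rw [Scheme.Opens.range_ι]; rintro _ ⟨z, rfl⟩; exact z.2.2
  let g₁ := IsOpenImmersion.lift W.ι (G.ι ≫ E.r₁.left) h₁
  let g₂ := IsOpenImmersion.lift W.ι (G.ι ≫ E.r₂.left) h₂
  have hg₁ : g₁ ≫ W.ι = G.ι ≫ E.r₁.left := IsOpenImmersion.lift_fac _ _ _
  have hg₂ : g₂ ≫ W.ι = G.ι ≫ E.r₂.left := IsOpenImmersion.lift_fac _ _ _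
  -- properness and flatness
  let G₁ : E.R.left.Opens := E.r₁.left ⁻¹ᵁ W
  have hGle : G ≤ G₁ := inf_le_left
  have hg₁' : g₁ = E.R.left.homOfLE hGle ≫ (E.r₁.left ∣_ W) := by
    rw [← cancel_mono W.ι, hg₁, Category.assoc, morphismRestrict_ι, Scheme.homOfLE_ι_assoc]
  haveI : IsProper (E.r₁.left ∣_ W) := IsZariskiLocalAtTarget.restrict ‹_› W
  haveI : Flat (E.r₁.left ∣_ W) := IsZariskiLocalAtTarget.restrict ‹_› W
  haveI : IsClosedImmersion (E.R.left.homOfLE hGle) := by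
    refine IsClosedImmersion.of_isPreimmersion _ ?_
    have hr : Set.range (E.R.left.homOfLE hGle) = {z : G₁ | E.r₂.left z.1 ∈ W} := by
      ext z
      constructor
      · rintro ⟨y, rfl⟩
        show E.r₂.left (G₁.ι (E.R.left.homOfLE hGle y)) ∈ W
        rw [show G₁.ι (E.R.left.homOfLE hGle y) = G.ι y by rw [← Scheme.Hom.comp_apply, Scheme.homOfLE_ι]]
        exact y.2.2
      · intro hz
        refine ⟨⟨z.1, z.2, hz⟩, Subtype.ext ?_⟩
        show G₁.ι (E.R.left.homOfLE hGle _) = z.1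
        rw [← Scheme.Hom.comp_apply, Scheme.homOfLE_ι]
        rfl
    rw [hr, ← isOpen_compl_iff]
    have e : ({z : G₁ | E.r₂.left z.1 ∈ W}ᶜ : Set G₁) =
        ⋃ b ∈ {b | b ≠ a}, (fun z : G₁ => E.r₂.left z.1) ⁻¹' (M.W b : Set M.Z.left) := by
      ext z
      simp only [Set.mem_compl_iff, Set.mem_setOf_eq, Set.mem_iUnion, Set.mem_preimage, exists_prop, SetLike.mem_coe]
      constructor
      · intro hz
        obtain ⟨b, hb⟩ := M.cover (E.r₂.left z.1)
        exact ⟨b, fun h => hz (by subst h; exact hb), hb⟩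
      · rintro ⟨b, hb, hzb⟩ hz
        exact (M.disj hb).le_bot ⟨hzb, hz⟩
    rw [e]
    exact isOpen_biUnion fun b _ => (M.W b).2.preimage (E.r₂.left.continuous.comp continuous_subtype_val)
  haveI : IsProper g₁ := hg₁' ▸ inferInstance
  haveI : Flat g₁ := hg₁' ▸ inferInstance
  -- over the open of the base
  let π := CohB1.ProjSpaceOver.toBase N (V : Scheme.{u})
  haveI : IsProper π := BCLib.isProper_toBase N _
  haveI : Flat π := GenSeesawLib.flat_toBase N _
  let X' : Over (V : Scheme.{u}) := Over.mk (c ≫ π)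
  have hX' : X'.hom ≫ V.ι = (M.Wo a).hom := (Category.assoc _ _ _).trans hcπ
  let R' : Over (V : Scheme.{u}) := Over.mk (g₁ ≫ X'.hom)
  have hg₂V : g₂ ≫ X'.hom = g₁ ≫ X'.hom := by
    rw [← cancel_mono V.ι, Category.assoc, Category.assoc, hX']
    show g₂ ≫ W.ι ≫ M.Z.hom = g₁ ≫ W.ι ≫ M.Z.hom
    rw [reassoc_of% hg₂, reassoc_of% hg₁, Over.w, Over.w]
  let f₁ : R' ⟶ X' := Over.homMk g₁ rfl
  let f₂ : R' ⟶ X' := Over.homMk g₂ hg₂V
  haveI : IsProper f₁.left := inferInstanceAs (IsProper g₁)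
  haveI : Flat f₁.left := inferInstanceAs (Flat g₁)
  haveI : IsImmersion c := hc
  let toW : ∀ {T : Over (V : Scheme.{u})} (_ : T ⟶ X'), toS V T ⟶ M.Wo a := fun {T} x => Over.homMk x.left (by
    show x.left ≫ (M.Wo a).hom = T.hom ≫ V.ι
    rw [← hX', ← Category.assoc, Over.w])
  have hrel : ∀ (T : Over (V : Scheme.{u})) (x y : T ⟶ X'), (∃ r : T ⟶ R', r ≫ f₁ = x ∧ r ≫ f₂ = y) ↔
      ∃ r : toS V T ⟶ E.R, r ≫ E.r₁ = toW x ≫ M.inc a ∧ r ≫ E.r₂ = toW y ≫ M.inc a := by
    intro T x y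
    constructor
    · rintro ⟨r, rfl, rfl⟩
      let r' : toS V T ⟶ E.R := Over.homMk (r.left ≫ G.ι) (by
        show (r.left ≫ G.ι) ≫ E.R.hom = T.hom ≫ V.ι
        rw [← Over.w r, Category.assoc, Category.assoc]
        show r.left ≫ G.ι ≫ E.R.hom = r.left ≫ (g₁ ≫ X'.hom) ≫ V.ι
        rw [Category.assoc, hX']
        show _ = r.left ≫ g₁ ≫ W.ι ≫ M.Z.hom
        rw [reassoc_of% hg₁, Over.w])
      refine ⟨r', Over.OverMorphism.ext ?_, Over.OverMorphism.ext ?_⟩
      · show (r.left ≫ G.ι) ≫ E.r₁.left = (r.left ≫ g₁) ≫ W.ι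
        rw [Category.assoc, Category.assoc, hg₁]
      · show (r.left ≫ G.ι) ≫ E.r₂.left = (r.left ≫ g₂) ≫ W.ι
        rw [Category.assoc, Category.assoc, hg₂]
    · rintro ⟨r, hr₁, hr₂⟩
      have e₁ : r.left ≫ E.r₁.left = x.left ≫ W.ι := congrArg CommaMorphism.left hr₁
      have e₂ : r.left ≫ E.r₂.left = y.left ≫ W.ι := congrArg CommaMorphism.left hr₂
      have hrG : Set.range r.left ⊆ Set.range G.ι := by
        rw [Scheme.Opens.range_ι]
        rintro _ ⟨t, rfl⟩
        constructor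
        · show E.r₁.left (r.left t) ∈ W
          rw [← Scheme.Hom.comp_apply, e₁]
          exact (x.left t).2
        · show E.r₂.left (r.left t) ∈ W
          rw [← Scheme.Hom.comp_apply, e₂]
          exact (y.left t).2
      let r₀ := IsOpenImmersion.lift G.ι r.left hrG
      have hr₀ : r₀ ≫ G.ι = r.left := IsOpenImmersion.lift_fac _ _ _
      have k₁ : r₀ ≫ g₁ = x.left := by rw [← cancel_mono W.ι, Category.assoc, hg₁, reassoc_of% hr₀, e₁]
      have k₂ : r₀ ≫ g₂ = y.left := by rw [← cancel_mono W.ι, Category.assoc, hg₂, reassoc_of% hr₀, e₂]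
      refine ⟨Over.homMk r₀ (by
        show r₀ ≫ g₁ ≫ X'.hom = T.hom
        rw [reassoc_of% k₁, Over.w]), Over.OverMorphism.ext k₁, Over.OverMorphism.ext k₂⟩
  have hinj : ∀ (T : Over (V : Scheme.{u})) (r r' : T ⟶ R'), r ≫ f₁ = r' ≫ f₁ → r ≫ f₂ = r' ≫ f₂ → r = r' := by
    intro T r r' e₁ e₂
    let T' : Over S := Over.mk (r.left ≫ G.ι ≫ E.R.hom)
    have e₁' : r.left ≫ g₁ = r'.left ≫ g₁ := congrArg CommaMorphism.left e₁
    have e₂' : r.left ≫ g₂ = r'.left ≫ g₂ := congrArg CommaMorphism.left e₂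
    let s : T' ⟶ E.R := Over.homMk (r.left ≫ G.ι) (Category.assoc _ _ _)
    let s' : T' ⟶ E.R := Over.homMk (r'.left ≫ G.ι) (by
      show (r'.left ≫ G.ι) ≫ E.R.hom = r.left ≫ G.ι ≫ E.R.hom
      rw [← Over.w E.r₁, Category.assoc, ← reassoc_of% hg₁, ← reassoc_of% e₁', reassoc_of% hg₁])
    have hs : s = s' := E.hom_ext
      (Over.OverMorphism.ext (by
        show (r.left ≫ G.ι) ≫ E.r₁.left = (r'.left ≫ G.ι) ≫ E.r₁.left
        rw [Category.assoc, Category.assoc, ← hg₁, reassoc_of% e₁']))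
      (Over.OverMorphism.ext (by
        show (r.left ≫ G.ι) ≫ E.r₂.left = (r'.left ≫ G.ι) ≫ E.r₂.left
        rw [Category.assoc, Category.assoc, ← hg₂, reassoc_of% e₂']))
    exact Over.OverMorphism.ext ((cancel_mono G.ι).1 (congrArg CommaMorphism.left hs))
  have hequiv : ∀ T : Over (V : Scheme.{u}),
      Equivalence (fun x y : T ⟶ X' => ∃ r : T ⟶ R', r ≫ f₁ = x ∧ r ≫ f₂ = y) := fun T => by
    refine ⟨fun x => (hrel T x x).2 ((E.equivalence _).refl _), fun {x y} h => (hrel T y x).2 ?_,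
      fun {x y z} h h' => (hrel T x z).2 ?_⟩
    · exact (E.equivalence _).symm ((hrel T x y).1 h)
    · exact (E.equivalence _).trans ((hrel T x y).1 h) ((hrel T y z).1 h')
  have hS := S3218.result (V : Scheme.{u}) N (CohB1.ProjSpaceOver N (V : Scheme.{u})) (𝟙 _)
  rw [Category.id_comp] at hS
  obtain ⟨H, ZH, hH, ιH, P, eH, rH, cH, hcH⟩ := hS
  haveI := hH.1
  obtain ⟨Q', q', w, -, ⟨jH, hjH, hjH'⟩, hQc, hqs, hqf, hqp, heff⟩ :=
    QuotRep.exists_quotient_of_equivRel π (f₁ := f₁) (f₂ := f₂) hinj hequiv c rfl H ZH hH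
  haveI := hjH
  haveI := hQc
  haveI := hqf
  haveI := hqp
  haveI : Surjective q'.left := ⟨hqs⟩
  haveI : LocallyOfFiniteType H.hom := by
    have h : eH.hom ≫ H.hom = Sigma.desc fun b => cH b ≫ CohB1.ProjSpaceOver.toBase (rH b) (V : Scheme.{u}) :=
      Sigma.hom_ext _ _ fun b => by rw [Sigma.ι_desc, (hcH b).2]
    haveI : LocallyOfFiniteType (eH.hom ≫ H.hom) := by
      rw [h]
      exact IsZariskiLocalAtSource.sigmaDesc fun b =>
        haveI := (hcH b).1
        haveI : IsProper (CohB1.ProjSpaceOver.toBase (rH b) (V : Scheme.{u})) := BCLib.isProper_toBase _ _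
        inferInstance
    rw [← eH.inv_hom_id_assoc H.hom]
    infer_instance
  haveI : LocallyOfFiniteType Q'.hom := by rw [← hjH']; infer_instance
  haveI : IsLocallyNoetherian Q'.left := LocallyOfFiniteType.isLocallyNoetherian Q'.hom
  haveI : LocallyOfFinitePresentation q'.left := S14008.lfp_of_lft _
  let Q : Over S := toS V Q'
  let q : M.Wo a ⟶ Q := Over.homMk q'.left (by
    show q'.left ≫ Q'.hom ≫ V.ι = (M.Wo a).hom
    rw [← Category.assoc, Over.w, hX'])
  haveI : Flat q.left := hqf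
  haveI : LocallyOfFinitePresentation q.left := ‹LocallyOfFinitePresentation q'.left›
  haveI : Surjective q.left := ⟨hqs⟩
  let α := dvCls M.D
  let aW := pull (PicF.XTmap f (M.inc a)) α
  have hBEq : ∀ {T : Over S} (x y : T ⟶ M.Wo a), x ≫ q = y ≫ q →
      BEq (pull (PicF.XTmap f x) aW) (pull (PicF.XTmap f y) aW) := by
    intro T x y hxy
    rw [InvDescLib.pull_XTmap_XTmap _ x rfl, InvDescLib.pull_XTmap_XTmap _ y rfl, ← E.iff]
    let T' : Over (V : Scheme.{u}) := Over.mk (x.left ≫ X'.hom)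
    let x' : T' ⟶ X' := Over.homMk x.left rfl
    let y' : T' ⟶ X' := Over.homMk y.left (by
      show y.left ≫ X'.hom = x.left ≫ X'.hom
      rw [← cancel_mono V.ι, Category.assoc, Category.assoc, hX', Over.w, Over.w])
    have hw : (toS V T').hom = T.hom := by
      show (x.left ≫ X'.hom) ≫ V.ι = T.hom
      rw [Category.assoc, hX', Over.w]
    obtain ⟨r, hr₁, hr₂⟩ := heff T' x' y' (Over.OverMorphism.ext (show x.left ≫ q'.left = y.left ≫ q'.left from (congrArg CommaMorphism.left hxy :)))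
    obtain ⟨r', hr₁', hr₂'⟩ := (hrel T' x' y').1 ⟨r, hr₁, hr₂⟩
    have e₁ : r'.left ≫ E.r₁.left = x.left ≫ (M.inc a).left := congrArg CommaMorphism.left hr₁'
    have e₂ : r'.left ≫ E.r₂.left = y.left ≫ (M.inc a).left := congrArg CommaMorphism.left hr₂'
    exact ⟨Over.homMk r'.left ((Over.w r').trans hw), Over.OverMorphism.ext e₁, Over.OverMorphism.ext e₂⟩
  let TU := AbDual.ovr Q q.left
  let isoW : TU ⟶ M.Wo a := Over.homMk (𝟙 _) ((Category.id_comp _).trans (Over.w q).symm)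
  let isoW' : M.Wo a ⟶ TU := Over.homMk (𝟙 _) ((Category.id_comp _).trans (Over.w q))
  have hiso : isoW ≫ q = AbDual.ovrHom Q q.left := Over.OverMorphism.ext (Category.id_comp _)
  obtain ⟨u, hu⟩ := exists_el_descend ha q.left (mapEl isoW (cl aW)) (by
    rw [mapEl_comp, mapEl_comp, mapEl_cl, mapEl_cl]
    refine cl_congr (hBEq _ _ ?_)
    rw [Category.assoc, Category.assoc, hiso]
    exact Over.OverMorphism.ext pullback.condition)
  have huq : mapEl q u = cl aW := by
    have h := congrArg (mapEl isoW') hu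
    rw [mapEl_comp, mapEl_comp] at h
    rwa [show isoW' ≫ AbDual.ovrHom Q q.left = q from Over.OverMorphism.ext (Category.id_comp _),
      show isoW' ≫ isoW = 𝟙 _ from Over.OverMorphism.ext (Category.id_comp _), mapEl_id] at h
  obtain ⟨NQ, jQ, hjQ, hjQ'⟩ := exists_immersion_of_union jH H.hom P eH rH cH hcH
  refine ⟨⟨Q, q, inferInstance, inferInstance, inferInstance, u, huq, fun T x y hxy => ?_,
    NQ, jQ, hjQ, by rw [← Category.assoc, hjQ', hjH']; rfl⟩⟩
  let t₁ := pullback.fst x.left q.left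
  let t₂ := pullback.fst (t₁ ≫ y.left) q.left
  let T₂ : Over S := Over.mk (t₂ ≫ t₁ ≫ T.hom)
  let t : T₂ ⟶ T := Over.homMk (t₂ ≫ t₁) (Category.assoc _ _ _)
  let a' : T₂ ⟶ M.Wo a := Over.homMk (t₂ ≫ pullback.snd x.left q.left) (by
    show _ ≫ (M.Wo a).hom = t₂ ≫ t₁ ≫ T.hom
    rw [← Over.w q, Category.assoc, ← pullback.condition_assoc, Over.w])
  let b' : T₂ ⟶ M.Wo a := Over.homMk (pullback.snd (t₁ ≫ y.left) q.left) (by
    show _ ≫ (M.Wo a).hom = t₂ ≫ t₁ ≫ T.hom
    rw [← Over.w q, ← pullback.condition_assoc, Category.assoc, Over.w])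
  have ea : a' ≫ q = t ≫ x := Over.OverMorphism.ext (by
    show (t₂ ≫ pullback.snd x.left q.left) ≫ q.left = (t₂ ≫ t₁) ≫ x.left
    rw [Category.assoc, Category.assoc, pullback.condition])
  have eb : b' ≫ q = t ≫ y := Over.OverMorphism.ext (by
    show pullback.snd (t₁ ≫ y.left) q.left ≫ q.left = (t₂ ≫ t₁) ≫ y.left
    rw [← pullback.condition, Category.assoc])
  have h : cl (pull (PicF.XTmap f a') aW) = cl (pull (PicF.XTmap f b') aW) := by
    calc cl (pull (PicF.XTmap f a') aW) = mapEl a' (mapEl q u) := by rw [huq, mapEl_cl]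
      _ = mapEl b' (mapEl q u) := by rw [mapEl_comp, mapEl_comp, ea, eb, ← mapEl_comp, ← mapEl_comp, hxy]
      _ = cl (pull (PicF.XTmap f b') aW) := by rw [huq, mapEl_cl]
  rw [cl_eq_iff ha, InvDescLib.pull_XTmap_XTmap _ a' rfl, InvDescLib.pull_XTmap_XTmap _ b' rfl, ← E.iff] at h
  obtain ⟨r, hr₁, hr₂⟩ := h
  let T₂' : Over (V : Scheme.{u}) := Over.mk (a'.left ≫ X'.hom)
  let a'' : T₂' ⟶ X' := Over.homMk a'.left rfl
  let b'' : T₂' ⟶ X' := Over.homMk b'.left (by
    show b'.left ≫ X'.hom = a'.left ≫ X'.hom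
    rw [← cancel_mono V.ι, Category.assoc, Category.assoc, hX', Over.w, Over.w])
  have hw : (toS V T₂').hom = T₂.hom := by
    show (a'.left ≫ X'.hom) ≫ V.ι = T₂.hom
    rw [Category.assoc, hX', Over.w]
  obtain ⟨r', hr'₁, hr'₂⟩ := (hrel T₂' a'' b'').2 ⟨Over.homMk r.left ((Over.w r).trans hw.symm),
    Over.OverMorphism.ext (by exact congrArg CommaMorphism.left hr₁ :),
    Over.OverMorphism.ext (by exact congrArg CommaMorphism.left hr₂ :)⟩
  have hq : a'' ≫ q' = b'' ≫ q' := by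
    rw [← hr'₁, ← hr'₂, Category.assoc, Category.assoc, w]
  have hq' : a'.left ≫ q'.left = b'.left ≫ q'.left := congrArg CommaMorphism.left hq
  haveI : Epi t.left := Flat.epi_of_flat_of_surjective (t₂ ≫ t₁)
  refine Over.OverMorphism.ext ((cancel_epi t.left).1 ?_)
  exact (congrArg CommaMorphism.left ea).symm.trans (hq'.trans (congrArg CommaMorphism.left eb))

end Groth.Agent.PicSch
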