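import Groth.Agent.InvDescLib.RelPic
import Groth.Agent.InvDescLib.Disjoint

/-!
# Classes on a relative scheme modulo classes of the base, and rigidification along a point
-/

set_option autoImplicit false
set_option backward.isDefEq.respectTransparency false
set_option backward.isDefEq.respectTransparency.types false
set_option linter.style.haveILetI false
set_option maxHeartbeats 1000000

universe u

open CategoryTheory CategoryTheory.Limits AlgebraicGeometry TopologicalSpace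
open Groth.Agent.PicLib Groth.Agent.SchDesc

noncomputable section

namespace Groth.Agent.PicSch

variable {X S : Scheme.{u}} {f : X ⟶ S} {T T' : Over S}

/-- Two classes differ by a class of the base. -/
def BEq (a b : Pic (PicF.XT f T)) : Prop := ∃ N : Pic T.left, b = a * pull (PicF.XTproj f T) N

theorem BEq.refl (a : Pic (PicF.XT f T)) : BEq a a := ⟨1, by rw [map_one, mul_one]⟩

theorem BEq.symm {a b : Pic (PicF.XT f T)} (h : BEq a b) : BEq b a := by
  obtain ⟨N, rfl⟩ := h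
  exact ⟨N⁻¹, by rw [map_inv, mul_inv_cancel_right]⟩

theorem BEq.trans {a b c : Pic (PicF.XT f T)} (h : BEq a b) (h' : BEq b c) : BEq a c := by
  obtain ⟨N, rfl⟩ := h
  obtain ⟨M, rfl⟩ := h'
  exact ⟨N * M, by rw [map_mul, mul_assoc]⟩

theorem BEq.mul {a b a' b' : Pic (PicF.XT f T)} (h : BEq a b) (h' : BEq a' b') : BEq (a * a') (b * b') := by
  obtain ⟨N, rfl⟩ := h
  obtain ⟨M, rfl⟩ := h'
  exact ⟨N * M, by rw [map_mul, mul_mul_mul_comm]⟩

theorem BEq.inv {a b : Pic (PicF.XT f T)} (h : BEq a b) : BEq a⁻¹ b⁻¹ := by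
  obtain ⟨N, rfl⟩ := h
  exact ⟨N⁻¹, by rw [map_inv, mul_inv]⟩

theorem beq_mul_base (a : Pic (PicF.XT f T)) (N : Pic T.left) : BEq a (a * pull (PicF.XTproj f T) N) := ⟨N, rfl⟩

theorem beq_one_iff {a b : Pic (PicF.XT f T)} : BEq a b ↔ BEq 1 (a⁻¹ * b) := by
  constructor
  · rintro ⟨N, rfl⟩
    exact ⟨N, by rw [inv_mul_cancel_left, one_mul]⟩
  · rintro ⟨N, hN⟩
    exact ⟨N, by rw [one_mul] at hN; rw [← hN, mul_inv_cancel_left]⟩

theorem BEq.pull (g : T' ⟶ T) {a b : Pic (PicF.XT f T)} (h : BEq a b) :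
    BEq (Groth.Agent.PicLib.pull (PicF.XTmap f g) a) (Groth.Agent.PicLib.pull (PicF.XTmap f g) b) := by
  obtain ⟨N, rfl⟩ := h
  refine ⟨Groth.Agent.PicLib.pull g.left N, ?_⟩
  rw [map_mul, InvDescLib.pull_pull_of_eq (InvDescLib.isPullback_map g).w]

variable (f) in
/-- The section through a point. -/
def sec (T : Over S) (y : T.left ⟶ X) (hy : y ≫ f = T.hom) : T.left ⟶ PicF.XT f T :=
  pullback.lift y (𝟙 T.left) (by rw [hy, Category.id_comp])

@[reassoc (attr := simp)]
theorem sec_proj (y : T.left ⟶ X) (hy : y ≫ f = T.hom) : sec f T y hy ≫ PicF.XTproj f T = 𝟙 _ :=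
  pullback.lift_snd _ _ _

@[reassoc (attr := simp)]
theorem sec_fst (y : T.left ⟶ X) (hy : y ≫ f = T.hom) : sec f T y hy ≫ pullback.fst f T.hom = y :=
  pullback.lift_fst _ _ _

theorem sec_XTmap (g : T' ⟶ T) (y : T.left ⟶ X) (hy : y ≫ f = T.hom) :
    sec f T' (g.left ≫ y) (by rw [Category.assoc, hy, Over.w]) ≫ PicF.XTmap f g = g.left ≫ sec f T y hy := by
  apply pullback.hom_ext <;> simp [sec, PicF.XTmap]
  exact Category.id_comp _

theorem pull_sec_XTmap (g : T' ⟶ T) (y : T.left ⟶ X) (hy : y ≫ f = T.hom) (a : Pic (PicF.XT f T)) :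
    pull (sec f T' (g.left ≫ y) (by rw [Category.assoc, hy, Over.w])) (pull (PicF.XTmap f g) a) =
      pull g.left (pull (sec f T y hy) a) :=
  InvDescLib.pull_pull_of_eq (sec_XTmap g y hy) a

theorem pull_sec_base (y : T.left ⟶ X) (hy : y ≫ f = T.hom) (N : Pic T.left) :
    pull (sec f T y hy) (pull (PicF.XTproj f T) N) = N :=
  InvDescLib.pull_pull_of_id (sec_proj y hy) N

/-- The class rigidified along a point. -/
def rigAt (y : T.left ⟶ X) (hy : y ≫ f = T.hom) (a : Pic (PicF.XT f T)) : Pic (PicF.XT f T) :=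
  a * pull (PicF.XTproj f T) (pull (sec f T y hy) a)⁻¹

theorem rigAt_rigid (y : T.left ⟶ X) (hy : y ≫ f = T.hom) (a : Pic (PicF.XT f T)) :
    pull (sec f T y hy) (rigAt y hy a) = 1 := by
  rw [rigAt, map_mul, pull_sec_base, mul_inv_cancel]

theorem beq_rigAt (y : T.left ⟶ X) (hy : y ≫ f = T.hom) (a : Pic (PicF.XT f T)) : BEq a (rigAt y hy a) :=
  beq_mul_base _ _

theorem BEq.eq_of_rigid (y : T.left ⟶ X) (hy : y ≫ f = T.hom) {a b : Pic (PicF.XT f T)} (h : BEq a b)
    (ha : Groth.Agent.PicLib.pull (sec f T y hy) a = 1) (hb : Groth.Agent.PicLib.pull (sec f T y hy) b = 1) :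
    a = b := by
  obtain ⟨N, rfl⟩ := h
  rw [map_mul, ha, pull_sec_base, one_mul] at hb
  rw [hb, map_one, mul_one]

theorem rigAt_congr (y : T.left ⟶ X) (hy : y ≫ f = T.hom) {a b : Pic (PicF.XT f T)} (h : BEq a b) :
    rigAt y hy a = rigAt y hy b :=
  BEq.eq_of_rigid y hy ((beq_rigAt y hy a).symm.trans (h.trans (beq_rigAt y hy b))) (rigAt_rigid y hy a)
    (rigAt_rigid y hy b)

theorem exists_nhd_pull_eq_one {Y : Scheme.{u}} (N : Pic Y) (t : Y) : ∃ W : Y.Opens, t ∈ W ∧ pull W.ι N = 1 := by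
  obtain ⟨M, hM, rfl⟩ := exists_cls N
  obtain ⟨W, s, htW, hs⟩ := ParaFLib.exists_gen_nhd hM t
  refine ⟨W, htW, ?_⟩
  rw [pull_cls]
  exact (AbDualLib.eq_one_iff_triv _).2 ⟨_, CubeLib.gen_pullMap W.ι hM hs (fun z _ => z.2)⟩

/-- A class from the base is trivial on the members of a Zariski covering of the base. -/
theorem exists_cover_pull_eq_one (N : Pic T.left) : ∃ (W : T.left → T.left.Opens), (∀ t, t ∈ W t) ∧
    ∀ t, pull (W t).ι N = 1 := by
  choose W h₁ h₂ using fun t => exists_nhd_pull_eq_one N t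
  exact ⟨W, h₁, h₂⟩

/-- Being a class of the base is local on the base for the fppf topology. -/
theorem beq_of_cover (ha : InvDescLib.UnivConst f) {U : Scheme.{u}} (u : U ⟶ T.left) [Flat u]
    [LocallyOfFinitePresentation u] [Surjective u] {a b : Pic (PicF.XT f T)}
    (h : BEq (pull (PicF.XTmap f (AbDual.ovrHom T u)) a) (pull (PicF.XTmap f (AbDual.ovrHom T u)) b)) : BEq a b := by
  rw [beq_one_iff] at h ⊢
  rw [← map_inv, ← map_mul] at h
  obtain ⟨d, hd⟩ : ∃ d, a⁻¹ * b = d := ⟨_, rfl⟩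
  rw [hd] at h ⊢
  obtain ⟨N, hN⟩ := h
  rw [one_mul] at hN
  choose W hW hWN using fun z : U => exists_nhd_pull_eq_one (Y := U) N z
  let v : ∀ z : U, (W z : Scheme.{u}) ⟶ U := fun z => (W z).ι
  let V := AbDual.ovr (AbDual.ovr T u) (Sigma.desc v)
  haveI : Flat (Sigma.desc v) := IsZariskiLocalAtSource.sigmaDesc fun i => inferInstance
  haveI : LocallyOfFinitePresentation (Sigma.desc v) := IsZariskiLocalAtSource.sigmaDesc fun i => inferInstance
  haveI : Surjective (Sigma.desc v) := ⟨fun z =>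
    ⟨Sigma.ι (fun z => (W z : Scheme.{u})) z ⟨z, hW z⟩, by rw [← Scheme.Hom.comp_apply, Sigma.ι_desc]; rfl⟩⟩
  have hN1 : pull (Sigma.desc v) N = 1 := (InvDescLib.isDisjointUnion_sigma _).eq_one fun z => by
    rw [← pull_comp, Sigma.ι_desc]
    exact hWN z
  let w := Sigma.desc v ≫ u
  haveI := IsFpqc.of_locallyOfFinitePresentation w
  let e := (pullbackLeftPullbackSndIso f T.hom w).hom
  let g : AbDual.ovr T w ⟶ AbDual.ovr T u := Over.homMk (Sigma.desc v) (by simp [w])
  have hg : g ≫ AbDual.ovrHom T u = AbDual.ovrHom T w := Over.OverMorphism.ext rfl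
  have hd1 : pull (PicF.XTmap f (AbDual.ovrHom T w)) d = 1 := by
    rw [← InvDescLib.pull_XTmap_XTmap _ g hg, hN, InvDescLib.pull_pull_of_eq (InvDescLib.isPullback_map g).w]
    show pull _ (pull (Sigma.desc v) N) = 1
    rw [hN1, map_one]
  have he : e ≫ PicF.XTmap f (AbDual.ovrHom T w) = pullback.fst (PicF.XTproj f T) w := by
    apply pullback.hom_ext <;> simp [e, PicF.XTmap, PicF.XTproj, pullback.condition]
  obtain ⟨L, hL, hd2⟩ := exists_cls d
  subst hd2
  have htriv : CubeLib.Triv ((Scheme.Modules.pullback (pullback.fst (PicF.XTproj f T) w)).obj L) := by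
    refine (AbDualLib.eq_one_iff_triv (AmpleLib.isInvertible_pullback _ hL)).1 ?_
    rw [← pull_cls _ hL, ← he, pull_comp]
    exact (congrArg (pull e) hd1).trans (map_one _)
  obtain ⟨M, hM, ⟨φ⟩⟩ := InvDescLib.exists_base_of_triv (InvDescLib.univConst_XTproj ha T) hL w htriv
  exact ⟨cls hM, by rw [one_mul, pull_cls _ hM]; exact ((cls_eq_cls _ _).2 ⟨φ⟩).symm⟩

end Groth.Agent.PicSch
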