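import Groth.Agent.PicSchLib.Chart

/-!
# The charts cover the relation of a scheme of divisors
-/

set_option autoImplicit false
set_option backward.isDefEq.respectTransparency false
set_option backward.isDefEq.respectTransparency.types false
set_option linter.style.haveILetI false
set_option maxHeartbeats 1000000

universe u

open CategoryTheory CategoryTheory.Limits AlgebraicGeometry TopologicalSpace Opposite
open Groth.Agent.PicLib

noncomputable section

namespace Groth.Agent.PicSch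

variable {X S : Scheme.{u}} {f : X ⟶ S} {V : S.Opens} [IsProper f] [Flat f] [LocallyOfFinitePresentation f]
  [GeometricallyIntegral f] [Surjective f] (M : DivMod f V)

/-- Two maps to the scheme of divisors classify the same divisor only if they agree. -/
theorem DivMod.hom_ext {T : Over S} [IsLocallyNoetherian T.left] {a b : T ⟶ M.Z} (h : pullDv a M.D = pullDv b M.D) :
    a = b := by
  have hT : Set.range T.hom ⊆ (V : Set S) := by
    rintro _ ⟨t, rfl⟩
    exact M.range ⟨a.left t, by rw [← Scheme.Hom.comp_apply, Over.w a]⟩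
  have hg : goodSet (dvCls (pullDv a M.D)) = Set.univ := by rw [← pull_dvCls, goodSet_pull, M.good, Set.preimage_univ]
  obtain ⟨g, -, hu⟩ := M.univ T hT (pullDv a M.D) hg
  exact (hu a rfl).trans (hu b h.symm).symm

omit [IsProper f] [Flat f] [LocallyOfFinitePresentation f] [GeometricallyIntegral f] [Surjective f] in
theorem pullDv_comp [IsProper f] [Flat f] {T T' T'' : Over S} (g : T' ⟶ T) (h : T'' ⟶ T') (D : Dv f T) :
    pullDv h (pullDv g D) = pullDv (h ≫ g) D :=
  Subtype.ext (by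
    show (D.1.comap _).comap _ = D.1.comap _
    rw [← Scheme.IdealSheafData.comap_comp, XTmap_comp'])

variable (E : Rel M.Z (dvCls M.D)) {U : M.Z.left.Opens} (hU : IsAffineOpen U) {N : ℕ}
  (s : Fin N → Γ(rep (dvCls M.D), PicF.XTproj f M.Z ⁻¹ᵁ U))

/-- The chart as a piece of the relation. -/
structure ChartMap (j : Fin N) where
  /-- The divisor. -/
  Y : Dv f (chartObj hU j)
  rep : IsRep s (chartπ hU j) (top_le_chartπ hU j) (chartCoord hU j) Y
  /-- The map to the relation. -/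
  r : chartObj hU j ⟶ E.R
  fst : r ≫ E.r₁ = chartπ hU j
  snd : pullDv (r ≫ E.r₂) M.D = Y

variable {M E hU s}

theorem nonempty_chartMap (hs : IsFrame s) (j : Fin N) : Nonempty (ChartMap M E hU s j) := by
  haveI := M.lN
  haveI := isLocallyNoetherian_chartObj hU j
  have hc : ∀ t, ∃ i, t ∈ (chartObj hU j).left.basicOpen (chartCoord hU j i) := fun t => ⟨j, by
    rw [chartCoord_self, Scheme.basicOpen_of_isUnit _ isUnit_one]
    trivial⟩
  obtain ⟨Y, hY, hcls⟩ := exists_isRep (g := chartπ hU j) (hg := top_le_chartπ hU j) hs hc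
  have hrange : Set.range (chartObj hU j).hom ⊆ (V : Set S) := by
    rintro _ ⟨t, rfl⟩
    exact M.range ⟨(chartπ hU j).left t, by rw [← Scheme.Hom.comp_apply, Over.w (chartπ hU j)]⟩
  obtain ⟨y, hy, -⟩ := M.univ _ hrange Y (by rw [hcls, goodSet_pull, M.good, Set.preimage_univ])
  obtain ⟨r, hr₁, hr₂⟩ := (E.iff _ (chartπ hU j) y).2 (by
    rw [← hcls, pull_dvCls, hy]
    exact BEq.refl _)
  exact ⟨⟨Y, hY, r, hr₁, by rw [hr₂, hy]⟩⟩

/-- Charts are monomorphisms to the relation. -/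
theorem chartMap_hom_ext (hs : IsFrame s) (ha : InvDescLib.UnivConst f) {j : Fin N} (C : ChartMap M E hU s j)
    {T : Over S} {k k' : T ⟶ chartObj hU j} (h : k ≫ C.r = k' ≫ C.r) : k = k' := by
  refine Over.OverMorphism.ext (T.left.affineCover.hom_ext _ _ fun i => ?_)
  let e : AbDual.ovr T (T.left.affineCover.f i) ⟶ T := AbDual.ovrHom T (T.left.affineCover.f i)
  suffices H : e ≫ k = e ≫ k' from congrArg CommaMorphism.left H
  haveI : IsAffine (AbDual.ovr T (T.left.affineCover.f i)).left :=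
    inferInstanceAs (IsAffine (T.left.affineCover.X i))
  have hπ : (e ≫ k) ≫ chartπ hU j = (e ≫ k') ≫ chartπ hU j := by
    rw [← C.fst, Category.assoc, Category.assoc, reassoc_of% h]
  refine chart_hom_ext hU j hπ fun i' => ?_
  have hY : pullDv (e ≫ k) C.Y = pullDv (e ≫ k') C.Y := by
    rw [← C.snd, pullDv_comp, pullDv_comp, Category.assoc, Category.assoc, reassoc_of% h]
  have h₁ := C.rep.comp (e ≫ k)
  have h₂ := (C.rep.comp (e ≫ k')).congr hπ.symm
  rw [← hY] at h₂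
  obtain ⟨u, -, hu⟩ := h₁.exists_unit hs ha h₂
  have hj := hu j
  simp only [chartCoord_self, map_one, mul_one] at hj
  rw [hu i', ← hj, one_mul]

/-- Near every point of the relation over a frame there is a chart. -/
theorem exists_chart (hs : IsFrame s) (C : ∀ j, ChartMap M E hU s j) {T : Over S} [IsAffine T.left]
    [IsLocallyNoetherian T.left] (ρ : T ⟶ E.R) (hρ : ⊤ ≤ (ρ ≫ E.r₁).left ⁻¹ᵁ U) (t : T.left) :
    ∃ (j : Fin N) (T₂ : Over S) (w : T₂ ⟶ T) (k : T₂ ⟶ chartObj hU j),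
      IsOpenImmersion w.left ∧ t ∈ Set.range w.left ∧ k ≫ (C j).r = w ≫ ρ := by
  let g := ρ ≫ E.r₁
  let Y := pullDv (ρ ≫ E.r₂) M.D
  obtain ⟨Nc, hNc⟩ := (E.iff T g (ρ ≫ E.r₂)).1 ⟨ρ, rfl, rfl⟩
  rw [pull_dvCls (ρ ≫ E.r₂)] at hNc
  obtain ⟨W₀, htW₀, hW₀⟩ := exists_nhd_pull_eq_one Nc t
  obtain ⟨W, hW, htW, hle⟩ := exists_isAffineOpen_mem_and_subset (U := W₀) htW₀
  let T₁ := AbDual.ovr T W.ι
  let ι₁ : T₁ ⟶ T := AbDual.ovrHom T W.ι
  haveI : IsAffine T₁.left := hW
  have hcls : dvCls (pullDv ι₁ Y) = pull (PicF.XTmap f (ι₁ ≫ g)) (dvCls M.D) := by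
    have hW1 : pull ι₁.left Nc = 1 := by
      show pull W.ι Nc = 1
      rw [← T.left.homOfLE_ι (show W ≤ W₀ from hle), pull_comp, hW₀, map_one]
    rw [← pull_dvCls, hNc, map_mul, InvDescLib.pull_pull_of_eq (InvDescLib.isPullback_map ι₁).w, hW1, map_one,
      mul_one, InvDescLib.pull_XTmap_XTmap g ι₁ rfl]
  obtain ⟨c, hc, hunit⟩ := exists_coeff (g := ι₁ ≫ g) (hg := le_comp ι₁ hρ) hs (pullDv ι₁ Y) hcls
  obtain ⟨j, hj⟩ := hunit ⟨t, htW⟩
  let O := T₁.left.basicOpen (c j)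
  let T₂ := AbDual.ovr T₁ O.ι
  let ι₂ : T₂ ⟶ T₁ := AbDual.ovrHom T₁ O.ι
  haveI : IsAffine T₂.left := (isAffineOpen_top T₁.left).basicOpen (c j)
  haveI : IsLocallyNoetherian T₁.left := inferInstanceAs (IsLocallyNoetherian (W : Scheme.{u}))
  haveI : IsLocallyNoetherian T₂.left := inferInstanceAs (IsLocallyNoetherian (O : Scheme.{u}))
  have hu : IsUnit (ι₂.left.appTop (c j)) := by
    refine T₂.left.toRingedSpace.isUnit_of_isUnit_germ ⊤ _ fun x _ => ?_
    have hx : x ∈ T₂.left.basicOpen (ι₂.left.appTop (c j)) := by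
      rw [← Scheme.Hom.preimage_basicOpen_top]
      exact x.2
    exact (T₂.left.mem_basicOpen_top _ x).1 hx
  obtain ⟨u, hu'⟩ := hu
  let d : Fin N → Γ(T₂.left, ⊤) := fun i => ↑u⁻¹ * ι₂.left.appTop (c i)
  have hd : d j = 1 := by simp only [d, ← hu', Units.inv_mul]
  obtain ⟨k, hk, hkc⟩ := exists_chart_map hU j (ι₂ ≫ ι₁ ≫ g) (le_comp ι₂ (le_comp ι₁ hρ)) d hd
  refine ⟨j, T₂, ι₂ ≫ ι₁, k, inferInstanceAs (IsOpenImmersion (O.ι ≫ W.ι)), ⟨⟨⟨t, htW⟩, hj⟩, rfl⟩, ?_⟩
  have h₁ : IsRep s (ι₂ ≫ ι₁ ≫ g) (le_comp ι₂ (le_comp ι₁ hρ)) d (pullDv k (C j).Y) := by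
    have h := ((C j).rep.comp k).congr hk
    rw [funext hkc] at h
    exact h
  have h₂ : IsRep s (ι₂ ≫ ι₁ ≫ g) (le_comp ι₂ (le_comp ι₁ hρ)) d (pullDv ι₂ (pullDv ι₁ Y)) :=
    (hc.comp ι₂).smul (u⁻¹).isUnit
  have hY := h₁.ext h₂
  rw [← (C j).snd, pullDv_comp, pullDv_comp, pullDv_comp] at hY
  refine E.hom_ext ?_ ?_
  · rw [Category.assoc, (C j).fst, hk, Category.assoc, Category.assoc]
  · have := M.hom_ext hY
    simp only [Category.assoc] at this ⊢
    exact this

end Groth.Agent.PicSch
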