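import Groth.Agent.PicSchLib.RelCover
import Groth.Agent.S2335
import Groth.Agent.S14008

/-!
# The relation is flat and proper over the scheme of divisors
-/

set_option autoImplicit false
set_option backward.isDefEq.respectTransparency false
set_option backward.isDefEq.respectTransparency.types false
set_option linter.style.haveILetI false
set_option maxHeartbeats 1000000

universe u

open CategoryTheory CategoryTheory.Limits AlgebraicGeometry TopologicalSpace Opposite
open Groth.Agent.PicLib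

noncomputable section

namespace Groth.Agent.PicSch

variable {X S : Scheme.{u}} {f : X ⟶ S} {V : S.Opens} [IsProper f] [Flat f] [LocallyOfFinitePresentation f]
  [GeometricallyIntegral f] [Surjective f] {M : DivMod f V} (E : Rel M.Z (dvCls M.D))

omit [IsProper f] [Flat f] [LocallyOfFinitePresentation f] [GeometricallyIntegral f] [Surjective f] in
theorem Rel.lft_r₁ [LocallyOfFiniteType M.Z.hom] : LocallyOfFiniteType E.r₁.left := by
  haveI := E.closed
  rw [← pullback.lift_fst E.r₁.left E.r₂.left ((Over.w E.r₁).trans (Over.w E.r₂).symm)]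
  infer_instance

omit [IsProper f] [Flat f] [LocallyOfFinitePresentation f] [GeometricallyIntegral f] [Surjective f] in
theorem Rel.isSeparated_r₁ : IsSeparated E.r₁.left := by
  haveI := M.sep
  haveI := E.closed
  rw [← pullback.lift_fst E.r₁.left E.r₂.left ((Over.w E.r₁).trans (Over.w E.r₂).symm)]
  infer_instance

/-- A chart covering a given point of the relation. -/
theorem exists_chart_nhd (hgood : ∀ z : M.Z.left, ∃ U : M.Z.left.Opens, IsAffineOpen U ∧ z ∈ U ∧
      ∃ (N : ℕ) (s : Fin N → Γ(rep (dvCls M.D), PicF.XTproj f M.Z ⁻¹ᵁ U)), IsFrame s)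
    (ha : InvDescLib.UnivConst f) (p : E.R.left) :
    ∃ (T : Scheme.{u}) (o : T ⟶ E.R.left), IsOpenImmersion o ∧ p ∈ Set.range o ∧ Flat (o ≫ E.r₁.left) := by
  haveI := M.lN
  haveI := M.lft
  haveI := E.lft_r₁
  haveI : IsLocallyNoetherian E.R.left := LocallyOfFiniteType.isLocallyNoetherian E.r₁.left
  obtain ⟨U, hU, hpU, N, s, hs⟩ := hgood (E.r₁.left p)
  let C := fun j => Classical.choice (nonempty_chartMap (E := E) (hU := hU) hs j)
  obtain ⟨W, hW, hpW, hle⟩ := exists_isAffineOpen_mem_and_subset (U := E.r₁.left ⁻¹ᵁ U) hpU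
  let T := AbDual.ovr E.R W.ι
  let ρ : T ⟶ E.R := AbDual.ovrHom E.R W.ι
  haveI : IsAffine T.left := hW
  haveI : IsLocallyNoetherian T.left := inferInstanceAs (IsLocallyNoetherian (W : Scheme.{u}))
  obtain ⟨j, T₂, w, k, hw, ht, hk⟩ := exists_chart hs C ρ (fun y _ => hle y.2) ⟨p, hpW⟩
  let o := w ≫ ρ
  haveI : IsOpenImmersion o.left := inferInstanceAs (IsOpenImmersion (w.left ≫ W.ι))
  obtain ⟨z, hz⟩ := ht
  refine ⟨T₂.left, o.left, inferInstance, ⟨z, by
    show W.ι (w.left z) = p
    rw [hz]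
    rfl⟩, ?_⟩
  let P : (chartObj hU j).left.Opens := (C j).r.left ⁻¹ᵁ o.left.opensRange
  let TP := AbDual.ovr (chartObj hU j) P.ι
  have hl : Set.range (P.ι ≫ (C j).r.left) ⊆ Set.range o.left := by
    rintro _ ⟨a, rfl⟩
    exact a.2
  let l := IsOpenImmersion.lift o.left (P.ι ≫ (C j).r.left) hl
  have hl' : l ≫ o.left = P.ι ≫ (C j).r.left := IsOpenImmersion.lift_fac _ _ _
  have hlk : l ≫ k.left = P.ι := by
    let l' : TP ⟶ T₂ := Over.homMk l (by
      rw [← Over.w o, reassoc_of% hl', Over.w]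
      rfl)
    have e : (l' ≫ k) ≫ (C j).r = AbDual.ovrHom (chartObj hU j) P.ι ≫ (C j).r := by
      rw [Category.assoc, hk]
      exact Over.OverMorphism.ext hl'
    exact congrArg CommaMorphism.left (chartMap_hom_ext hs ha (C j) e)
  have hk' : k.left ≫ (C j).r.left = o.left := congrArg CommaMorphism.left hk
  have hkP : Set.range k.left ⊆ Set.range P.ι := by
    rw [Scheme.Opens.range_ι]
    rintro _ ⟨a, rfl⟩
    exact ⟨a, by rw [← Scheme.Hom.comp_apply, hk']⟩
  let k₀ := IsOpenImmersion.lift P.ι k.left hkP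
  have hk₀ : k₀ ≫ P.ι = k.left := IsOpenImmersion.lift_fac _ _ _
  have h₁ : k₀ ≫ l = 𝟙 _ := by rw [← cancel_mono o.left, Category.assoc, hl', reassoc_of% hk₀, hk', Category.id_comp]
  have h₂ : l ≫ k₀ = 𝟙 _ := by rw [← cancel_mono P.ι, Category.assoc, hk₀, hlk]; simp
  haveI : IsIso k₀ := ⟨l, h₁, h₂⟩
  haveI : IsOpenImmersion k.left := hk₀ ▸ inferInstance
  haveI := flat_chartπ hU j
  have e : o.left ≫ E.r₁.left = k.left ≫ (chartπ hU j).left := by
    rw [← hk', Category.assoc, ← (C j).fst]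
    rfl
  rw [e]
  infer_instance

theorem flat_r₁ (ha : InvDescLib.UnivConst f) : Flat E.r₁.left := by
  haveI := M.lN
  choose T o ho hp hflat using exists_chart_nhd E (fun z => exists_isFrame _ M.good z) ha
  let 𝒰 : E.R.left.OpenCover :=
    { I₀ := E.R.left
      X := T
      f := o
      mem₀ := by
        rw [Scheme.presieve₀_mem_precoverage_iff]
        exact ⟨fun x => ⟨x, hp x⟩, ho⟩ }
  exact IsZariskiLocalAtSource.of_openCover 𝒰 hflat

theorem quasiCompact_r₁ : QuasiCompact E.r₁.left := by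
  haveI := M.lN
  haveI := M.lft
  haveI := E.lft_r₁
  haveI : IsLocallyNoetherian E.R.left := LocallyOfFiniteType.isLocallyNoetherian E.r₁.left
  choose U hU hz N s hs using fun z => exists_isFrame (dvCls M.D) M.good z
  refine (HasAffineProperty.iff_of_iSup_eq_top (P := @QuasiCompact) (fun z => (⟨U z, hU z⟩ : M.Z.left.affineOpens))
    (Opens.ext (Set.eq_univ_of_forall fun z => ?_))).2 fun z => ?_
  · exact Opens.mem_iSup.2 ⟨z, hz z⟩
  let C := fun j => Classical.choice (nonempty_chartMap (E := E) (hU := hU z) (hs z) j)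
  refine isCompact_iff_compactSpace.1 (?_ : IsCompact ((E.r₁.left ⁻¹ᵁ U z : E.R.left.Opens) : Set E.R.left))
  have e : ((E.r₁.left ⁻¹ᵁ U z : E.R.left.Opens) : Set E.R.left) = ⋃ j, Set.range (C j).r.left := by
    ext p
    rw [Set.mem_iUnion]
    constructor
    · intro hp
      obtain ⟨W, hW, hpW, hle⟩ := exists_isAffineOpen_mem_and_subset (U := E.r₁.left ⁻¹ᵁ U z) hp
      let T := AbDual.ovr E.R W.ι
      haveI : IsAffine T.left := hW
      haveI : IsLocallyNoetherian T.left := inferInstanceAs (IsLocallyNoetherian (W : Scheme.{u}))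
      obtain ⟨j, T₂, w, k, -, ⟨a, ha⟩, hk⟩ :=
        exists_chart (hs z) C (AbDual.ovrHom E.R W.ι : T ⟶ E.R) (fun y _ => hle y.2) ⟨p, hpW⟩
      refine ⟨j, k.left a, ?_⟩
      rw [← Scheme.Hom.comp_apply, show k.left ≫ (C j).r.left = w.left ≫ W.ι from congrArg CommaMorphism.left hk,
        Scheme.Hom.comp_apply, ha]
      rfl
    · rintro ⟨j, a, rfl⟩
      show E.r₁.left ((C j).r.left a) ∈ U z
      rw [← Scheme.Hom.comp_apply,
        show (C j).r.left ≫ E.r₁.left = (chartπ (hU z) j).left from congrArg CommaMorphism.left (C j).fst]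
      exact top_le_chartπ (hU z) j trivial
  rw [e]
  exact isCompact_iUnion fun j => isCompact_range (C j).r.left.continuous

/-- The valuative lift. -/
theorem exists_lift (A : Type u) [CommRing A] [IsDomain A] [IsDiscreteValuationRing A]
    (x : Spec (CommRingCat.of (FractionRing A)) ⟶ E.R.left) (y : Spec (CommRingCat.of A) ⟶ M.Z.left)
    (hxy : x ≫ E.r₁.left = Spec.map (CommRingCat.ofHom (algebraMap A (FractionRing A))) ≫ y) :
    ∃ l : Spec (CommRingCat.of A) ⟶ E.R.left, l ≫ E.r₁.left = y ∧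
      Spec.map (CommRingCat.ofHom (algebraMap A (FractionRing A))) ≫ l = x := by
  haveI := M.lN
  let K := FractionRing A
  let ι := Spec.map (CommRingCat.ofHom (algebraMap A K))
  obtain ⟨U, hU, hzU, N, s, hs⟩ := exists_isFrame (dvCls M.D) M.good (y (IsLocalRing.closedPoint A))
  let C := fun j => Classical.choice (nonempty_chartMap (E := E) (hU := hU) hs j)
  let TA := AbDual.ovr M.Z y
  let TK := AbDual.ovr TA ι
  let gA : TA ⟶ M.Z := AbDual.ovrHom M.Z y
  let i : TK ⟶ TA := AbDual.ovrHom TA ι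
  let ρ : TK ⟶ E.R := Over.homMk x (by
    show x ≫ E.R.hom = ι ≫ y ≫ M.Z.hom
    rw [← Over.w E.r₁, reassoc_of% hxy])
  have hρ : ρ ≫ E.r₁ = i ≫ gA := Over.OverMorphism.ext hxy
  haveI : IsAffine TK.left := inferInstanceAs (IsAffine (Spec (CommRingCat.of K)))
  haveI : IsAffine TA.left := inferInstanceAs (IsAffine (Spec (CommRingCat.of A)))
  haveI : IsLocallyNoetherian TK.left := inferInstanceAs (IsLocallyNoetherian (Spec (CommRingCat.of K)))
  have hA : ⊤ ≤ gA.left ⁻¹ᵁ U := fun p _ => by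
    exact ((IsLocalRing.specializes_closedPoint p).map y.continuous).mem_open U.2 hzU
  obtain ⟨Nc, hNc⟩ := (E.iff TK (i ≫ gA) (ρ ≫ E.r₂)).1 ⟨ρ, hρ, rfl⟩
  haveI : IsLocalRing (CommRingCat.of K) := inferInstanceAs (IsLocalRing K)
  have hN1 : Nc = 1 := eq_one_of_local (R := CommRingCat.of K) Nc
  rw [pull_dvCls (ρ ≫ E.r₂), hN1, map_one, mul_one] at hNc
  obtain ⟨c, hc, hunit⟩ := exists_coeff (g := i ≫ gA) (hg := le_comp i hA) hs (pullDv (ρ ≫ E.r₂) M.D) hNc
  let σ := (Scheme.ΓSpecIso (CommRingCat.of K))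
  let x₀ : Fin N → K := fun n => σ.hom (c n)
  obtain ⟨⟨d, hd⟩, hb⟩ := IsLocalization.exist_integer_multiples_of_finite (nonZeroDivisors A) x₀
  choose b hb using hb
  obtain ⟨j₀, hj₀⟩ : ∃ j₀, x₀ j₀ ≠ 0 := by
    obtain ⟨n, hn⟩ := hunit (IsLocalRing.closedPoint K)
    refine ⟨n, fun h => ?_⟩
    have : c n = 0 := (ConcreteCategory.bijective_of_isIso σ.hom).1 (h.trans (map_zero _).symm)
    rw [this, Scheme.basicOpen_zero] at hn
    exact hn
  obtain ⟨j, -, hj⟩ := Finset.exists_min_image Finset.univ (fun n => IsDiscreteValuationRing.addVal A (b n))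
    ⟨j₀, Finset.mem_univ _⟩
  have hdvd : ∀ n, b j ∣ b n := fun n => IsDiscreteValuationRing.addVal_le_iff_dvd.1 (hj n (Finset.mem_univ _))
  have hd0 : algebraMap A K d ≠ 0 := fun h => nonZeroDivisors.ne_zero hd
    ((map_eq_zero_iff _ (IsFractionRing.injective A K)).1 h)
  have hb' : ∀ n, algebraMap A K (b n) = algebraMap A K d * x₀ n := fun n => by
    rw [hb n]
    exact Algebra.smul_def _ _
  have hbj : b j ≠ 0 := fun h => by
    obtain ⟨e, he⟩ := hdvd j₀
    have h' := hb' j₀
    rw [he, h, zero_mul, map_zero] at h'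
    exact mul_ne_zero hd0 hj₀ h'.symm
  choose e he using hdvd
  have hej : e j = 1 := mul_left_cancel₀ hbj ((he j).symm.trans (mul_one _).symm)
  have hxj : x₀ j ≠ 0 := fun h => hbj ((map_eq_zero_iff _ (IsFractionRing.injective A K)).1 (by rw [hb', h, mul_zero]))
  have hscale : ∀ n, algebraMap A K (e n) = (x₀ j)⁻¹ * x₀ n := fun n => by
    have h := hb' n
    rw [he n, map_mul, hb', mul_assoc] at h
    rw [← mul_left_cancel₀ hd0 h, inv_mul_cancel_left₀ hxj]
  let cA : Fin N → Γ(TA.left, ⊤) := fun n => (Scheme.ΓSpecIso (CommRingCat.of A)).inv (e n)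
  obtain ⟨k, hk, hkc⟩ := exists_chart_map hU j gA hA cA (by simp only [cA, hej]; exact map_one _)
  let l := k ≫ (C j).r
  refine ⟨l.left, congrArg CommaMorphism.left (show l ≫ E.r₁ = gA by rw [Category.assoc, (C j).fst, hk]), ?_⟩
  suffices h : i ≫ l = ρ from congrArg CommaMorphism.left h
  refine E.hom_ext ?_ (M.hom_ext ?_)
  · rw [hρ, Category.assoc, Category.assoc, (C j).fst, hk]
  · have h₁ : IsRep s (i ≫ gA) (le_comp i hA) (fun n => σ.inv (algebraMap A K (e n)))
        (pullDv i (pullDv k (C j).Y)) := by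
      have h := ((C j).rep.comp k).congr hk
      rw [funext hkc] at h
      have h' := h.comp i
      refine (congrArg (IsRep s (i ≫ gA) (le_comp i hA) · _) (funext fun n => ?_)).mp h'
      exact (ConcreteCategory.congr_hom (Scheme.ΓSpecIso_inv_naturality (CommRingCat.ofHom (algebraMap A K))) (e n)).symm
    have hu : IsUnit (σ.inv (x₀ j)⁻¹) := (isUnit_iff_ne_zero.2 (inv_ne_zero hxj)).map _
    have h₂ := hc.smul hu
    have hval : (fun n => (show Γ(TK.left, ⊤) from σ.inv (x₀ j)⁻¹) * c n) = fun n => σ.inv (algebraMap A K (e n)) :=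
      funext fun n => by
      rw [hscale, map_mul, Iso.hom_inv_id_apply]
    rw [hval] at h₂
    have hY := h₁.ext h₂
    rw [← (C j).snd, pullDv_comp, pullDv_comp] at hY
    simpa only [l, Category.assoc] using hY

theorem isProper_r₁ : IsProper E.r₁.left := by
  haveI := M.lN
  haveI := M.lft
  haveI := E.lft_r₁
  haveI := quasiCompact_r₁ E
  haveI := E.isSeparated_r₁
  refine (S2335.result E.r₁.left).2 fun A _ _ _ x y hxy => ?_
  obtain ⟨l, hl, hl'⟩ := exists_lift E A x y hxy
  refine ⟨l, ⟨hl, hl'⟩, ?_⟩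
  rintro l' ⟨h₁, h₂⟩
  let ι := Spec.map (CommRingCat.ofHom (algebraMap A (FractionRing A)))
  haveI : IsDominant ι := ⟨by
    show DenseRange (PrimeSpectrum.comap (algebraMap A (FractionRing A)))
    exact PrimeSpectrum.denseRange_comap_iff_ker_le_nilRadical _ |>.2
      (by rw [(RingHom.injective_iff_ker_eq_bot _).1 (IsFractionRing.injective A (FractionRing A))]; exact bot_le)⟩
  exact ext_of_isDominant_of_isSeparated E.r₁.left (h₁.trans hl.symm) ι (h₂.trans hl'.symm)

theorem lfp_r₁ : LocallyOfFinitePresentation E.r₁.left := by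
  haveI := M.lN
  haveI := M.lft
  haveI := E.lft_r₁
  exact S14008.lfp_of_lft _

end Groth.Agent.PicSch
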