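import Groth.Agent.PicSchLib.Sheaf
import Groth.Prelude.Def_PicRel2

/-!
# A scheme representing the functor represents the sheafified relative Picard functor
-/

set_option autoImplicit false
set_option backward.isDefEq.respectTransparency false
set_option backward.isDefEq.respectTransparency.types false
set_option linter.style.haveILetI false
set_option maxHeartbeats 1000000

universe u

open CategoryTheory CategoryTheory.Limits AlgebraicGeometry TopologicalSpace Opposite
open Groth.Agent.PicLib Groth.Agent.SchDesc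

noncomputable section

namespace Groth.Agent.PicSch

variable {X S : Scheme.{u}} {f : X ⟶ S} {P : Over S}


open scoped Classical in
def phi (R : (picFun f).RepresentableBy P) (T : Over S) (c : PicF.Cl (PicF.XT f T)) : T ⟶ P :=
  if h : PicF.IsInvertibleCl c then R.homEquiv.symm (ofEl (cl (InvDescLib.exists_toCl_eq h).choose))
  else R.homEquiv.symm (ofEl (cl 1))

theorem phi_toCl (R : (picFun f).RepresentableBy P) (T : Over S) (a : Pic (PicF.XT f T)) :
    phi R T (AbDualLib.toCl a) = R.homEquiv.symm (ofEl (cl a)) := by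
  rw [phi, dif_pos (InvDescLib.isInvertibleCl_toCl a)]
  congr 3
  exact AbDualLib.toCl_injective (InvDescLib.exists_toCl_eq (InvDescLib.isInvertibleCl_toCl a)).choose_spec

/-- The element of a morphism. -/
def elOf (R : (picFun f).RepresentableBy P) {T : Over S} (g : T ⟶ P) : El f T := toEl (R.homEquiv g)

theorem elOf_injective (R : (picFun f).RepresentableBy P) {T : Over S} :
    Function.Injective (elOf R (T := T)) := toEl_injective.comp R.homEquiv.injective

theorem elOf_comp (R : (picFun f).RepresentableBy P) {T T' : Over S} (h : T' ⟶ T) (g : T ⟶ P) :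
    elOf R (h ≫ g) = mapEl h (elOf R g) := by
  rw [elOf, R.homEquiv_comp, toEl_map]
  rfl

theorem elOf_phi (R : (picFun f).RepresentableBy P) {T : Over S} (a : Pic (PicF.XT f T)) :
    elOf R (phi R T (AbDualLib.toCl a)) = cl a := by
  rw [elOf, phi_toCl, Equiv.apply_symm_apply, toEl_ofEl]

theorem isRelPic_phi [Flat f] [LocallyOfFinitePresentation f] [Surjective f] (ha : InvDescLib.UnivConst f)
    (hsec : ∀ s : S, ∃ (S' : Scheme.{u}) (g : S' ⟶ S), Etale g ∧ s ∈ Set.range g ∧ ∃ h : S' ⟶ X, h ≫ f = g)
    (R : (picFun f).RepresentableBy P) : PicRel.IsRelPic f P (phi R) := by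
  refine ⟨fun T T' g c hc => ?_, fun T g => ?_, fun T c c' hc hc' h => ?_⟩
  · obtain ⟨a, rfl⟩ := InvDescLib.exists_toCl_eq hc
    apply elOf_injective R
    rw [← AbDualLib.toCl_pull, elOf_phi, elOf_comp, elOf_phi, mapEl_cl]
  · choose S' v hv hs h hh using fun t : T.left => hsec (T.hom t)
    let U : T.left → T.left.Etale := fun t =>
      haveI := hv t
      Scheme.Etale.mk (pullback.fst T.hom (v t))
    refine ⟨T.left, U, fun t => ?_, fun t => ?_⟩
    · obtain ⟨s, hs⟩ := hs t
      obtain ⟨p, hp, -⟩ := Scheme.exists_preimage_of_isPullback (IsPullback.of_hasPullback T.hom (v t)) t s hs.symm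
      exact ⟨t, p, hp⟩
    · let Y := PicRel.ovr T (U t)
      let y : Y.left ⟶ X := pullback.snd T.hom (v t) ≫ h t
      have hy : y ≫ f = Y.hom := by
        show (pullback.snd T.hom (v t) ≫ h t) ≫ f = pullback.fst T.hom (v t) ≫ T.hom
        rw [Category.assoc, hh t, pullback.condition]
      refine ⟨AbDualLib.toCl (pull (PicF.XTmap f (pLift (PicRel.ovrHom T (U t)) y hy)) (elOf R g).1),
        InvDescLib.isInvertibleCl_toCl _, elOf_injective R ?_⟩
      rw [elOf_phi, elOf_comp, mapEl_eq_cl _ _ y hy]
  · obtain ⟨a, rfl⟩ := InvDescLib.exists_toCl_eq hc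
    obtain ⟨b, rfl⟩ := InvDescLib.exists_toCl_eq hc'
    have h' := congrArg (elOf R) h
    rw [elOf_phi, elOf_phi] at h'
    obtain ⟨N, hN⟩ := (cl_eq_iff ha).1 h'
    obtain ⟨W, hW, hWN⟩ := exists_cover_pull_eq_one N
    let U : T.left → T.left.Etale := fun t => Scheme.Etale.mk (W t).ι
    refine ⟨T.left, U, fun t => ⟨t, (⟨t, hW t⟩ : W t), rfl⟩, fun t => ?_⟩
    rw [← AbDualLib.toCl_pull, ← AbDualLib.toCl_pull, hN, map_mul,
      InvDescLib.pull_pull_of_eq (InvDescLib.isPullback_map (PicRel.ovrHom T (U t))).w]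
    have h1 : pull (PicRel.ovrHom T (U t)).left N = 1 := hWN t
    rw [h1, map_one, mul_one]

end Groth.Agent.PicSch
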