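import Groth.Agent.PicSchLib.SecLemmas
import Groth.Agent.PicSchLib.DivMod2
import Groth.Agent.PicSchLib.Frame

/-!
# Divisors of a class through their coefficients in a frame
-/

set_option autoImplicit false
set_option backward.isDefEq.respectTransparency false
set_option backward.isDefEq.respectTransparency.types false
set_option linter.style.haveILetI false
set_option maxHeartbeats 1000000

universe u

open CategoryTheory CategoryTheory.Limits AlgebraicGeometry TopologicalSpace Opposite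
open Groth.Agent.PicLib Groth.Agent.ParaFLib Groth.Agent.PullbackMod

noncomputable section

namespace Groth.Agent.PicSch

variable {X S : Scheme.{u}} {f : X ⟶ S} {Z : Over S} {α : Pic (PicF.XT f Z)} {U : Z.left.Opens} {N : ℕ}
  {T T' : Over S}

variable (α) in
/-- The module of the class along a point. -/
abbrev Lg (g : T ⟶ Z) : (PicF.XT f T).Modules := (Scheme.Modules.pullback (PicF.XTmap f g)).obj (rep α)

theorem isInvertible_Lg (g : T ⟶ Z) : PicF.IsInvertible (Lg α g) :=
  AmpleLib.isInvertible_pullback _ (isInvertible_rep α)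

theorem cls_Lg (g : T ⟶ Z) : cls (isInvertible_Lg (α := α) g) = pull (PicF.XTmap f g) α := by
  conv_rhs => rw [← cls_rep α, pull_cls]

theorem le_top' (g : T ⟶ Z) (hg : ⊤ ≤ g.left ⁻¹ᵁ U) :
    (⊤ : (PicF.XT f T).Opens) ≤ PicF.XTmap f g ⁻¹ᵁ (PicF.XTproj f Z ⁻¹ᵁ U) :=
  le_preimage_XTmap f g hg

/-- A section of a class from coefficients. -/
def sect (s : Fin N → Γ(rep α, PicF.XTproj f Z ⁻¹ᵁ U)) (g : T ⟶ Z) (hg : ⊤ ≤ g.left ⁻¹ᵁ U)
    (c : Fin N → Γ(T.left, ⊤)) : Γ(Lg α g, ⊤) :=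
  ∑ i, (PicF.XTproj f T).appTop (c i) • pullMap (PicF.XTmap f g) (rep α) (le_top' g hg) (s i)

/-- Sections restricting to bases. -/
def IsFrame (s : Fin N → Γ(rep α, PicF.XTproj f Z ⁻¹ᵁ U)) : Prop :=
  ∀ (T : Over S) (g : T ⟶ Z) [IsAffine T.left] (hg : ⊤ ≤ g.left ⁻¹ᵁ U), Function.Bijective (sect s g hg)

theorem exists_isFrame [IsProper f] [Flat f] [LocallyOfFinitePresentation f] [IsLocallyNoetherian Z.left]
    (α : Pic (PicF.XT f Z)) (hgood : goodSet α = Set.univ) (z : Z.left) :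
    ∃ U : Z.left.Opens, IsAffineOpen U ∧ z ∈ U ∧
      ∃ (N : ℕ) (s : Fin N → Γ(rep α, PicF.XTproj f Z ⁻¹ᵁ U)), IsFrame s := by
  obtain ⟨U, hU, hz, N, s, hs⟩ := exists_frame f α hgood z
  exact ⟨U, hU, hz, N, s, fun T g _ hg => hs T g hg⟩

variable {s : Fin N → Γ(rep α, PicF.XTproj f Z ⁻¹ᵁ U)} {g : T ⟶ Z} {hg : ⊤ ≤ g.left ⁻¹ᵁ U}

theorem sect_smul (u : Γ(T.left, ⊤)) (c : Fin N → Γ(T.left, ⊤)) :
    sect s g hg (fun i => u * c i) = (PicF.XTproj f T).appTop u • sect s g hg c := by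
  rw [sect, sect, Finset.smul_sum]
  exact Finset.sum_congr rfl fun i _ => by rw [map_mul, mul_smul]

theorem sect_zero : sect s g hg 0 = 0 := by
  simp only [sect, Pi.zero_apply, map_zero, zero_smul, Finset.sum_const_zero]

variable (g) in
/-- The module along a composite. -/
def LgIso (h : T' ⟶ T) : (Scheme.Modules.pullback (PicF.XTmap f h)).obj (Lg α g) ≅ Lg α (h ≫ g) :=
  (Scheme.Modules.pullbackComp (PicF.XTmap f h) (PicF.XTmap f g)).app (rep α) ≪≫
    (Scheme.Modules.pullbackCongr (XTmap_comp' g h)).app (rep α)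

theorem le_comp (h : T' ⟶ T) (hg : ⊤ ≤ g.left ⁻¹ᵁ U) : ⊤ ≤ (h ≫ g).left ⁻¹ᵁ U := fun x _ => hg trivial

theorem LgIso_sect (h : T' ⟶ T) (c : Fin N → Γ(T.left, ⊤)) :
    (LgIso g h).hom.app ⊤ (pullMap (PicF.XTmap f h) (Lg α g) (le_refl (PicF.XTmap f h ⁻¹ᵁ ⊤)) (sect s g hg c)) =
      sect s (h ≫ g) (le_comp h hg) (fun i => h.left.appTop (c i)) := by
  rw [sect, sect, map_sum, map_sum]
  refine Finset.sum_congr rfl fun i _ => ?_
  rw [pullMap_smul, Scheme.Modules.Hom.app_smul]
  congr 1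
  · rw [← Scheme.Hom.app_eq_appLE]
    show (PicF.XTmap f h).appTop ((PicF.XTproj f T).appTop (c i)) = (PicF.XTproj f T').appTop (h.left.appTop (c i))
    rw [← ConcreteCategory.comp_apply, ← Scheme.Hom.comp_appTop, (InvDescLib.isPullback_map (f := f) h).w,
      Scheme.Hom.comp_appTop]
    rfl
  · exact FCompl.pullMap_comp (XTmap_comp' g h) (rep α) (le_top' g hg) le_rfl _ (s i)

variable (s) in
/-- The divisor of a coefficient vector. -/
def IsRep (g : T ⟶ Z) (hg : ⊤ ≤ g.left ⁻¹ᵁ U) (c : Fin N → Γ(T.left, ⊤)) (Y : Dv f T) : Prop :=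
  AbelMapLib.IsCanSect Y.1 (Lg α g) (sect s g hg c)

variable {c c' : Fin N → Γ(T.left, ⊤)} {Y Y' : Dv f T}

theorem IsRep.comp (hY : IsRep s g hg c Y) (h : T' ⟶ T) :
    IsRep s (h ≫ g) (le_comp h hg) (fun i => h.left.appTop (c i)) (pullDv h Y) := by
  rw [IsRep, ← LgIso_sect (hg := hg)]
  exact isCanSect_iso (LgIso g h) (isCanSect_comap (PicF.XTmap f h) (isInvertible_Lg g) hY)

theorem IsRep.congr {g' : T ⟶ Z} (e : g = g') (hY : IsRep s g hg c Y) : IsRep s g' (e ▸ hg) c Y := by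
  subst e
  exact hY

theorem IsRep.ext (hY : IsRep s g hg c Y) (hY' : IsRep s g hg c Y') : Y = Y' :=
  Subtype.ext (isCanSect_unique (isInvertible_Lg g) hY hY')

theorem IsRep.smul (hY : IsRep s g hg c Y) {u : Γ(T.left, ⊤)} (hu : IsUnit u) :
    IsRep s g hg (fun i => u * c i) Y := by
  rw [IsRep, sect_smul]
  exact isCanSect_smul hY (hu.map _)

theorem IsRep.exists_unit [IsAffine T.left] (hs : IsFrame s) (ha : InvDescLib.UnivConst f) (hY : IsRep s g hg c Y)
    (hY' : IsRep s g hg c' Y) : ∃ u, IsUnit u ∧ ∀ i, c' i = u * c i := by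
  obtain ⟨v, hv, hvs⟩ := exists_unit_of_isCanSect Y.2.1 hY hY'
  haveI : IsIso ((PicF.XTproj f T).app ⊤) := ha T ⊤
  obtain ⟨u, rfl⟩ := (ConcreteCategory.bijective_of_isIso ((PicF.XTproj f T).app ⊤)).2 v
  refine ⟨u, (isUnit_map_iff (asIso ((PicF.XTproj f T).app ⊤)).commRingCatIsoToRingEquiv u).1 hv, fun i => ?_⟩
  rw [show c' = fun i => u * c i from (hs T g hg).1 (hvs.symm.trans (sect_smul u c).symm)]

variable [IsProper f] [Flat f] [LocallyOfFinitePresentation f] [GeometricallyIntegral f] [Surjective f]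

theorem sect_field_ne_zero {t : T.left} (hs : IsFrame s) (hc : ∃ i, t ∈ T.left.basicOpen (c i)) :
    sect s (AbDual.ovrHom T (T.left.fromSpecResidueField t) ≫ g) (le_comp _ hg)
      (fun i => (T.left.fromSpecResidueField t).appTop (c i)) ≠ 0 := by
  obtain ⟨i, hi⟩ := hc
  intro h
  haveI : IsAffine (AbDual.ovr T (T.left.fromSpecResidueField t)).left :=
    inferInstanceAs (IsAffine (Spec (T.left.residueField t)))
  have h0 := (hs _ _ (le_comp _ hg)).1 (h.trans sect_zero.symm)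
  have h1 : (T.left.fromSpecResidueField t).appTop (c i) = 0 := congrFun h0 i
  have h2 : IsUnit ((T.left.fromSpecResidueField t).appTop (c i)) := by
    let p : Spec (T.left.residueField t) := IsLocalRing.closedPoint _
    have hp : p ∈ (Spec (T.left.residueField t)).basicOpen ((T.left.fromSpecResidueField t).appTop (c i)) := by
      rw [← Scheme.Hom.preimage_basicOpen_top]
      show T.left.fromSpecResidueField t p ∈ T.left.basicOpen (c i)
      rw [Scheme.fromSpecResidueField_apply]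
      exact hi
    rw [h1, Scheme.basicOpen_zero] at hp
    exact hp.elim
  rw [h1] at h2
  exact not_isUnit_zero h2

theorem fibGen_sect (hs : IsFrame s) (hc : ∀ t, ∃ i, t ∈ T.left.basicOpen (c i)) :
    FibGen T (Lg α g) (sect s g hg c) := by
  intro t
  let T₁ := AbDual.ovr T (T.left.fromSpecResidueField t)
  let j : T₁ ⟶ T := AbDual.ovrHom T (T.left.fromSpecResidueField t)
  haveI : GeometricallyIntegral (PicF.XTproj f T₁) := inferInstanceAs (GeometricallyIntegral (pullback.snd f T₁.hom))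
  haveI : IsIntegral (Spec (T.left.residueField t)) := inferInstance
  haveI : IsIntegral T₁.left := inferInstanceAs (IsIntegral (Spec (T.left.residueField t)))
  haveI : Subsingleton T₁.left := inferInstanceAs (Subsingleton (Spec (T.left.residueField t)))
  haveI : IsIntegral (PicF.XT f T₁) := GeometricallyIntegral.isIntegral_of_subsingleton (PicF.XTproj f T₁)
  have hne : pullMap (PicF.XTmap f j) (Lg α g) (le_refl (PicF.XTmap f j ⁻¹ᵁ ⊤)) (sect s g hg c) ≠ 0 := fun h0 =>
    sect_field_ne_zero (g := g) (hg := hg) hs (hc t) ((LgIso_sect j c).symm.trans (by rw [h0, map_zero]))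
  obtain ⟨y, hy, hgen⟩ := exists_gen_of_ne_zero (AmpleLib.isInvertible_pullback _ (isInvertible_Lg g)) hne
  refine ⟨PicF.XTmap f j y, (AmpleLib.mem_genLocus_iff (isInvertible_Lg g)).2 ?_, ?_⟩
  · rw [AmpleLib.sec_secHom]
    exact gen_of_gen_pullMap _ (isInvertible_Lg g) le_rfl _ hy hgen
  · rw [← Scheme.Hom.comp_apply, (InvDescLib.isPullback_map (f := f) j).w, Scheme.Hom.comp_apply]
    exact Scheme.fromSpecResidueField_apply _ _

/-- Coefficients not vanishing simultaneously give a divisor. -/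
theorem exists_isRep (hs : IsFrame s) (hc : ∀ t, ∃ i, t ∈ T.left.basicOpen (c i)) :
    ∃ Y : Dv f T, IsRep s g hg c Y ∧ dvCls Y = pull (PicF.XTmap f g) α := by
  obtain ⟨Y, hY, hcls⟩ := exists_dv_of_section (isInvertible_Lg g) (fibGen_sect hs hc)
  exact ⟨Y, hY, hcls.trans (cls_Lg g)⟩

/-- A divisor of the class has coefficients. -/
theorem exists_coeff [IsAffine T.left] (hs : IsFrame s) (Y : Dv f T) (hY : dvCls Y = pull (PicF.XTmap f g) α) :
    ∃ c, IsRep s g hg c Y ∧ ∀ t, ∃ i, t ∈ T.left.basicOpen (c i) := by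
  have hI := isInvertible_idealMod_dv Y
  obtain ⟨e⟩ : Nonempty (CohB1.tensorMod (Lg α g) (ClSub.idealMod Y.1) ≅ Coh.structureModule _) := by
    rw [← cls_eq_one (AmpleLib.isInvertible_tensor (isInvertible_Lg g) hI), cls_tensor (isInvertible_Lg g) hI, cls_Lg,
      ← hY, dvCls, inv_mul_cancel]
  obtain ⟨σ, hσ⟩ := AbelMapLib.exists_canSect Y.1 (isInvertible_Lg g) hI e
  obtain ⟨c, rfl⟩ := (hs T g hg).2 σ
  refine ⟨c, hσ, fun t => ?_⟩
  by_contra hc
  push Not at hc
  let T₁ := AbDual.ovr T (T.left.fromSpecResidueField t)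
  let j : T₁ ⟶ T := AbDual.ovrHom T (T.left.fromSpecResidueField t)
  haveI : Surjective (PicF.XTproj f T₁) := inferInstanceAs (Surjective (pullback.snd f T₁.hom))
  haveI : Nonempty (PicF.XT f T₁) := by
    obtain ⟨x, -⟩ := (PicF.XTproj f T₁).surjective (IsLocalRing.closedPoint (T.left.residueField t))
    exact ⟨x⟩
  refine ne_zero_of_isCanSect (pullDv j Y).2.1 (IsRep.comp hσ j) ?_
  rw [← sect_zero (s := s) (g := j ≫ g) (hg := le_comp j hg)]
  refine congrArg _ (funext fun i => ?_)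
  show (T.left.fromSpecResidueField t).appTop (c i) = 0
  have hb : (Spec (T.left.residueField t)).basicOpen ((T.left.fromSpecResidueField t).appTop (c i)) = ⊥ := by
    rw [← Scheme.Hom.preimage_basicOpen_top, eq_bot_iff]
    intro p hp
    have h : T.left.fromSpecResidueField t p ∈ T.left.basicOpen (c i) := hp
    rw [Scheme.fromSpecResidueField_apply] at h
    exact (hc i h).elim
  exact (basicOpen_eq_bot_iff _).1 hb

end Groth.Agent.PicSch
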