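import Groth.Agent.PicSchLib.Cover
import Groth.Agent.PicSchLib.RelPic
import Groth.Agent.OverRep.Main

/-!
# Representability of the sheafified relative Picard functor
-/

set_option autoImplicit false
set_option backward.isDefEq.respectTransparency false
set_option backward.isDefEq.respectTransparency.types false
set_option linter.style.haveILetI false
set_option maxHeartbeats 1000000

universe u

open CategoryTheory CategoryTheory.Limits AlgebraicGeometry TopologicalSpace Opposite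
open Groth.Agent.PicLib

noncomputable section

namespace Groth.Agent.PicSch

variable {X S : Scheme.{u}} (f : X ⟶ S) [IsLocallyNoetherian S] [IsProper f] [Flat f]
  [LocallyOfFinitePresentation f] [GeometricallyIntegral f] [Surjective f]

/-- The quotient pieces of all affine opens. -/
structure Atlas where
  /-- The divisors over an open. -/
  M : ∀ V : S.affineOpens, DivMod f V.1
  /-- The relations. -/
  E : ∀ V : S.affineOpens, Rel (M V).Z (dvCls (M V).D)
  /-- The quotients. -/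
  P : ∀ (V : S.affineOpens) (a : (M V).ι), Piece (M V) a

theorem isNoetherian_affine (V : S.affineOpens) : IsNoetherian (V.1 : Scheme.{u}) :=
  haveI : IsAffine (V.1 : Scheme.{u}) := V.2
  { }

variable {f}

theorem nonempty_atlas (ha : InvDescLib.UnivConst f) {n : ℕ} (i : X ⟶ CohB1.ProjSpaceOver n S) [IsClosedImmersion i]
    (hi : i ≫ CohB1.ProjSpaceOver.toBase n S = f) : Nonempty (Atlas f) := by
  have hM : ∀ V : S.affineOpens, Nonempty (DivMod f V.1) := fun V =>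
    haveI := isNoetherian_affine V
    nonempty_divMod V.1 i hi
  let M := fun V => (hM V).some
  let E := fun V => (nonempty_rel (M V).Z (dvCls (M V).D)).some
  exact ⟨⟨M, E, fun V a =>
    haveI := isNoetherian_affine V
    (nonempty_piece ha (E V) a).some⟩⟩

variable (A : Pic X) (𝒜 : Atlas f)

/-- The index of the pieces. -/
abbrev Atlas.Idx : Type u := Σ V : S.affineOpens, Σ _ : ℕ, (𝒜.M V).ι

/-- A piece. -/
abbrev Atlas.obj (x : 𝒜.Idx) : Over S := (𝒜.P x.1 x.2.2).Q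

/-- The element of a piece. -/
def Atlas.el (x : 𝒜.Idx) : El f (𝒜.obj x) := twEl A (-(x.2.1 : ℤ)) (𝒜.P x.1 x.2.2).u

theorem Atlas.map_el_eq_iff (x : 𝒜.Idx) {T : Over S} (a : T ⟶ 𝒜.obj x) (s : El f T) :
    mapEl a (𝒜.el A x) = s ↔ mapEl a (𝒜.P x.1 x.2.2).u = twEl A (x.2.1 : ℤ) s := by
  rw [Atlas.el, mapEl_twEl]
  constructor
  · rintro rfl
    rw [twEl_twEl, neg_add_cancel, twEl_zero]
  · intro h
    rw [h, twEl_twEl, add_neg_cancel, twEl_zero]

theorem exists_representableBy (𝒜 : Atlas f) (ha : InvDescLib.UnivConst f)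
    (hA : ∀ T : Over S, RelAmple.IsRelVeryAmplePn (PicF.XTproj f T) (rep (twA (f := f) A T))) :
    ∃ Y : Over S, Nonempty ((picFun f).RepresentableBy Y) := by
  refine OverRep.exists_representableBy_of_cover (isSheaf_picFun ha) 𝒜.obj (fun x => ofEl (𝒜.el A x)) ?_ ?_ ?_
  · intro x T a b h
    have h' := congrArg toEl h
    rw [toEl_map, toEl_map, toEl_ofEl, (𝒜.map_el_eq_iff A x a _)] at h'
    refine (𝒜.P x.1 x.2.2).mono T a b (h'.trans ?_)
    exact ((𝒜.map_el_eq_iff A x b _).1 rfl).symm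
  · intro x T s
    obtain ⟨O, hO⟩ := exists_open_piece ha (𝒜.E x.1) (𝒜.P x.1 x.2.2) (twEl A (x.2.1 : ℤ) (toEl s))
    refine ⟨O, fun T' t => ?_⟩
    rw [← hO T' t]
    refine exists_congr fun a => ?_
    rw [← toEl_injective.eq_iff, toEl_map, toEl_map, toEl_ofEl, (𝒜.map_el_eq_iff A x a _), mapEl_twEl]
  · intro T s p
    obtain ⟨m, hm⟩ := exists_twist_good A hA (toEl s) p
    obtain ⟨V, hV, hpV, -⟩ := exists_isAffineOpen_mem_and_subset (x := T.hom p) (U := ⊤) trivial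
    obtain ⟨a, T', t, x, ht, hp, hx⟩ := exists_piece_nhd ha (𝒜.E ⟨V, hV⟩) (𝒜.P ⟨V, hV⟩)
      (twEl A (m : ℤ) (toEl s)) p (hm m le_rfl) hpV
    refine ⟨⟨⟨V, hV⟩, m, a⟩, T', t, x, ht, hp, toEl_injective ?_⟩
    rw [toEl_map, toEl_map, toEl_ofEl, (𝒜.map_el_eq_iff A ⟨⟨V, hV⟩, m, a⟩ x _)]
    exact hx.trans (mapEl_twEl A (m : ℤ) t _)

section

variable {Y : Over S} (R : (picFun f).RepresentableBy Y)

/-- The morphism of a piece to the representing scheme. -/
def Atlas.toY (x : 𝒜.Idx) : 𝒜.obj x ⟶ Y := R.homEquiv.symm (ofEl (𝒜.el A x))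

theorem Atlas.elOf_toY (x : 𝒜.Idx) : elOf R (𝒜.toY A R x) = 𝒜.el A x := by
  rw [elOf, Atlas.toY, Equiv.apply_symm_apply, toEl_ofEl]

theorem Atlas.mono_toY (x : 𝒜.Idx) : Mono (𝒜.toY A R x).left := by
  refine ⟨fun {W} a b h => ?_⟩
  let T : Over S := Over.mk (a ≫ (𝒜.obj x).hom)
  let a' : T ⟶ 𝒜.obj x := Over.homMk a rfl
  let b' : T ⟶ 𝒜.obj x := Over.homMk b (by
    show b ≫ (𝒜.obj x).hom = a ≫ (𝒜.obj x).hom
    rw [← Over.w (𝒜.toY A R x), reassoc_of% h])
  have h' : mapEl a' (𝒜.el A x) = mapEl b' (𝒜.el A x) := by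
    rw [← 𝒜.elOf_toY A R x, ← elOf_comp, ← elOf_comp]
    exact congrArg _ (Over.OverMorphism.ext h)
  exact congrArg CommaMorphism.left ((𝒜.P x.1 x.2.2).mono T a' b'
    (((𝒜.map_el_eq_iff A x a' _).1 h').trans ((𝒜.map_el_eq_iff A x b' _).1 rfl).symm))

variable (ha : InvDescLib.UnivConst f)
include ha

theorem Atlas.isOpenImmersion_toY (x : 𝒜.Idx) : IsOpenImmersion (𝒜.toY A R x).left := by
  obtain ⟨O, hO⟩ := exists_open_piece ha (𝒜.E x.1) (𝒜.P x.1 x.2.2) (twEl A (x.2.1 : ℤ) (elOf R (𝟙 Y)))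
  let c := 𝒜.toY A R x
  have hc : Set.range c.left ⊆ O := (hO _ c).1 ⟨𝟙 _, by
    rw [mapEl_id, mapEl_twEl, ← elOf_comp, Category.comp_id, 𝒜.elOf_toY A R x, Atlas.el, twEl_twEl,
      neg_add_cancel, twEl_zero]⟩
  obtain ⟨a, ha'⟩ := (hO (AbDual.ovr Y O.ι) (AbDual.ovrHom Y O.ι)).2
    (by show Set.range O.ι ⊆ _; rw [Scheme.Opens.range_ι])
  have hac : a ≫ c = AbDual.ovrHom Y O.ι := by
    apply elOf_injective R
    rw [elOf_comp, 𝒜.elOf_toY A R x, (𝒜.map_el_eq_iff A x a _)]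
    refine ha'.trans ?_
    rw [mapEl_twEl, ← elOf_comp, Category.comp_id]
  let c₀ := IsOpenImmersion.lift O.ι c.left (by rw [Scheme.Opens.range_ι]; exact hc)
  have hc₀ : c₀ ≫ O.ι = c.left := IsOpenImmersion.lift_fac _ _ _
  have hac' : a.left ≫ c.left = O.ι := congrArg CommaMorphism.left hac
  haveI := 𝒜.mono_toY A R x
  have h₁ : c₀ ≫ a.left = 𝟙 _ := by
    rw [← cancel_mono c.left, Category.assoc, hac', hc₀, Category.id_comp]
  have h₂ : a.left ≫ c₀ = 𝟙 _ := by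
    rw [← cancel_mono O.ι, Category.assoc, hc₀, hac', Category.id_comp]
  haveI : IsIso c₀ := ⟨a.left, h₁, h₂⟩
  rw [← hc₀]
  infer_instance

theorem Atlas.exists_mem_range
    (hA : ∀ T : Over S, RelAmple.IsRelVeryAmplePn (PicF.XTproj f T) (rep (twA (f := f) A T))) (p : Y.left) :
    ∃ x : 𝒜.Idx, p ∈ Set.range (𝒜.toY A R x).left := by
  obtain ⟨m, hm⟩ := exists_twist_good A hA (elOf R (𝟙 Y)) p
  obtain ⟨V, hV, hpV, -⟩ := exists_isAffineOpen_mem_and_subset (x := Y.hom p) (U := ⊤) trivial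
  obtain ⟨a, T', t, x, -, ⟨z, hz⟩, hx⟩ := exists_piece_nhd ha (𝒜.E ⟨V, hV⟩) (𝒜.P ⟨V, hV⟩)
    (twEl A (m : ℤ) (elOf R (𝟙 Y))) p (hm m le_rfl) hpV
  let i : 𝒜.Idx := ⟨⟨V, hV⟩, m, a⟩
  refine ⟨i, x.left z, ?_⟩
  have e : x ≫ 𝒜.toY A R i = t := by
    apply elOf_injective R
    rw [elOf_comp, 𝒜.elOf_toY A R i, (𝒜.map_el_eq_iff A i x _)]
    refine hx.trans ?_
    rw [mapEl_twEl, ← elOf_comp, Category.comp_id]
  rw [← Scheme.Hom.comp_apply, show x.left ≫ (𝒜.toY A R i).left = t.left from congrArg CommaMorphism.left e, hz]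

include R in
theorem locallyOfFiniteType_of_atlas (𝒜 : Atlas f)
    (hA : ∀ T : Over S, RelAmple.IsRelVeryAmplePn (PicF.XTproj f T) (rep (twA (f := f) A T))) :
    LocallyOfFiniteType Y.hom := by
  choose x hx using 𝒜.exists_mem_range A R ha hA
  let 𝒰 : Y.left.OpenCover :=
    { I₀ := Y.left
      X := fun p => (𝒜.obj (x p)).left
      f := fun p => (𝒜.toY A R (x p)).left
      mem₀ := by
        rw [Scheme.presieve₀_mem_precoverage_iff]
        exact ⟨fun p => ⟨p, hx p⟩, fun p => 𝒜.isOpenImmersion_toY A R ha (x p)⟩ }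
  refine IsZariskiLocalAtSource.of_openCover 𝒰 fun p => ?_
  show LocallyOfFiniteType ((𝒜.toY A R (x p)).left ≫ Y.hom)
  rw [Over.w]
  obtain ⟨N, j, hj, hj'⟩ := (𝒜.P (x p).1 (x p).2.2).embed
  haveI := hj
  haveI : IsProper (CohB1.ProjSpaceOver.toBase N ((x p).1.1 : Scheme.{u})) := BCLib.isProper_toBase _ _
  rw [← hj']
  infer_instance

end

end Groth.Agent.PicSch
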