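import Groth.Agent.PicSchLib.DvNear
import Groth.Agent.FComplLib.Completion

/-!
# Canonical sections under inverse images
-/

set_option autoImplicit false
set_option backward.isDefEq.respectTransparency false
set_option backward.isDefEq.respectTransparency.types false
set_option linter.style.haveILetI false
set_option maxHeartbeats 1000000

universe u

open CategoryTheory CategoryTheory.Limits AlgebraicGeometry TopologicalSpace Opposite
open Groth.Agent.PicLib Groth.Agent.ParaFLib Groth.Agent.PullbackMod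

noncomputable section

namespace Groth.Agent.PicSch

variable {Y' Y : Scheme.{u}} {K K' : Y.IdealSheafData} {L : Y.Modules}

theorem isCanSect_comap (k : Y' ⟶ Y) (hL : PicF.IsInvertible L) {s : Γ(L, ⊤)} (hs : AbelMapLib.IsCanSect K L s) :
    AbelMapLib.IsCanSect (K.comap k) ((Scheme.Modules.pullback k).obj L) (pullMap k L (le_refl (k ⁻¹ᵁ ⊤)) s) := by
  intro y
  obtain ⟨W, hyW, l, a, hl, hI, hsa⟩ := hs (k y)
  obtain ⟨W', hW', hyW', hle'⟩ := exists_isAffineOpen_mem_and_subset (U := k ⁻¹ᵁ W.1) (show y ∈ k ⁻¹ᵁ W.1 from hyW)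
  have hle : W' ≤ k ⁻¹ᵁ W.1 := hle'
  refine ⟨⟨W', hW'⟩, hyW', pullMap k L hle l, k.appLE W.1 W' hle a, CubeLib.gen_pullMap k hL hl hle, ?_, ?_⟩
  · rw [IdealStalkLib.comap_ideal K k W.2 hW' hle, hI, Ideal.map_span, Set.image_singleton]
  · refine (pullMap_res k L le_rfl (le_top : W.1 ≤ ⊤) (le_top : W' ≤ k ⁻¹ᵁ ⊤) hle s).trans ?_
    rw [hsa, pullMap_smul]

theorem isCanSect_iso {L' : Y.Modules} (φ : L ≅ L') {s : Γ(L, ⊤)} (hs : AbelMapLib.IsCanSect K L s) :
    AbelMapLib.IsCanSect K L' (φ.hom.app ⊤ s) := by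
  intro y
  obtain ⟨W, hyW, l, a, hl, hI, hsa⟩ := hs y
  refine ⟨W, hyW, φ.hom.app W.1 l, a, gen_of_modIso φ hl, hI, ?_⟩
  rw [← GenBCLib.appRes φ.hom le_top s, hsa, Scheme.Modules.Hom.app_smul]

theorem isCanSect_smul {s : Γ(L, ⊤)} (hs : AbelMapLib.IsCanSect K L s) {v : Γ(Y, ⊤)} (hv : IsUnit v) :
    AbelMapLib.IsCanSect K L (v • s) := by
  intro y
  obtain ⟨W, hyW, l, a, hl, hI, hsa⟩ := hs y
  refine ⟨W, hyW, l, Y.presheaf.map (homOfLE le_top).op v * a, hl, ?_, ?_⟩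
  · rw [hI, Ideal.span_singleton_mul_left_unit (hv.map _)]
  · rw [L.map_smul, hsa, mul_smul]

theorem isCanSect_unique (hL : PicF.IsInvertible L) {s : Γ(L, ⊤)} (hs : AbelMapLib.IsCanSect K L s)
    (hs' : AbelMapLib.IsCanSect K' L s) : K = K' := by
  have h : ∀ {A B : Y.IdealSheafData}, AbelMapLib.IsCanSect A L s → AbelMapLib.IsCanSect B L s → A ≤ B :=
    fun {A B} hA hB => by
      obtain ⟨k, hk⟩ := (AbelMapLib.pullMap_eq_zero_iff A hL hA B.subschemeι).1
        ((AbelMapLib.pullMap_eq_zero_iff B hL hB B.subschemeι).2 ⟨𝟙 _, Category.id_comp _⟩)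
      calc A = A.subschemeι.ker := (Scheme.IdealSheafData.ker_subschemeι A).symm
        _ ≤ (k ≫ A.subschemeι).ker := Scheme.Hom.le_ker_comp _ _
        _ = B := by rw [hk, Scheme.IdealSheafData.ker_subschemeι]
  exact le_antisymm (h hs hs') (h hs' hs)

/-- A section whose inverse image generates at a point generates at its image. -/
theorem gen_of_gen_pullMap (k : Y' ⟶ Y) (hL : PicF.IsInvertible L) {U : Y.Opens} {W : Y'.Opens} (le : W ≤ k ⁻¹ᵁ U)
    (s : Γ(L, U)) {y : Y'} (hy : y ∈ W)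
    (h : Function.Bijective fun r : Y'.presheaf.stalk y => r •
      ((Scheme.Modules.pullback k).obj L).presheaf.germ W y hy (pullMap k L le s)) :
    Function.Bijective fun r : Y.presheaf.stalk (k y) => r • L.presheaf.germ U (k y) (le hy) s := by
  haveI := InvExt.isQCoh_of_isInvertible hL
  obtain ⟨e, he⟩ := ParaFLib.exists_stalk_gen hL (k y)
  obtain ⟨a, ha⟩ := he.2 (L.presheaf.germ U (k y) (le hy) s)
  change a • e = _ at ha
  rw [← ha, AmpleLib.bijective_smul_iff he]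
  rw [← pullStalk_germ' k L y (show k y ∈ U from le hy) hy le, ← ha, pullStalk_smul] at h
  exact isUnit_of_map_unit (k.stalkMap y).hom a
    ((AmpleLib.bijective_smul_iff (AmpleLib.bijective_pullStalk k y he) _).1 h)

theorem ne_zero_of_isCanSect [Nonempty Y] {s : Γ(L, ⊤)} (hK : BlowUp.IsEffCartierIdeal K)
    (hs : AbelMapLib.IsCanSect K L s) : s ≠ 0 := by
  intro h
  obtain ⟨y⟩ := ‹Nonempty Y›
  obtain ⟨W, hyW, l, a, hl, hI, hsa⟩ := hs y
  obtain ⟨U, hyU, b, hb, hIU⟩ := hK y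
  rw [h, map_zero] at hsa
  have ha : a = 0 := (hl W.1 le_rfl).1 (by
    show a • _ = (0 : Γ(Y, W.1)) • _
    rw [ParaFLib.res_self, ← hsa, zero_smul])
  obtain ⟨V, hV, hyV, hle⟩ := exists_isAffineOpen_mem_and_subset (U := U.1 ⊓ W.1) ⟨hyU, hyW⟩
  have h₁ : V ≤ U.1 := fun z hz => (hle hz).1
  have h₂ : V ≤ W.1 := fun z hz => (hle hz).2
  have hb0 : Y.presheaf.map (homOfLE h₁).op b = 0 := by
    have e₁ := K.map_ideal (U := ⟨V, hV⟩) (V := U) h₁
    have e₂ := K.map_ideal (U := ⟨V, hV⟩) (V := W) h₂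
    rw [hI, ha, Ideal.map_span, Set.image_singleton, map_zero, ← e₁, hIU, Ideal.map_span, Set.image_singleton] at e₂
    exact Ideal.span_singleton_eq_bot.1 (e₂.symm.trans (Ideal.span_singleton_eq_bot.2 rfl))
  haveI : Nonempty V := ⟨⟨y, hyV⟩⟩
  exact one_ne_zero (eq_zero_of_mul_res U hb h₁ 1 (by rw [one_mul, hb0]))

end Groth.Agent.PicSch
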